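import Mathlib

/-!
The arithmetic of the order formula for a semidihedral Sylow 2-subgroup with cyclic odd Sylow subgroups.
-/

set_option autoImplicit false

namespace Cfsg.Agent.H71.AlmostCyclic

section Val

variable {r : ℕ}

theorem padicValInt_pow [Fact r.Prime] {a : ℤ} (ha : a ≠ 0) (k : ℕ) :
    padicValInt r (a ^ k) = k * padicValInt r a := by
  induction k with
  | zero => simp
  | succ k ih => rw [pow_succ, padicValInt.mul (pow_ne_zero _ ha) ha, ih]; ring

theorem one_le_padicValInt [Fact r.Prime] {a : ℤ} (ha : a ≠ 0) :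
    1 ≤ padicValInt r a ↔ (r : ℤ) ∣ a := by
  have := padicValInt_dvd_iff (p := r) 1 a
  rw [pow_one] at this
  rw [this]
  exact ⟨Or.inr, fun h => h.resolve_left ha⟩

theorem padicValInt_eq_zero [Fact r.Prime] {a : ℤ} (h : ¬(r : ℤ) ∣ a) : padicValInt r a = 0 :=
  padicValInt.eq_zero_of_not_dvd h

theorem padicValInt_add_of_lt [Fact r.Prime] {a b : ℤ} (ha : a ≠ 0) (hb : b ≠ 0) (hab : a + b ≠ 0)
    (h : padicValInt r a < padicValInt r b) : padicValInt r (a + b) = padicValInt r a := by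
  refine le_antisymm ?_ ?_
  · by_contra hc
    push Not at hc
    have h1 : (r : ℤ) ^ (padicValInt r a + 1) ∣ a + b :=
      (padicValInt_dvd_iff _ _).2 (Or.inr hc)
    have h2 : (r : ℤ) ^ (padicValInt r a + 1) ∣ b := (padicValInt_dvd_iff _ _).2 (Or.inr h)
    have h3 := (padicValInt_dvd_iff _ _).1 (show (r : ℤ) ^ (padicValInt r a + 1) ∣ a by
      have := dvd_sub h1 h2; simpa using this)
    rcases h3 with h3 | h3
    · exact ha h3
    · omega
  · have h1 : (r : ℤ) ^ padicValInt r a ∣ a + b :=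
      dvd_add (padicValInt_dvd a) ((padicValInt_dvd_iff _ _).2 (Or.inr h.le))
    exact ((padicValInt_dvd_iff _ _).1 h1).resolve_left hab

theorem natAbs_eq_two_mul_or {d : ℤ} (hd : d ≠ 0) {g : ℕ} (hg : Odd g)
    (h2 : padicValInt 2 d = 1) (hdr : ∀ r : ℕ, r.Prime → r ≠ 2 →
      padicValInt r d = padicValNat r g ∨ (r = 3 ∧ padicValInt r d + 1 = padicValNat r g)) :
    d.natAbs = 2 * g ∨ (3 ∣ g ∧ 3 * d.natAbs = 2 * g) := by
  haveI : Fact (Nat.Prime 2) := ⟨Nat.prime_two⟩
  haveI : Fact (Nat.Prime 3) := ⟨Nat.prime_three⟩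
  have hn : d.natAbs ≠ 0 := Int.natAbs_ne_zero.2 hd
  have hg0 : g ≠ 0 := by rintro rfl; simp at hg
  have hv2 : padicValNat 2 (2 * g) = 1 := by
    rw [padicValNat.mul two_ne_zero hg0, padicValNat_self,
      padicValNat.eq_zero_of_not_dvd (by intro h; exact (Nat.not_even_iff_odd.2 hg) (even_iff_two_dvd.2 h))]
  have hvr : ∀ r : ℕ, r.Prime → r ≠ 2 → padicValNat r (2 * g) = padicValNat r g := fun r hr hr2 => by
    haveI : Fact r.Prime := ⟨hr⟩
    rw [padicValNat.mul two_ne_zero hg0, padicValNat.eq_zero_of_not_dvd, zero_add]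
    intro h
    exact hr2 ((Nat.prime_dvd_prime_iff_eq hr Nat.prime_two).1 h)
  by_cases h3 : padicValInt 3 d = padicValNat 3 g
  · left
    refine Nat.eq_iff_prime_padicValNat_eq _ _ hn (by omega) |>.2 fun r hr => ?_
    haveI : Fact r.Prime := ⟨hr⟩
    by_cases hr2 : r = 2
    · subst hr2; rw [hv2]; exact h2
    · rw [hvr r hr hr2]
      rcases hdr r hr hr2 with h | ⟨rfl, -⟩
      · exact h
      · exact h3
  · right
    have h3' := (hdr 3 Nat.prime_three (by norm_num)).resolve_left h3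
    have hdvd : 3 ∣ g := dvd_of_one_le_padicValNat (by omega)
    refine ⟨hdvd, Nat.eq_iff_prime_padicValNat_eq _ _ (by omega) (by omega) |>.2 fun r hr => ?_⟩
    haveI : Fact r.Prime := ⟨hr⟩
    rw [padicValNat.mul (by norm_num) hn]
    by_cases hr2 : r = 2
    · subst hr2
      rw [hv2, padicValNat.eq_zero_of_not_dvd (by norm_num), zero_add]; exact h2
    · rw [hvr r hr hr2]
      by_cases hr3 : r = 3
      · subst hr3
        rw [padicValNat_self]
        have : padicValNat 3 d.natAbs = padicValInt 3 d := rfl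
        omega
      · rw [padicValNat.eq_zero_of_not_dvd
          (fun h => hr3 ((Nat.prime_dvd_prime_iff_eq hr Nat.prime_three).1 h)), zero_add]
        exact ((hdr r hr hr2).resolve_right fun h => hr3 h.1)

end Val

/-- The numerical data attached to the involution centralizer. -/
structure OrderData where
  p : ℕ
  hp : p.Prime
  ε : ℤ
  hε : ε = 1 ∨ ε = -1
  n : ℕ
  hn : 4 ≤ n
  g : ℕ
  h : ℕ
  o : ℕ
  o' : ℕ
  G : ℕ
  hg : Odd g
  hh : Odd h
  ho : Odd o
  ho' : o' ∣ o
  hM : (p : ℤ) - ε = 2 ^ (n - 2) * h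
  hg' : (p : ℤ) + ε = 2 * g
  hG : padicValNat 2 G = n
  hw : ∀ r : ℕ, r.Prime → r ≠ 2 → r ∣ 4 * g * o' →
    padicValNat r (4 * g * o') = padicValNat r (2 ^ n * p * g * h * o)
  ha : ∀ r : ℕ, r.Prime → r ≠ 2 → r ∣ 2 ^ n * p * g * h * o →
    padicValNat r G = padicValNat r (2 ^ n * p * g * h * o) ∨
      (r = 3 ∧ padicValNat r G = padicValNat r (2 ^ n * p * g * h * o) + 1 ∧
        padicValNat r (4 * g * o') = padicValNat r (2 ^ n * p * g * h * o))

namespace OrderData

variable (D : OrderData)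

/-- The order of the centralizer of the involution. -/
def C : ℕ := 2 ^ D.n * D.p * D.g * D.h * D.o

/-- The order of the centralizer of the four-group. -/
def CV : ℕ := 4 * D.g * D.o'

theorem ne_zero : D.C ≠ 0 ∧ D.CV ≠ 0 ∧ D.g ≠ 0 ∧ D.h ≠ 0 ∧ D.o ≠ 0 ∧ D.o' ≠ 0 := by
  have hp := D.hp.ne_zero
  have hg : D.g ≠ 0 := by intro e; simpa [e] using D.hg
  have hh : D.h ≠ 0 := by intro e; simpa [e] using D.hh
  have ho : D.o ≠ 0 := by intro e; simpa [e] using D.ho
  have ho' : D.o' ≠ 0 := fun e => ho (zero_dvd_iff.1 (e ▸ D.ho'))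
  refine ⟨?_, ?_, hg, hh, ho, ho'⟩
  · simp [C, hp, hg, hh, ho]
  · simp [CV, hg, ho']

theorem padic_C {r : ℕ} [hr : Fact r.Prime] :
    padicValNat r D.C = D.n * padicValNat r 2 + padicValNat r D.p + padicValNat r D.g +
      padicValNat r D.h + padicValNat r D.o := by
  obtain ⟨-, -, hg, hh, ho, -⟩ := D.ne_zero
  have hp := D.hp.ne_zero
  have h2 : (2 : ℕ) ^ D.n ≠ 0 := by positivity
  rw [C, padicValNat.mul (by simp [hp, hg, hh]) ho, padicValNat.mul (by simp [hp, hg]) hh,
    padicValNat.mul (by simp [hp]) hg, padicValNat.mul h2 hp, padicValNat.pow _]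

theorem padic_CV {r : ℕ} [hr : Fact r.Prime] :
    padicValNat r D.CV = 2 * padicValNat r 2 + padicValNat r D.g + padicValNat r D.o' := by
  obtain ⟨-, -, hg, -, -, ho'⟩ := D.ne_zero
  rw [CV, padicValNat.mul (by simp [hg]) ho', padicValNat.mul (by norm_num) hg,
    show (4 : ℕ) = 2 ^ 2 from rfl, padicValNat.pow _]

theorem sq_sub_one : ((D.p : ℤ) ^ 2 - 1) = 2 ^ (D.n - 1) * (D.g * D.h) := by
  have h1 : (2 : ℤ) ^ (D.n - 1) = 2 * 2 ^ (D.n - 2) := by
    rw [← pow_succ']; congr 1; have := D.hn; omega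
  have h2 : D.ε * D.ε = 1 := by rcases D.hε with e | e <;> rw [e] <;> norm_num
  rw [h1]
  linear_combination ((D.p : ℤ) + D.ε) * D.hM + (2 : ℤ) ^ (D.n - 2) * D.h * D.hg' + h2

theorem p_ne_two : D.p ≠ 2 := fun e => by
  have h1 := D.hg'
  rw [e] at h1
  rcases D.hε with e | e <;> omega

theorem p_coprime : ¬ D.p ∣ D.g ∧ ¬ D.p ∣ D.h := by
  have h2 := D.p_ne_two
  have hp := D.hp.two_le
  constructor <;> intro hd
  · have h1 : (D.p : ℤ) ∣ (D.p : ℤ) + D.ε := by
      rw [D.hg']; exact Dvd.dvd.mul_left (Int.natCast_dvd_natCast.2 hd) _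
    have := (Int.dvd_add_right (dvd_refl _)).1 h1
    have := Int.le_of_dvd (by rcases D.hε with e | e <;> rw [e] <;> norm_num) (dvd_abs_self this)
    rcases D.hε with e | e <;> rw [e] at this <;> norm_num at this <;> omega
  · have h1 : (D.p : ℤ) ∣ (D.p : ℤ) - D.ε := by
      rw [D.hM]; exact Dvd.dvd.mul_left (Int.natCast_dvd_natCast.2 hd) _
    have := (dvd_sub_right (dvd_refl _)).1 h1
    have := Int.le_of_dvd (by rcases D.hε with e | e <;> rw [e] <;> norm_num) (dvd_abs_self this)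
    rcases D.hε with e | e <;> rw [e] at this <;> norm_num at this <;> omega
where
  dvd_abs_self {a b : ℤ} (h : a ∣ b) : a ∣ |b| := (dvd_abs a b).2 h

/-- The order formula leaves a single possibility. -/
theorem exceptional {F F₃ : ℤ} (hF0 : F ≠ 0) (hF1 : F + 1 ≠ 0) (hX : F + 1 + D.ε * D.p ≠ 0)
    (hF3 : F₃ * ((D.p : ℤ) ^ 2 - 1 - F) = F * (F + 1))
    (heq : (D.G : ℤ) * (F + 1 + D.ε * D.p) ^ 2 * (D.CV : ℤ) ^ 2 * D.p =
      (D.C : ℤ) ^ 3 * ((D.p : ℤ) + D.ε) * F * (F + 1)) :
    D.p = 5 ∧ D.n = 4 ∧ D.g = 3 ∧ D.h = 1 ∧ D.ε = 1 ∧ D.o' = D.o ∧ D.G = 357 * D.C := by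
  obtain ⟨hC0, hCV0, hg0, hh0, ho0, ho'0⟩ := D.ne_zero
  have hpe : (D.p : ℤ) + D.ε ≠ 0 := by rw [D.hg']; simpa using hg0
  have hp0 : (D.p : ℤ) ≠ 0 := by exact_mod_cast D.hp.ne_zero
  have hrhs : (D.C : ℤ) ^ 3 * ((D.p : ℤ) + D.ε) * F * (F + 1) ≠ 0 := by
    simp [hC0, hpe, hF0, hF1]
  have hG0 : D.G ≠ 0 := by
    intro e; apply hrhs; rw [← heq, e]; simp
  have hG' : (D.G : ℤ) ≠ 0 := by exact_mod_cast hG0
  have hval : ∀ r : ℕ, r.Prime →
      padicValNat r D.G + 2 * padicValInt r (F + 1 + D.ε * D.p) + 2 * padicValNat r D.CV +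
        padicValNat r D.p = 3 * padicValNat r D.C + padicValInt r ((D.p : ℤ) + D.ε) +
        padicValInt r F + padicValInt r (F + 1) := fun r hr => by
    haveI : Fact r.Prime := ⟨hr⟩
    have hC' : (D.C : ℤ) ≠ 0 := by exact_mod_cast hC0
    have hCV' : (D.CV : ℤ) ≠ 0 := by exact_mod_cast hCV0
    have := congrArg (padicValInt r) heq
    have hX2 := pow_ne_zero 2 hX
    have hV2 := pow_ne_zero 2 hCV'
    have hC3 := pow_ne_zero 3 hC'
    rwa [padicValInt.mul (mul_ne_zero (mul_ne_zero hG' hX2) hV2) hp0,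
      padicValInt.mul (mul_ne_zero hG' hX2) hV2,
      padicValInt.mul hG' hX2, padicValInt_pow hX, padicValInt_pow hCV',
      padicValInt.mul (mul_ne_zero (mul_ne_zero hC3 hpe) hF0) hF1,
      padicValInt.mul (mul_ne_zero hC3 hpe) hF0,
      padicValInt.mul hC3 hpe, padicValInt_pow hC', padicValInt.of_nat, padicValInt.of_nat,
      padicValInt.of_nat, padicValInt.of_nat] at this
  have hnp := D.p_ne_two
  -- the prime `p`
  haveI hpf : Fact D.p.Prime := ⟨D.hp⟩
  obtain ⟨hpg, hph⟩ := D.p_coprime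
  have hp2' : padicValNat D.p 2 = 0 := padicValNat.eq_zero_of_not_dvd fun h =>
    hnp ((Nat.prime_dvd_prime_iff_eq D.hp Nat.prime_two).1 h)
  have hpgv : padicValNat D.p D.g = 0 := padicValNat.eq_zero_of_not_dvd hpg
  have hphv : padicValNat D.p D.h = 0 := padicValNat.eq_zero_of_not_dvd hph
  have hoo : ∀ r : ℕ, r.Prime → padicValNat r D.o' ≤ padicValNat r D.o := fun r hr => by
    haveI : Fact r.Prime := ⟨hr⟩
    exact (padicValNat_dvd_iff_le ho0).1 ((pow_padicValNat_dvd (p := r) (n := D.o')).trans D.ho')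
  have hcp : padicValNat D.p D.C = 1 + padicValNat D.p D.o := by
    rw [D.padic_C, hp2', padicValNat_self, hpgv, hphv]; omega
  have hwp : padicValNat D.p D.CV = padicValNat D.p D.o' := by
    rw [D.padic_CV, hp2', hpgv]; omega
  have hpC : D.p ∣ D.C := dvd_of_one_le_padicValNat (by omega)
  have hw0 : padicValNat D.p D.o' = 0 := by
    by_contra hne
    have := D.hw D.p D.hp hnp (show D.p ∣ D.CV from dvd_of_one_le_padicValNat (by omega))
    change padicValNat D.p D.CV = padicValNat D.p D.C at this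
    have := hoo D.p D.hp
    omega
  have hap : padicValNat D.p D.G = padicValNat D.p D.C :=
    (D.ha D.p D.hp hnp hpC).resolve_right fun h => by
      have h' : padicValNat D.p D.CV = padicValNat D.p D.C := h.2.2
      omega
  have hpe' : padicValInt D.p ((D.p : ℤ) + D.ε) = 0 := by
    rw [D.hg', padicValInt.mul two_ne_zero (by exact_mod_cast hg0), padicValInt.of_nat, hpgv,
      show (2 : ℤ) = ((2 : ℕ) : ℤ) from rfl, padicValInt.of_nat, hp2']
  have hvp := hval D.p D.hp
  rw [hap, hwp, hw0, padicValNat_self, hpe'] at hvp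
  have hpX : (D.p : ℤ) ∣ F + 1 + D.ε * D.p := (one_le_padicValInt hX).1 (by omega)
  have hpF1 : (D.p : ℤ) ∣ F + 1 := (Int.dvd_add_left (dvd_mul_left _ _)).1 hpX
  obtain ⟨q, hq⟩ := hpF1
  set d : ℤ := D.p - q with hd
  set e : ℤ := D.p + D.ε - d with he
  have hF : F = ((D.p : ℤ) ^ 2 - 1) - D.p * d := by rw [hd]; linear_combination hq
  have hFs : F + 1 = D.p * ((D.p : ℤ) - d) := by rw [hd]; linear_combination hq
  have hXe : F + 1 + D.ε * D.p = D.p * e := by rw [he, hd]; linear_combination hq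
  have hd0 : d ≠ 0 := fun h0 => by
    have hz : F₃ * ((D.p : ℤ) ^ 2 - 1 - F) = 0 := by rw [hF, h0]; ring
    rw [hF3] at hz
    exact mul_ne_zero hF0 hF1 hz
  have he0 : e ≠ 0 := fun h0 => hX (by rw [hXe, h0, mul_zero])
  have hpd : ¬ (D.p : ℤ) ∣ d := fun hpd => by
    have h2 : 2 ≤ padicValInt D.p (F + 1) := by
      refine ((padicValInt_dvd_iff _ _).1 ?_).resolve_left hF1
      rw [hFs, pow_two]; exact mul_dvd_mul_left _ (dvd_sub (dvd_refl _) hpd)
    have hne : ¬ (D.p : ℤ) ∣ e := fun h => by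
      rw [he, add_sub_assoc, Int.dvd_add_right (dvd_refl _)] at h
      have h' := dvd_add h hpd
      rw [sub_add_cancel] at h'
      have := Int.le_of_dvd (by rcases D.hε with e | e <;> rw [e] <;> norm_num) ((dvd_abs _ _).2 h')
      have := D.hp.two_le
      rcases D.hε with e | e <;> rw [e] at * <;> norm_num at * <;> omega
    rw [hXe, padicValInt.mul hp0 he0, padicValInt.self D.hp.one_lt, padicValInt_eq_zero hne] at hvp
    omega
  have hdvd : d ∣ (D.p : ℤ) ^ 2 - 1 := by
    have h1 : F₃ * d = F * ((D.p : ℤ) - d) := by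
      refine mul_left_cancel₀ hp0 ?_
      rw [hFs] at hF3
      linear_combination hF3 + F₃ * hF
    have h2 : d ∣ (D.p : ℤ) * ((D.p : ℤ) ^ 2 - 1) := by
      refine ⟨F₃ + F + (D.p : ℤ) * D.p, ?_⟩
      linear_combination -h1 - (D.p : ℤ) * hF
    exact (((Nat.prime_iff_prime_int.1 D.hp).coprime_iff_not_dvd.2 hpd).symm).dvd_of_dvd_mul_left h2
  have hp1 : (D.p : ℤ) ^ 2 - 1 ≠ 0 := by
    rw [D.sq_sub_one]; simp [hg0, hh0]
  -- odd primes other than `p`
  have hodd : ∀ r : ℕ, r.Prime → r ≠ 2 → r ≠ D.p →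
      padicValNat r D.C = padicValNat r D.g + padicValNat r D.h + padicValNat r D.o ∧
      padicValNat r D.CV = padicValNat r D.g + padicValNat r D.o' ∧
      padicValInt r ((D.p : ℤ) + D.ε) = padicValNat r D.g ∧
      padicValInt r (F + 1 + D.ε * D.p) = padicValInt r e ∧
      padicValInt r ((D.p : ℤ) ^ 2 - 1) = padicValNat r D.g + padicValNat r D.h ∧
      padicValNat r D.p = 0 := fun r hr hr2 hrp => by
    haveI : Fact r.Prime := ⟨hr⟩
    have h2 : padicValNat r 2 = 0 := padicValNat.eq_zero_of_not_dvd fun h =>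
      hr2 ((Nat.prime_dvd_prime_iff_eq hr Nat.prime_two).1 h)
    have hp : padicValNat r D.p = 0 := padicValNat.eq_zero_of_not_dvd fun h =>
      hrp ((Nat.prime_dvd_prime_iff_eq hr D.hp).1 h)
    have h2' : padicValInt r 2 = 0 := by
      rw [show (2 : ℤ) = ((2 : ℕ) : ℤ) from rfl, padicValInt.of_nat, h2]
    refine ⟨by rw [D.padic_C, h2, hp]; omega, by rw [D.padic_CV, h2]; omega, ?_, ?_, ?_, hp⟩
    · rw [D.hg', padicValInt.mul two_ne_zero (by exact_mod_cast hg0), padicValInt.of_nat, h2', zero_add]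
    · rw [hXe, padicValInt.mul hp0 he0, padicValInt.of_nat, hp, zero_add]
    · rw [D.sq_sub_one, padicValInt.mul (by positivity) (by simp [hg0, hh0]), padicValInt_pow two_ne_zero,
        h2', padicValInt.mul (by exact_mod_cast hg0) (by exact_mod_cast hh0), padicValInt.of_nat,
        padicValInt.of_nat]
      omega
  have hndh : ∀ r : ℕ, r.Prime → r ≠ 2 → r ∣ D.h → ¬ (r : ℤ) ∣ d ∧ (r : ℤ) ∣ e := by
    intro r hr hr2 hrh
    haveI : Fact r.Prime := ⟨hr⟩
    have hrp : r ≠ D.p := fun h => hph (h ▸ hrh)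
    obtain ⟨hc, hw, hgv, hxv, -, hp⟩ := hodd r hr hr2 hrp
    have hh1 : 1 ≤ padicValNat r D.h := one_le_padicValNat_of_dvd hh0 hrh
    have hrg : ¬ r ∣ D.g := fun h => by
      have h1 : (r : ℤ) ∣ (D.p : ℤ) + D.ε := by
        rw [D.hg']; exact Dvd.dvd.mul_left (Int.natCast_dvd_natCast.2 h) _
      have h2 : (r : ℤ) ∣ (D.p : ℤ) - D.ε := by
        rw [D.hM]; exact Dvd.dvd.mul_left (Int.natCast_dvd_natCast.2 hrh) _
      have h3 := dvd_add h1 h2
      rw [show (D.p : ℤ) + D.ε + ((D.p : ℤ) - D.ε) = ((2 * D.p : ℕ) : ℤ) by push_cast; ring,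
        Int.natCast_dvd_natCast] at h3
      rcases (Nat.Prime.dvd_mul hr).1 h3 with h4 | h4
      · exact hr2 ((Nat.prime_dvd_prime_iff_eq hr Nat.prime_two).1 h4)
      · exact hrp ((Nat.prime_dvd_prime_iff_eq hr D.hp).1 h4)
    have hg1 : padicValNat r D.g = 0 := padicValNat.eq_zero_of_not_dvd hrg
    have hoo' := hoo r hr
    have hwz : padicValNat r D.CV = 0 := by
      by_contra hne
      have := D.hw r hr hr2 (show r ∣ D.CV from dvd_of_one_le_padicValNat (by omega))
      change padicValNat r D.CV = padicValNat r D.C at this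
      omega
    have hrC : r ∣ D.C := dvd_of_one_le_padicValNat (by omega)
    have hav : padicValNat r D.G = padicValNat r D.C :=
      (D.ha r hr hr2 hrC).resolve_right fun h => by
        have h' : padicValNat r D.CV = padicValNat r D.C := h.2.2
        omega
    have hv := hval r hr
    rw [hav, hwz, hxv, hgv, hp] at hv
    have hre : (r : ℤ) ∣ e := (one_le_padicValInt he0).1 (by omega)
    refine ⟨fun hrd => ?_, hre⟩
    have h3 : (r : ℤ) ∣ (D.p : ℤ) + D.ε := by
      have := dvd_add hre hrd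
      rwa [he, sub_add_cancel] at this
    rw [← one_le_padicValInt hpe] at h3
    omega
  have hndg : ∀ r : ℕ, r.Prime → r ≠ 2 → r ∣ D.g →
      padicValNat r D.o' = padicValNat r D.o ∧ (padicValInt r d = padicValNat r D.g ∨
        (r = 3 ∧ padicValInt r d + 1 = padicValNat r D.g)) := by
    intro r hr hr2 hrg
    haveI : Fact r.Prime := ⟨hr⟩
    have hrp : r ≠ D.p := fun h => hpg (h ▸ hrg)
    obtain ⟨hc, hw, hgv, hxv, hsq, hp⟩ := hodd r hr hr2 hrp
    have hg1 : 1 ≤ padicValNat r D.g := one_le_padicValNat_of_dvd hg0 hrg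
    have hh1 : padicValNat r D.h = 0 := padicValNat.eq_zero_of_not_dvd fun h => by
      obtain ⟨-, hre⟩ := hndh r hr hr2 h
      have h1 : (r : ℤ) ∣ (D.p : ℤ) + D.ε := by
        rw [D.hg']; exact Dvd.dvd.mul_left (Int.natCast_dvd_natCast.2 hrg) _
      exact (hndh r hr hr2 h).1 (by
        have h3 := dvd_sub h1 hre
        rwa [he, sub_sub_cancel] at h3)
    have hwc := D.hw r hr hr2 (show r ∣ D.CV from dvd_of_one_le_padicValNat (by omega))
    change padicValNat r D.CV = padicValNat r D.C at hwc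
    refine ⟨by omega, ?_⟩
    have hδ : padicValInt r d ≤ padicValNat r D.g := by
      have := ((padicValInt_dvd_iff _ _).1 ((padicValInt_dvd d (p := r)).trans hdvd)).resolve_left hp1
      omega
    rcases eq_or_lt_of_le hδ with h | h
    · exact Or.inl h
    have hv := hval r hr
    rw [hxv, hgv, hp] at hv
    have hev : padicValInt r e = padicValInt r d := by
      have hdd : padicValInt r (-d) = padicValInt r d := by simp [padicValInt]
      have := padicValInt_add_of_lt (r := r) (a := -d) (b := (D.p : ℤ) + D.ε) (neg_ne_zero.2 hd0) hpe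
        (by rw [he] at he0; exact fun h => he0 (by linear_combination h)) (by rw [hdd, hgv]; exact h)
      rw [hdd] at this
      rw [← this]; congr 1; rw [he]; ring
    have hFv : padicValInt r F = padicValInt r d := by
      have hdd : padicValInt r (-((D.p : ℤ) * d)) = padicValInt r d := by
        rw [show -((D.p : ℤ) * d) = (D.p : ℤ) * (-d) by ring,
          padicValInt.mul hp0 (neg_ne_zero.2 hd0), padicValInt.of_nat, hp]
        simp [padicValInt]
      have := padicValInt_add_of_lt (r := r) (a := -((D.p : ℤ) * d)) (b := (D.p : ℤ) ^ 2 - 1)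
        (neg_ne_zero.2 (mul_ne_zero hp0 hd0)) hp1 (fun h => hF0 (by rw [hF]; linear_combination h))
        (by rw [hdd, hsq]; omega)
      rw [hdd] at this
      rw [← this]; congr 1; rw [hF]; ring
    rw [hev, hFv] at hv
    rcases D.ha r hr hr2 (show r ∣ D.C from dvd_of_one_le_padicValNat (by omega)) with ha | ⟨hr3, ha, -⟩
    · change padicValNat r D.G = padicValNat r D.C at ha
      omega
    · change padicValNat r D.G = padicValNat r D.C + 1 at ha
      exact Or.inr ⟨hr3, by omega⟩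
  -- the prime two
  haveI h2f : Fact (Nat.Prime 2) := ⟨Nat.prime_two⟩
  have hn := D.hn
  have hnd2 : ∀ m : ℕ, Odd m → padicValNat 2 m = 0 := fun m hm =>
    padicValNat.eq_zero_of_not_dvd fun h => (Nat.not_even_iff_odd.2 hm) (even_iff_two_dvd.2 h)
  have hp2 : padicValNat 2 D.p = 0 := hnd2 _ (D.hp.odd_of_ne_two hnp)
  have hog : padicValNat 2 D.g = 0 := hnd2 _ D.hg
  have hoh : padicValNat 2 D.h = 0 := hnd2 _ D.hh
  have hoo2 : padicValNat 2 D.o = 0 := hnd2 _ D.ho
  have hoo2' : padicValNat 2 D.o' = 0 := hnd2 _ (D.ho.of_dvd_nat D.ho')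
  have hv := hval 2 Nat.prime_two
  rw [D.hG, hXe, padicValInt.mul hp0 he0, padicValInt.of_nat, hp2, D.padic_C, D.padic_CV,
    padicValNat_self, hp2, hog, hoh, hoo2, hoo2', D.hg', padicValInt.mul two_ne_zero (by exact_mod_cast hg0),
    padicValInt.of_nat, hog, show (2 : ℤ) = ((2 : ℕ) : ℤ) from rfl, padicValInt.of_nat, padicValNat_self] at hv
  have h8 : (8 : ℤ) ∣ e := by
    have := (padicValInt_dvd_iff (p := 2) 3 e).2 (Or.inr (by omega))
    simpa using this
  obtain ⟨g', hg''⟩ := D.hg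
  obtain ⟨u, hu⟩ := h8
  have hgz : (D.g : ℤ) = 2 * g' + 1 := by exact_mod_cast hg''
  have hd4 : d = 2 * (2 * g' + 1) - 8 * u := by
    rw [← hu, ← hgz, ← D.hg', he]; ring
  have hd2 : padicValInt 2 d = 1 := by
    apply le_antisymm
    · by_contra hc
      push Not at hc
      have h4 : ((2 : ℕ) : ℤ) ^ 2 ∣ d := (padicValInt_dvd_iff _ _).2 (Or.inr hc)
      norm_num at h4
      omega
    · refine (one_le_padicValInt hd0).2 ?_
      norm_num
      omega
  have hFodd : ¬ ((2 : ℕ) : ℤ) ∣ F + 1 := by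
    obtain ⟨m, hm⟩ := D.hp.odd_of_ne_two hnp
    have hm' : (D.p : ℤ) = 2 * m + 1 := by exact_mod_cast hm
    rw [hFs, hm', hd4]
    intro h
    rw [show ((2 : ℕ) : ℤ) = 2 from rfl] at h
    rcases (Int.prime_two.dvd_or_dvd h) with h | h <;> omega
  have hF2 : padicValInt 2 F = 1 := by
    have hsq : padicValInt 2 ((D.p : ℤ) ^ 2 - 1) = D.n - 1 := by
      rw [D.sq_sub_one, padicValInt.mul (by positivity) (by simp [hg0, hh0]), padicValInt_pow two_ne_zero,
        padicValInt.mul (by exact_mod_cast hg0) (by exact_mod_cast hh0), padicValInt.of_nat, hog,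
        padicValInt.of_nat, hoh, show (2 : ℤ) = ((2 : ℕ) : ℤ) from rfl, padicValInt.of_nat, padicValNat_self]
      omega
    have hdd : padicValInt 2 (-((D.p : ℤ) * d)) = 1 := by
      rw [show -((D.p : ℤ) * d) = (D.p : ℤ) * (-d) by ring,
        padicValInt.mul hp0 (neg_ne_zero.2 hd0), padicValInt.of_nat, hp2]
      simpa [padicValInt] using hd2
    have := padicValInt_add_of_lt (r := 2) (a := -((D.p : ℤ) * d)) (b := (D.p : ℤ) ^ 2 - 1)
      (neg_ne_zero.2 (mul_ne_zero hp0 hd0)) hp1 (fun h => hF0 (by rw [hF]; linear_combination h))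
      (by rw [hdd, hsq]; omega)
    rw [hdd] at this
    rw [← this]; congr 1; rw [hF]; ring
  rw [hF2, padicValInt_eq_zero hFodd] at hv
  have hve : padicValInt 2 e = D.n - 1 := by omega
  -- the size of `d`
  have hdr : ∀ r : ℕ, r.Prime → r ≠ 2 →
      padicValInt r d = padicValNat r D.g ∨ (r = 3 ∧ padicValInt r d + 1 = padicValNat r D.g) := by
    intro r hr hr2
    haveI : Fact r.Prime := ⟨hr⟩
    by_cases hrg : r ∣ D.g
    · exact (hndg r hr hr2 hrg).2
    left
    rw [padicValNat.eq_zero_of_not_dvd hrg]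
    refine padicValInt_eq_zero fun hrd => ?_
    rcases eq_or_ne r D.p with rfl | hrp
    · exact hpd hrd
    have h1 := (one_le_padicValInt hp1).2 (hrd.trans hdvd)
    obtain ⟨-, -, -, -, hsq, -⟩ := hodd r hr hr2 hrp
    have hg1 : padicValNat r D.g = 0 := padicValNat.eq_zero_of_not_dvd hrg
    exact (hndh r hr hr2 (dvd_of_one_le_padicValNat (by omega))).1 hrd
  have hnat := natAbs_eq_two_mul_or hd0 ⟨g', hg''⟩ hd2 hdr
  have heg : e = 2 * (D.g : ℤ) - d := by rw [he, D.hg']
  have hn8 : (8 : ℤ) ∣ e := ⟨u, hu⟩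
  obtain ⟨g₃, hg₃, hdg⟩ : ∃ g₃ : ℕ, D.g = 3 * g₃ ∧ d = -(2 * (g₃ : ℤ)) := by
    rcases hnat with h | ⟨⟨g₃, hg₃⟩, h⟩
    · exfalso
      rcases Int.natAbs_eq d with hs | hs <;> rw [h] at hs <;> push_cast at hs <;> omega
    · refine ⟨g₃, hg₃, ?_⟩
      rcases Int.natAbs_eq d with hs | hs
      · exfalso; omega
      · omega
  have heg' : e = 8 * (g₃ : ℤ) := by rw [heg, hdg, hg₃]; push_cast; ring
  have hg3o : Odd g₃ := by rw [Nat.odd_iff]; omega
  have hn4 : D.n = 4 := by
    rw [heg', show (8 : ℤ) * g₃ = ((2 ^ 3 * g₃ : ℕ) : ℤ) by push_cast; ring, padicValInt.of_nat,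
      padicValNat.mul (by norm_num) (by omega), padicValNat.prime_pow, hnd2 _ hg3o] at hve
    omega
  have hh' : D.h = 1 := by
    by_contra hne
    obtain ⟨r, hr, hrh⟩ := Nat.exists_prime_and_dvd hne
    have hr2 : r ≠ 2 := fun h => (Nat.not_even_iff_odd.2 D.hh) (even_iff_two_dvd.2 (h ▸ hrh))
    obtain ⟨h1, h2⟩ := hndh r hr hr2 hrh
    rw [heg', show (8 : ℤ) * g₃ = ((2 ^ 3 * g₃ : ℕ) : ℤ) by push_cast; ring, Int.natCast_dvd_natCast] at h2
    rcases (Nat.Prime.dvd_mul hr).1 h2 with h | h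
    · exact hr2 ((Nat.prime_dvd_prime_iff_eq hr Nat.prime_two).1 (hr.dvd_of_dvd_pow h))
    · apply h1
      rw [hdg]
      exact (Dvd.dvd.mul_left (Int.natCast_dvd_natCast.2 h) 2).neg_right
  have hM := D.hM
  rw [hn4, hh'] at hM
  norm_num at hM
  have hgp := D.hg'
  have hε1 : D.ε = 1 := by
    rcases D.hε with hs | hs
    · exact hs
    · exfalso; omega
  have hp5 : D.p = 5 := by omega
  have hg : D.g = 3 := by omega
  refine ⟨hp5, hn4, hg, hh', hε1, ?_⟩
  have hF34 : F = 34 := by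
    rw [hF, hdg, show g₃ = 1 by omega, hp5]; norm_num
  have ho : D.o' = D.o := by
    refine Nat.eq_iff_prime_padicValNat_eq _ _ ho'0 ho0 |>.2 fun r hr => ?_
    haveI : Fact r.Prime := ⟨hr⟩
    by_cases hr2 : r = 2
    · subst hr2; rw [hoo2, hoo2']
    by_cases hrg : r ∣ D.g
    · exact (hndg r hr hr2 hrg).1
    have hoo' := hoo r hr
    by_cases hro : r ∣ D.o
    swap
    · have := padicValNat.eq_zero_of_not_dvd hro
      omega
    rcases eq_or_ne r D.p with rfl | hrp
    · haveI : Fact (Nat.Prime 5) := ⟨by norm_num⟩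
      have h5 : padicValInt D.p (F + 1) = 1 := by
        rw [hF34, hp5, show (34 : ℤ) + 1 = ((5 * 7 : ℕ) : ℤ) by norm_num, padicValInt.of_nat,
          padicValNat.mul (by norm_num) (by norm_num)]
        haveI : Fact (Nat.Prime 5) := ⟨by norm_num⟩
        rw [padicValNat_self, padicValNat.eq_zero_of_not_dvd (by norm_num)]
      have h5' : padicValInt D.p F = 0 := by
        refine padicValInt_eq_zero ?_
        rw [hF34, hp5]; norm_num
      have hx1 : padicValInt D.p (F + 1 + D.ε * D.p) = 1 := by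
        rw [hF34, hε1, hp5, show (34 : ℤ) + 1 + 1 * ((5 : ℕ) : ℤ) = ((5 * 8 : ℕ) : ℤ) by norm_num,
          padicValInt.of_nat, padicValNat.mul (by norm_num) (by norm_num)]
        haveI : Fact (Nat.Prime 5) := ⟨by norm_num⟩
        rw [padicValNat_self, padicValNat.eq_zero_of_not_dvd (by norm_num)]
      omega
    obtain ⟨hc, hw, hgv, hxv, -, hp⟩ := hodd r hr hr2 hrp
    have hg1 : padicValNat r D.g = 0 := padicValNat.eq_zero_of_not_dvd hrg
    have hh1 : padicValNat r D.h = 0 := by rw [hh']; simp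
    have hr1 := one_le_padicValNat_of_dvd ho0 hro
    by_cases hwz : padicValNat r D.CV = 0
    · exfalso
      have hav : padicValNat r D.G = padicValNat r D.C :=
        (D.ha r hr hr2 (show r ∣ D.C from dvd_of_one_le_padicValNat (by omega))).resolve_right fun h => by
          have h' : padicValNat r D.CV = padicValNat r D.C := h.2.2
          omega
      have hv := hval r hr
      have hx0 : padicValInt r (F + 1 + D.ε * D.p) = 0 := by
        rw [hxv, heg', show g₃ = 1 by omega]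
        refine padicValInt_eq_zero ?_
        norm_num
        intro h
        have h8 : r ∣ 2 ^ 3 := by exact_mod_cast h
        exact hr2 ((Nat.prime_dvd_prime_iff_eq hr Nat.prime_two).1 (hr.dvd_of_dvd_pow h8))
      omega
    · have h' := D.hw r hr hr2 (show r ∣ D.CV from dvd_of_one_le_padicValNat (by omega))
      change padicValNat r D.CV = padicValNat r D.C at h'
      omega
  refine ⟨ho, ?_⟩
  have hC : D.C = 240 * D.o := by rw [C, hp5, hn4, hg, hh']; norm_num
  have hCV : D.CV = 12 * D.o := by rw [CV, hg, ho]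
  rw [hF34, hε1, hp5, hC, hCV] at heq
  push_cast at heq
  have ho' : (D.o : ℤ) ≠ 0 := by exact_mod_cast ho0
  have : (D.G : ℤ) = 357 * (240 * D.o) := by
    apply mul_left_cancel₀ (show (1600 * 144 * 5 * ((D.o : ℤ) ^ 2)) ≠ 0 by simp [ho0])
    linear_combination heq
  rw [hC]
  exact_mod_cast this

end OrderData

end Cfsg.Agent.H71.AlmostCyclic
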