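import Cfsg.Agent.H39.SemiDihedral

/-!
Centralisers and squares in a semidihedral 2-group.
-/

set_option autoImplicit false

namespace Cfsg.Agent.H71.AlmostCyclic

open H39

variable {S : Type*} [Group S] {m : ℕ} {x y : S}

theorem SD.in_eq_one_or_z (h : SDGen m x y) {i : ℤ} (hi : (4 * 2 ^ m : ℤ) ∣ i) :
    x ^ i = 1 ∨ x ^ i = x ^ (4 * 2 ^ m : ℤ) := by
  obtain ⟨c, rfl⟩ := hi
  rcases Int.even_or_odd c with ⟨d, hd⟩ | ⟨d, hd⟩
  · left; rw [← zpow_zero x, h.zpow_eq]; exact ⟨d, by subst hd; ring⟩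
  · right; rw [h.zpow_eq]; exact ⟨d, by subst hd; ring⟩

/-- An element of `⟨x⟩` commuting with an element outside is `1` or `z`. -/
theorem SD.in_of_commute_out (h : SDGen m x y) {i j : ℤ} (hc : Commute (x ^ i) (x ^ j * y)) :
    x ^ i = 1 ∨ x ^ i = x ^ (4 * 2 ^ m : ℤ) :=
  h.commute_out_in (i := j) (by rw [hc.eq, mul_inv_cancel_right])

/-- What commutes with an element outside `⟨x⟩`. -/
theorem SD.centralizer_out (h : SDGen m x y) {g : S} {j : ℤ} (hg : g = x ^ j * y) {a : S}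
    (ha : Commute g a) :
    a = 1 ∨ a = x ^ (4 * 2 ^ m : ℤ) ∨ a = g⁻¹ ∨ a = x ^ (4 * 2 ^ m : ℤ) * g⁻¹ := by
  rcases h.cases_elem a with ⟨i, rfl⟩ | ⟨i, rfl⟩
  · rcases SD.in_of_commute_out h (hg ▸ ha.symm) with e | e
    · exact Or.inl e
    · exact Or.inr (Or.inl e)
  · right; right
    obtain ⟨l, hl⟩ : ∃ l : ℤ, x ^ i * y * g = x ^ l := ⟨_, hg ▸ h.out_mul_out i j⟩
    have hcl : Commute (x ^ l) (x ^ j * y) := by
      rw [← hl, ← hg]
      exact ha.symm.mul_left (Commute.refl g)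
    have he : x ^ i * y = x ^ l * g⁻¹ := by rw [← hl, mul_inv_cancel_right]
    rcases SD.in_of_commute_out h hcl with e | e
    · left; rw [he, e, one_mul]
    · right; rw [he, e]

/-- Only `1` and `z` commute with two non-commuting elements. -/
theorem SD.eq_one_or_z (h : SDGen m x y) {g a b : S} (ha : Commute g a) (hb : Commute g b)
    (hab : ¬ Commute a b) : g = 1 ∨ g = x ^ (4 * 2 ^ m : ℤ) := by
  rcases h.cases_elem g with ⟨i, rfl⟩ | ⟨i, hi⟩
  · rcases h.cases_elem a with ⟨j, rfl⟩ | ⟨j, rfl⟩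
    · rcases h.cases_elem b with ⟨k, rfl⟩ | ⟨k, rfl⟩
      · exact absurd ((Commute.refl x).zpow_zpow j k) hab
      · exact SD.in_of_commute_out h hb
    · exact SD.in_of_commute_out h ha
  · exfalso
    apply hab
    have hz : ∀ c : S, Commute (x ^ (4 * 2 ^ m : ℤ)) c := fun c => (h.z_central c).symm
    have key : ∀ c : S, Commute g c → Commute c g⁻¹ := fun c hc => (hc.symm).inv_right
    rcases SD.centralizer_out h hi hb with e | e | e | e <;> rw [e]
    · exact Commute.one_right a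
    · exact (hz a).symm
    · exact key a ha
    · exact (hz a).symm.mul_right (key a ha)

/-- The centraliser of an element of order at least four is cyclic. -/
theorem SD.centralizer_cyclic (h : SDGen m x y) {g : S} (hg : g * g ≠ 1) :
    ∃ c : S, ∀ a : S, Commute g a → a ∈ Subgroup.zpowers c := by
  rcases h.cases_elem g with ⟨i, rfl⟩ | ⟨i, hi⟩
  · refine ⟨x, fun a ha => ?_⟩
    rcases h.cases_elem a with ⟨j, rfl⟩ | ⟨j, rfl⟩
    · exact ⟨j, rfl⟩
    · exfalso
      rcases SD.in_of_commute_out h ha with e | e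
      · exact hg (by rw [e, one_mul])
      · exact hg (by rw [e]; exact mul_self_of_orderOf_eq_two h.orderOf_z)
  · refine ⟨g, fun a ha => ?_⟩
    have hz : x ^ (4 * 2 ^ m : ℤ) ∈ Subgroup.zpowers g := by
      have h2 : g * g = x ^ (i * (4 * 2 ^ m)) := by rw [hi]; exact h.out_sq i
      rcases SD.in_eq_one_or_z h (i := i * (4 * 2 ^ m)) (dvd_mul_left _ _) with e | e
      · exact absurd (h2.trans e) hg
      · rw [← e, ← h2]
        exact mul_mem (Subgroup.mem_zpowers g) (Subgroup.mem_zpowers g)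
    rcases SD.centralizer_out h hi ha with e | e | e | e <;> rw [e]
    · exact one_mem _
    · exact hz
    · exact inv_mem (Subgroup.mem_zpowers g)
    · exact mul_mem hz (inv_mem (Subgroup.mem_zpowers g))

/-- Squares are not involutions outside `⟨x⟩`. -/
theorem SD.sq_eq_z (h : SDGen m x y) {g : S} (hg : orderOf (g * g) = 2) :
    g * g = x ^ (4 * 2 ^ m : ℤ) := by
  rcases h.mem_ord_two _ hg with e | ⟨k, e⟩
  · exact e
  · exfalso
    rcases h.cases_elem g with ⟨i, rfl⟩ | ⟨i, rfl⟩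
    · rw [← zpow_add] at e; exact h.out_ne_in _ _ e.symm
    · rw [h.out_sq] at e; exact h.out_ne_in _ _ e.symm

end Cfsg.Agent.H71.AlmostCyclic
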