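import Cfsg.Agent.CharInduce.Induce

/-!
Induction from trivial intersection supports.
-/

set_option autoImplicit false

namespace Cfsg.Agent.H71.AlmostCyclic

open Finset CharBasic CharInduce
open scoped ComplexConjugate Classical

universe u

variable {G : Type u} [Group G] [Fintype G]

section Subgroup

variable {H : Subgroup G} [Fintype H] {S : Set H}

/-- `S` is a trivial intersection support inside `H`. -/
def IsTISupp (S : Set H) : Prop :=
  ∀ s ∈ S, ∀ t ∈ S, ∀ x : G, x⁻¹ * (s : G) * x = (t : G) → x ∈ H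

theorem indFun_ti (hTI : IsTISupp S) {f : H → ℂ} (hf : Cfsg.IsClassFunction H f)
    (hS : ∀ h : H, h ∉ S → f h = 0) {s : H} (hs : s ∈ S) : Cfsg.indFun H f (s : G) = f s := by
  have h : ∀ x : G, Cfsg.extendByZero H f (x⁻¹ * s * x) = if x ∈ H then f s else 0 := by
    intro x
    split_ifs with hx
    · have := extendByZero_conj hf (H.inv_mem hx) (s : G)
      rw [inv_inv, extendByZero_coe] at this
      exact this
    · by_cases hy : x⁻¹ * (s : G) * x ∈ H
      · rw [extendByZero_of_mem _ hy]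
        by_contra hne
        exact hx (hTI s hs ⟨_, hy⟩ (by_contra fun h' => hne (hS _ h')) x rfl)
      · rw [extendByZero_of_not_mem _ hy]
  rw [indFun_apply, sum_congr rfl fun x _ => h x, ← sum_filter, sum_const, nsmul_eq_mul,
    show #(univ.filter fun x : G => x ∈ H) = Nat.card H by
      rw [Nat.card_eq_fintype_card, Fintype.card_subtype],
    ← mul_assoc, inv_mul_cancel₀ (card_ne_zero_complex _), one_mul]

theorem indFun_ti_zero {f : H → ℂ} (hS : ∀ h : H, h ∉ S → f h = 0) {g : G}
    (hg : ∀ s ∈ S, ¬IsConj (s : G) g) : Cfsg.indFun H f g = 0 := by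
  rw [indFun_apply, sum_eq_zero fun x _ => ?_, mul_zero]
  by_cases hy : x⁻¹ * g * x ∈ H
  · rw [extendByZero_of_mem _ hy]
    refine hS _ fun hmem => hg _ hmem (isConj_iff.2 ⟨x, ?_⟩)
    show x * (x⁻¹ * g * x) * x⁻¹ = g
    group
  · rw [extendByZero_of_not_mem _ hy]

theorem classInner_ti (hTI : IsTISupp S) {f f' : H → ℂ}
    (hf' : Cfsg.IsClassFunction H f') (hS : ∀ h : H, h ∉ S → f h = 0)
    (hS' : ∀ h : H, h ∉ S → f' h = 0) :
    Cfsg.classInner (Cfsg.indFun H f) (Cfsg.indFun H f') = Cfsg.classInner f f' := by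
  rw [classInner_indFun_left _ f _ (isClassFunction_indFun _ f')]
  simp only [Cfsg.classInner]
  congr 1
  refine sum_congr rfl fun x _ => ?_
  by_cases hx : x ∈ S
  · rw [indFun_ti hTI hf' hS' hx]
  · rw [hS x hx, zero_mul, zero_mul]

end Subgroup

section Torus

variable (T : Subgroup G) [Fintype T] (s : G)

/-- An abelian trivial intersection subgroup of index two in its normaliser. -/
structure IsTorus : Prop where
  comm : ∀ x ∈ T, ∀ y ∈ T, x * y = y * x
  notMem : s ∉ T
  sq : s * s = 1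
  inv : ∀ x ∈ T, s * x * s⁻¹ = x⁻¹
  ti : ∀ x ∈ T, x ≠ 1 → ∀ y : G, y * x * y⁻¹ ∈ T → y ∈ T ∨ s * y ∈ T

variable {T s}

theorem IsTorus.indFun_apply (hT : IsTorus T s) (f : T → ℂ) {t : T} (ht : t ≠ 1) :
    Cfsg.indFun T f (t : G) = f t + f t⁻¹ := by
  have hs2 : ∀ y : G, y ∈ T → s * y ∉ T := fun y hy h => hT.notMem (by
    simpa using T.mul_mem h (T.inv_mem hy))
  have h : ∀ x : G, Cfsg.extendByZero T f (x⁻¹ * t * x) =
      (if x ∈ T then f t else 0) + (if s * x ∈ T then f t⁻¹ else 0) := by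
    intro x
    by_cases hx : x ∈ T
    · rw [if_pos hx, if_neg (hs2 x hx), add_zero,
        show x⁻¹ * (t : G) * x = t by rw [mul_assoc, hT.comm t t.2 x hx, inv_mul_cancel_left],
        extendByZero_coe]
    rw [if_neg hx, zero_add]
    by_cases hsx : s * x ∈ T
    · rw [if_pos hsx]
      have hc := hT.comm _ hsx _ (T.inv_mem t.2)
      have he : x⁻¹ * (t : G) * x = ((t⁻¹ : T) : G) := by
        calc x⁻¹ * (t : G) * x = (s * x)⁻¹ * (s * t * s⁻¹) * (s * x) := by group
          _ = (s * x)⁻¹ * ((t : G)⁻¹ * (s * x)) := by rw [hT.inv t t.2]; group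
          _ = _ := by rw [← hc, inv_mul_cancel_left]; rfl
      rw [he, extendByZero_coe]
    · rw [if_neg hsx, extendByZero_of_not_mem]
      intro hmem
      rcases hT.ti t t.2 (fun h => ht (Subtype.ext h)) x⁻¹ (by simpa using hmem) with h | h
      · exact hx (by simpa using T.inv_mem h)
      · apply hsx
        have hsi : s⁻¹ = s := inv_eq_of_mul_eq_one_right hT.sq
        have hm := T.inv_mem h
        rw [mul_inv_rev, inv_inv, hsi] at hm
        have h2 := hT.inv _ hm
        rw [hsi, show s * (x * s) * s = s * x * (s * s) by group, hT.sq, mul_one] at h2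
        rw [h2]
        exact T.inv_mem hm
  have hc1 : #(univ.filter fun x : G => x ∈ T) = Nat.card T := by
    rw [Nat.card_eq_fintype_card, Fintype.card_subtype]
  have hc2 : #(univ.filter fun x : G => s * x ∈ T) = Nat.card T := by
    rw [← hc1]
    exact Finset.card_equiv (Equiv.mulLeft s) fun x => by simp
  rw [CharInduce.indFun_apply, sum_congr rfl fun x _ => h x, sum_add_distrib, ← sum_filter, ← sum_filter,
    sum_const, sum_const, hc1, hc2, nsmul_eq_mul, nsmul_eq_mul, ← mul_add, ← mul_assoc,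
    inv_mul_cancel₀ (card_ne_zero_complex _), one_mul]

theorem sum_indFun_mul (f : T → ℂ) {F : G → ℂ} (hF : Cfsg.IsClassFunction G F) :
    ∑ g : G, Cfsg.indFun T f g * F g = ((Nat.card G : ℂ) / Nat.card T) * ∑ t : T, f t * F t := by
  have e : ∀ g : G, Cfsg.indFun T f g * F g =
      (Nat.card T : ℂ)⁻¹ * ∑ x : G, Cfsg.extendByZero T f (x⁻¹ * g * x) * F g := fun g => by
    rw [CharInduce.indFun_apply, mul_assoc, sum_mul]
  rw [sum_congr rfl fun g _ => e g, ← mul_sum]
  rw [sum_comm]
  have key : ∀ x : G, ∑ g : G, Cfsg.extendByZero T f (x⁻¹ * g * x) * F g = ∑ t : T, f t * F t := by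
    intro x
    rw [← sum_extendByZero_mul f F, ← sum_conj (fun g => Cfsg.extendByZero T f g * F g) x]
    refine sum_congr rfl fun g _ => ?_
    have : F (x⁻¹ * g * x) = F g := by simpa using hF g x⁻¹
    rw [this]
  rw [sum_congr rfl fun x _ => key x, sum_const, card_univ, nsmul_eq_mul, ← Nat.card_eq_fintype_card]
  ring

end Torus

end Cfsg.Agent.H71.AlmostCyclic
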