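import Cfsg.Agent.H71.AlmostCyclic.PGL
import Cfsg.Agent.H71.AlmostCyclic.TI
import Mathlib.NumberTheory.LegendreSymbol.QuadraticChar.Basic

/-!
The torus of `PGL(2,F)` containing an element of 2-power order at least four.
-/

set_option autoImplicit false

namespace Cfsg.Agent.H71.AlmostCyclic

open Matrix Cfsg.Agent.H27.GLTwo Cfsg.Agent.H27.ProjLine
open scoped LinearAlgebra.Projectivization

variable {F : Type} [Field F]

local notation "M2" => Matrix (Fin 2) (Fin 2) F

theorem isSquare_det_iff (g : GL (Fin 2) F) :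
    IsSquare (GeneralLinearGroup.det g) ↔ IsSquare (g : M2).det := by
  rw [← GeneralLinearGroup.val_det_apply]
  constructor
  · rintro ⟨u, hu⟩
    exact ⟨u, by rw [hu]; rfl⟩
  · rintro ⟨c, hc⟩
    have hc0 : c ≠ 0 := fun h => (GeneralLinearGroup.det g).ne_zero (by rw [hc, h, mul_zero])
    exact ⟨Units.mk0 c hc0, Units.ext hc⟩

variable [Fintype F] [DecidableEq F]

/-- The sign on `PGL(2,F)`: the quadratic character of the determinant. -/
noncomputable def sgn : PG F →* ℤˣ :=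
  ProjGenLinGroup.lift ((quadraticChar F).toUnitHom.comp GeneralLinearGroup.det) (by
    refine MonoidHom.ext fun u => Units.ext ?_
    rw [MonoidHom.comp_apply, MonoidHom.comp_apply, MulChar.coe_toUnitHom,
      GeneralLinearGroup.val_det_apply, scalar_coe, Matrix.det_smul, Matrix.det_one, mul_one,
      Fintype.card_fin, quadraticChar_sq_one' u.ne_zero]
    rfl)

theorem sgn_mk (g : GL (Fin 2) F) :
    sgn (ProjGenLinGroup.mk g : PG F) = 1 ↔ IsSquare (g : M2).det := by
  rw [sgn, ProjGenLinGroup.lift_mk, MonoidHom.comp_apply, Units.ext_iff, MulChar.coe_toUnitHom,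
    Units.val_one, GeneralLinearGroup.val_det_apply,
    quadraticChar_one_iff_isSquare g.det_ne_zero]

theorem sgn_eq_neg_one {x : PG F} (h : sgn x ≠ 1) : sgn x = -1 :=
  (Int.units_eq_one_or _).resolve_left h

omit [Fintype F] [DecidableEq F] in
theorem mk_sq_eq_one_iff {g : GL (Fin 2) F} (hg : ¬IsScalarMat (g : M2)) :
    (ProjGenLinGroup.mk g : PG F) * ProjGenLinGroup.mk g = 1 ↔ (g : M2).trace = 0 := by
  rw [← map_mul, mk_eq_one_iff, Units.val_mul, mat_sq]
  refine ⟨fun h => ?_, fun h => by simp [h, IsScalarMat]⟩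
  by_contra ht
  obtain ⟨h1, h2, h3⟩ := h
  simp [ht] at h1 h2 h3
  exact hg ⟨h1, h2, h3⟩

omit [Fintype F] [DecidableEq F] in
theorem fix_unique_of_disc_zero (h2 : (2 : F) ≠ 0) [Finite F] {g : GL (Fin 2) F}
    (hg : ¬IsScalarMat (g : M2)) (hd : disc (g : M2) = 0) :
    Nat.card {P : Pt F // (ProjGenLinGroup.mk g : PG F) • P = P} = 1 := by
  rw [disc] at hd
  have hroot : ((g : M2).trace / 2) ^ 2 - (g : M2).trace * ((g : M2).trace / 2) + (g : M2).det = 0 := by
    field_simp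
    linear_combination -hd
  obtain ⟨P, hP, hlP⟩ := exists_fix_of_root hroot
  rw [Nat.card_eq_one_iff_unique]
  refine ⟨⟨fun ⟨Q, hQ⟩ ⟨R, hR⟩ => Subtype.ext ?_⟩, ⟨⟨P, hP⟩⟩⟩
  have hl : ∀ S : Pt F, (ProjGenLinGroup.mk g : PG F) • S = S → g • S.rep = ((g : M2).trace / 2) • S.rep := by
    intro S hS
    obtain ⟨l, hl⟩ := (smul_eq_iff g S).1 hS
    have hr := root_of_fix hl
    have : (2 * l - (g : M2).trace) ^ 2 = 0 := by linear_combination 4 * hr + hd
    have h' := (pow_eq_zero_iff two_ne_zero).1 this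
    rw [hl]; congr 1
    rw [eq_div_iff h2]; linear_combination h'
  by_contra hne
  have h0 := hl Q hQ
  have h1 := hl R hR
  obtain ⟨m, hm0, hm1⟩ := exists_gl (wedge_ne_of_ne hne)
  have hall : ∀ v : Fin 2 → F, g • v = ((g : M2).trace / 2) • v := by
    intro v
    have hv : v = (m⁻¹ • v) 0 • Q.rep + (m⁻¹ • v) 1 • R.rep := by
      rw [← hm0, ← hm1, ← gl_smul_lin, ← pair_ext, smul_inv_smul]
    rw [hv, gl_smul_lin, h0, h1, smul_add, smul_comm _ ((g : M2).trace / 2),
      smul_comm _ ((g : M2).trace / 2)]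
  refine hg ⟨?_, ?_, ?_⟩
  · simpa [smul_e1, e1] using congrFun (hall e1) 0
  · simpa [smul_e0, e0] using congrFun (hall e0) 1
  · have a := congrFun (hall e0) 0
    have b := congrFun (hall e1) 1
    simp [smul_e0, smul_e1, e0, e1] at a b
    rw [a, b]

/-- An element of order divisible by four with an inverting element. -/
structure TorusData (F : Type) [Field F] [Fintype F] [DecidableEq F] where
  w : PG F
  s : PG F
  M : ℕ
  h : ℕ
  four : 4 ∣ M
  hM : orderOf w = M
  hs : s * w * s⁻¹ = w⁻¹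
  hw : sgn w = -1
  hh : Odd h
  hodd : Odd (Fintype.card F)
  hpow : ∃ m : ℕ, M = 2 ^ m
  hcard : ∀ g : GL (Fin 2) F, ProjGenLinGroup.mk g = w → Nat.card (aff g) = M * h

namespace TorusData

variable (D : TorusData F)

include D in
theorem two_ne : (2 : F) ≠ 0 := by
  refine Ring.two_ne_zero fun hc => ?_
  exact (Nat.not_even_iff_odd.2 D.hodd) (Nat.even_iff.2 ((FiniteField.even_card_iff_char_two).1 hc))

/-- A lift of `w`. -/
noncomputable def g : GL (Fin 2) F := (ProjGenLinGroup.mk_surjective D.w).choose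

theorem mk_g : (ProjGenLinGroup.mk D.g : PG F) = D.w := (ProjGenLinGroup.mk_surjective D.w).choose_spec

theorem M_pos : 0 < D.M := by rw [← D.hM]; exact orderOf_pos _

theorem four_le : 4 ≤ D.M := Nat.le_of_dvd D.M_pos D.four

theorem g_nonscalar : ¬IsScalarMat (D.g : M2) := fun h => by
  have hM := D.hM
  rw [← mk_g, (mk_eq_one_iff _).2 h, orderOf_one] at hM
  have := D.four_le
  omega

theorem w_sq_ne : D.w * D.w ≠ 1 := fun h => by
  have : orderOf D.w ∣ 2 := orderOf_dvd_of_pow_eq_one (by rw [pow_two]; exact h)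
  rw [D.hM] at this
  have := Nat.le_of_dvd two_pos this
  have := D.four_le
  omega

theorem g_trace : (D.g : M2).trace ≠ 0 := fun h => D.w_sq_ne (by
  rw [← mk_g]; exact (mk_sq_eq_one_iff D.g_nonscalar).2 h)

/-- The torus. -/
noncomputable def T : Subgroup (PG F) := aff D.g

theorem w_mem : D.w ∈ D.T := D.mk_g ▸ mk_mem_aff D.g

theorem card_T : Nat.card D.T = D.M * D.h := D.hcard _ D.mk_g

theorem four_dvd_card : 4 ∣ Nat.card D.T := by
  rw [D.card_T]; exact D.four.mul_right _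

theorem g_disc : disc (D.g : M2) ≠ 0 := fun h0 => by
  have h1 := card_aff_add D.g_nonscalar
  rw [fix_unique_of_disc_zero D.two_ne D.g_nonscalar h0] at h1
  have h4 : 4 ∣ Nat.card (aff D.g) := D.four_dvd_card
  obtain ⟨k, hk⟩ := D.hodd
  rw [Nat.card_eq_fintype_card (α := F)] at h1
  omega

/-- Fixed points of `w`: two or none. -/
noncomputable def nfix : ℕ := Nat.card {P : Pt F // D.w • P = P}

theorem nfix_cases : D.nfix = 0 ∨ D.nfix = 2 := by
  rw [nfix, ← mk_g]
  by_cases h : IsSquare (disc (D.g : M2))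
  · exact Or.inr ((card_fix D.two_ne D.g_nonscalar).2 h D.g_disc)
  · exact Or.inl ((card_fix D.two_ne D.g_nonscalar).1 h)

theorem card_T_add : Nat.card D.T + D.nfix = Fintype.card F + 1 := by
  rw [nfix, ← mk_g, T, card_aff_add D.g_nonscalar, Nat.card_eq_fintype_card]

theorem fix_eq {x : PG F} (hx : x ∈ D.T) (hx1 : x ≠ 1) :
    Nat.card {P : Pt F // x • P = P} = D.nfix := by
  refine Nat.card_congr (Equiv.subtypeEquivRight fun P => ?_)
  rw [fix_iff D.g_nonscalar hx hx1, mk_g]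

theorem comm {x y : PG F} (hx : x ∈ D.T) (hy : y ∈ D.T) : x * y = y * x :=
  aff_comm D.g_nonscalar hx hy

theorem mem_of_commute {y : PG F} (h : y * D.w = D.w * y) : y ∈ D.T := by
  obtain ⟨k, rfl⟩ := ProjGenLinGroup.mk_surjective y
  rw [← mk_g] at h
  exact mem_aff.2 ⟨k, commute_lift D.g_trace h, rfl⟩

theorem conj_cases {x : PG F} (hx : x ∈ D.T) (hx1 : x ≠ 1) {y : PG F} (h : y * x * y⁻¹ ∈ D.T) :
    y * D.w * y⁻¹ = D.w ∨ y * D.w * y⁻¹ = D.w⁻¹ := by
  obtain ⟨k, rfl⟩ := ProjGenLinGroup.mk_surjective y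
  rcases ti_aff D.two_ne D.g_nonscalar D.g_disc hx hx1 k h with e | e
  · left
    rw [← mk_g, ← map_inv, ← map_mul, ← map_mul]
    exact congrArg _ (Units.ext e)
  · right
    rw [← mk_g, ← map_inv, ← map_mul, ← map_mul, ← map_inv]
    refine (mk_eq_mk_of_smul (c := (D.g : M2).det) ?_).symm
    have hinv : (D.g : M2) * ((D.g : M2).trace • (1 : M2) - (D.g : M2)) = (D.g : M2).det • (1 : M2) := by
      rw [mul_sub, mat_sq, Matrix.mul_smul, mul_one]; abel
    rw [e]
    calc (D.g : M2).trace • (1 : M2) - (D.g : M2)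
        = ((D.g⁻¹ : GL (Fin 2) F) : M2) * ((D.g : M2) * ((D.g : M2).trace • (1 : M2) - (D.g : M2))) := by
          rw [← mul_assoc, ← Units.val_mul, inv_mul_cancel, Units.val_one, one_mul]
      _ = _ := by rw [hinv, Matrix.mul_smul, mul_one]

theorem s_inv {x : PG F} (hx : x ∈ D.T) : D.s * x * D.s⁻¹ = x⁻¹ := by
  obtain ⟨k, hk⟩ := ProjGenLinGroup.mk_surjective D.s
  have h0 : (ProjGenLinGroup.mk k : PG F) * D.w * (ProjGenLinGroup.mk k)⁻¹ ∈ D.T := by
    rw [hk, D.hs]; exact D.T.inv_mem D.w_mem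
  have hw1 : D.w ≠ 1 := fun h => D.w_sq_ne (by rw [h, one_mul])
  rcases ti_aff D.two_ne D.g_nonscalar D.g_disc D.w_mem hw1 k h0 with e | e
  · exfalso
    have h' : D.s * D.w * D.s⁻¹ = D.w := by
      rw [← hk, ← mk_g, ← map_inv, ← map_mul, ← map_mul]; exact congrArg _ (Units.ext e)
    rw [D.hs] at h'
    exact D.w_sq_ne (by conv_lhs => arg 1; rw [← h']
                        exact inv_mul_cancel D.w)
  obtain ⟨m, hm, rfl⟩ := mem_aff.1 hx
  obtain ⟨a, b, hab⟩ := exists_lin_of_commute D.g_nonscalar hm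
  rw [eq_inv_iff_mul_eq_one, ← hk, ← map_inv, ← map_mul, ← map_mul, ← map_mul, mk_eq_one_iff]
  have hc : ((k * m * k⁻¹ : GL (Fin 2) F) : M2) =
      (a + b * (D.g : M2).trace) • (1 : M2) - b • (D.g : M2) := by
    have hkk : (k : M2) * ((k⁻¹ : GL (Fin 2) F) : M2) = 1 := by
      rw [← Units.val_mul, mul_inv_cancel, Units.val_one]
    rw [Units.val_mul, Units.val_mul] at e ⊢
    rw [hab]
    simp only [mul_add, add_mul, Matrix.mul_smul, Matrix.smul_mul, mul_one, hkk, e]
    rw [smul_sub, smul_smul, add_smul]; abel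
  rw [Units.val_mul, hc, hab]
  have hgg := mat_sq (D.g : M2)
  simp only [sub_mul, mul_add, Matrix.smul_mul, Matrix.mul_smul, one_mul, mul_one, hgg, smul_sub,
    smul_smul, smul_add]
  refine ⟨?_, ?_, ?_⟩ <;> simp <;> ring

theorem s_notMem : D.s ∉ D.T := fun h => by
  have h1 := D.hs
  rw [D.comm h D.w_mem, mul_inv_cancel_right] at h1
  exact D.w_sq_ne (by conv_lhs => arg 1; rw [h1]
                      exact inv_mul_cancel D.w)

theorem sq_eq_one_of_inverts {y : PG F} (hy : y * D.w * y⁻¹ = D.w⁻¹) : y * y = 1 := by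
  obtain ⟨k, rfl⟩ := ProjGenLinGroup.mk_surjective y
  have hw1 : D.w ≠ 1 := fun h => D.w_sq_ne (by rw [h, one_mul])
  have h0 : (ProjGenLinGroup.mk k : PG F) * D.w * (ProjGenLinGroup.mk k)⁻¹ ∈ D.T := by
    rw [hy]; exact D.T.inv_mem D.w_mem
  rcases ti_aff D.two_ne D.g_nonscalar D.g_disc D.w_mem hw1 k h0 with e | e
  · exfalso
    have h' : (ProjGenLinGroup.mk k : PG F) * D.w * (ProjGenLinGroup.mk k)⁻¹ = D.w := by
      rw [← mk_g, ← map_inv, ← map_mul, ← map_mul]; exact congrArg _ (Units.ext e)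
    rw [hy] at h'
    exact D.w_sq_ne (by conv_lhs => arg 1; rw [← h']
                        exact inv_mul_cancel D.w)
  have h2 : ProjGenLinGroup.mk k * ProjGenLinGroup.mk k ∈ D.T := by
    refine D.mem_of_commute ?_
    rw [← mul_inv_eq_iff_eq_mul, _root_.mul_inv_rev,
      show ∀ a b : PG F, a * a * b * (a⁻¹ * a⁻¹) = a * (a * b * a⁻¹) * a⁻¹ from fun a b => by group,
      hy, ← inv_inv D.w]
    conv_rhs => rw [← hy]
    group
  rw [← map_mul] at h2 ⊢
  obtain ⟨m, hm, hmk⟩ := mem_aff.1 h2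
  obtain ⟨c, hc, hcm⟩ := mk_eq_mk_smul hmk
  obtain ⟨a, b, hab⟩ := exists_lin_of_commute D.g_nonscalar hm
  have hsq : ((k * k : GL (Fin 2) F) : M2) = (c * a) • (1 : M2) + (c * b) • (D.g : M2) := by
    rw [hcm, hab, smul_add, smul_smul, smul_smul]
  have hfix : (k : M2) * ((k * k : GL (Fin 2) F) : M2) * ((k⁻¹ : GL (Fin 2) F) : M2) =
      ((k * k : GL (Fin 2) F) : M2) := by
    rw [← Units.val_mul, ← Units.val_mul, show k * (k * k) * k⁻¹ = k * k by group]
  have hkk : (k : M2) * ((k⁻¹ : GL (Fin 2) F) : M2) = 1 := by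
    rw [← Units.val_mul, mul_inv_cancel, Units.val_one]
  rw [Units.val_mul, Units.val_mul] at e
  rw [hsq] at hfix
  simp only [mul_add, add_mul, Matrix.mul_smul, Matrix.smul_mul, mul_one, hkk, e, smul_sub,
    smul_smul] at hfix
  have h3 : ((c * a) + c * b * (D.g : M2).trace) • (1 : M2) + (-(c * b)) • (D.g : M2) =
      (c * a) • (1 : M2) + (c * b) • (D.g : M2) := by
    rw [← hfix, add_smul, neg_smul]; abel
  have hb := (lin_coeff_unique D.g_nonscalar h3).2
  have hb0 : c * b = 0 := by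
    refine (mul_eq_zero.1 (show (2 : F) * (c * b) = 0 from ?_)).resolve_left D.two_ne
    linear_combination -hb
  rw [mk_eq_one_iff, hsq, hb0]
  simp [IsScalarMat]

theorem isTorus : IsTorus D.T D.s where
  comm := fun _ hx _ hy => D.comm hx hy
  notMem := D.s_notMem
  sq := D.sq_eq_one_of_inverts D.hs
  inv := fun _ hx => D.s_inv hx
  ti := fun x hx hx1 y hy => by
    rcases D.conj_cases hx hx1 hy with h | h
    · exact Or.inl (D.mem_of_commute (mul_inv_eq_iff_eq_mul.1 h))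
    · right
      refine D.mem_of_commute (mul_inv_eq_iff_eq_mul.1 ?_)
      rw [show D.s * y * D.w * (D.s * y)⁻¹ = D.s * (y * D.w * y⁻¹) * D.s⁻¹ by group, h,
        D.s_inv (D.T.inv_mem D.w_mem), inv_inv]

/-- The involution of the torus. -/
noncomputable def t₀ : PG F := D.w ^ (D.M / 2)

theorem t₀_mem : D.t₀ ∈ D.T := D.T.pow_mem D.w_mem _

theorem t₀_order : orderOf D.t₀ = 2 := by
  rw [t₀, orderOf_pow, D.hM]
  have h2 : 2 ∣ D.M := (dvd_trans (by norm_num) D.four)
  rw [Nat.gcd_eq_right (Nat.div_dvd_of_dvd h2), Nat.div_div_self h2 D.M_pos.ne']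

theorem sgn_t₀ : sgn D.t₀ = 1 := by
  obtain ⟨k, hk⟩ := D.four
  rw [t₀, map_pow, D.hw, show D.M / 2 = 2 * k by omega, pow_mul]
  simp

/-- The only involution of the torus. -/
theorem eq_t₀ {x : PG F} (hx : x ∈ D.T) (hx2 : x * x = 1) (hx1 : x ≠ 1) : x = D.t₀ := by
  have key : ∀ y ∈ D.T, y * y = 1 → y ≠ 1 → ∃ m : GL (Fin 2) F, ProjGenLinGroup.mk m = y ∧
      ∃ b : F, b ≠ 0 ∧ (m : M2) = b • ((D.g : M2) - ((D.g : M2).trace / 2) • (1 : M2)) := by
    intro y hy hy2 hy1
    obtain ⟨m, hm, rfl⟩ := mem_aff.1 hy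
    obtain ⟨a, b, hab⟩ := exists_lin_of_commute D.g_nonscalar hm
    have hns : ¬IsScalarMat (m : M2) := fun h => hy1 ((mk_eq_one_iff m).2 h)
    have hb : b ≠ 0 := fun h => hns (by rw [hab, h]; simp [IsScalarMat])
    have ht := (mk_sq_eq_one_iff hns).1 hy2
    rw [hab, Matrix.trace_fin_two] at ht
    simp at ht
    have ha : a = -(b * ((D.g : M2).trace / 2)) := by
      have h2 := D.two_ne
      rw [Matrix.trace_fin_two]
      field_simp
      linear_combination ht
    exact ⟨m, rfl, b, hb, by rw [hab, ha, smul_sub, smul_smul, neg_smul]; abel⟩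
  have h1 : D.t₀ ≠ 1 := fun h => by have := D.t₀_order; rw [h, orderOf_one] at this; omega
  have h2 : D.t₀ * D.t₀ = 1 := by
    have := pow_orderOf_eq_one D.t₀
    rwa [D.t₀_order, pow_two] at this
  obtain ⟨m, hm, b, hb, hmb⟩ := key x hx hx2 hx1
  obtain ⟨m', hm', b', hb', hmb'⟩ := key _ D.t₀_mem h2 h1
  rw [← hm, ← hm']
  exact mk_eq_mk_of_smul (c := b' * b⁻¹)
    (by rw [hmb, hmb', smul_smul, mul_assoc, inv_mul_cancel₀ hb, mul_one])

end TorusData

/-- Two involutions of the same sign are conjugate. -/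
theorem isConj_involution {x y : PG F} (hx : orderOf x = 2) (hy : orderOf y = 2)
    (hs : sgn x = sgn y) : IsConj x y := by
  obtain ⟨g, rfl⟩ := ProjGenLinGroup.mk_surjective x
  obtain ⟨g', rfl⟩ := ProjGenLinGroup.mk_surjective y
  have hn : ∀ m : GL (Fin 2) F, orderOf (ProjGenLinGroup.mk m : PG F) = 2 →
      ¬IsScalarMat (m : M2) ∧ (m : M2).trace = 0 := by
    intro m hm
    have h1 : ¬IsScalarMat (m : M2) := fun h => by
      rw [(mk_eq_one_iff m).2 h, orderOf_one] at hm; omega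
    refine ⟨h1, (mk_sq_eq_one_iff h1).1 ?_⟩
    have := pow_orderOf_eq_one (ProjGenLinGroup.mk m : PG F)
    rwa [hm, pow_two] at this
  obtain ⟨hg, ht⟩ := hn g hx
  obtain ⟨hg', ht'⟩ := hn g' hy
  obtain ⟨u, hu⟩ : IsSquare ((g' : M2).det * ((g : M2).det)⁻¹) := by
    by_cases h : IsSquare (g : M2).det
    · exact ((sgn_mk g').1 (hs ▸ (sgn_mk g).2 h)).mul h.inv
    · have h' : ¬IsSquare (g' : M2).det := fun h' => h ((sgn_mk g).1 (hs.trans ((sgn_mk g').2 h')))
      refine (quadraticChar_one_iff_isSquare (mul_ne_zero g'.det_ne_zero (inv_ne_zero g.det_ne_zero))).1 ?_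
      rw [map_mul, quadraticChar_neg_one_iff_not_isSquare.2 h',
        quadraticChar_neg_one_iff_not_isSquare.2 (fun hi => h (by simpa using hi.inv))]
      norm_num
  have hu0 : u ≠ 0 := fun h0 => by
    rw [h0, mul_zero] at hu
    exact mul_ne_zero g'.det_ne_zero (inv_ne_zero g.det_ne_zero) hu
  set m := g * GeneralLinearGroup.scalar (Fin 2) (Units.mk0 u hu0) with hm
  have hmc : (m : M2) = u • (g : M2) := by
    rw [hm, Units.val_mul, scalar_coe, Matrix.mul_smul, mul_one]; rfl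
  have hms : ¬IsScalarMat (m : M2) := by
    rw [hmc]; rintro ⟨a, b, c⟩; simp [hu0] at a b c; exact hg ⟨a, b, c⟩
  obtain ⟨k, hk⟩ := isConj_of_trace_zero hms hg' (by rw [hmc, Matrix.trace_smul, ht, smul_zero]) ht'
    (by rw [hmc, Matrix.det_smul, Fintype.card_fin, pow_two, ← hu, mul_assoc,
      inv_mul_cancel₀ g.det_ne_zero, mul_one])
  have hmg : (ProjGenLinGroup.mk m : PG F) = ProjGenLinGroup.mk g := by
    rw [hm, map_mul, ProjGenLinGroup.mk_scalar, mul_one]
  exact isConj_iff.2 ⟨ProjGenLinGroup.mk k, by rw [← hmg, ← map_inv, ← map_mul, ← map_mul, hk]⟩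

end Cfsg.Agent.H71.AlmostCyclic
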