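import Mathlib

/-!
Sums along the levels of a cyclic 2-group.
-/

set_option autoImplicit false

namespace Cfsg.Agent.H71.AlmostCyclic

open Finset

theorem padic_orderOf_odd_pow {Q : Type*} [Group Q] {b : Q} {K i : ℕ} (hb : orderOf b = 2 ^ K)
    (hi : Odd i) : orderOf (b ^ i) = 2 ^ K := by
  rw [Nat.Coprime.orderOf_pow, hb]
  rw [hb]
  exact (Nat.coprime_two_left.2 hi).pow_left K

theorem orderOf_sq_two_pow {Q : Type*} [Group Q] {b : Q} {K : ℕ} (hb : orderOf b = 2 ^ (K + 1)) :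
    orderOf (b ^ 2) = 2 ^ K := by
  rw [orderOf_pow' _ two_ne_zero, hb, pow_succ, Nat.gcd_eq_right (dvd_mul_left _ _),
    Nat.mul_div_cancel _ two_pos]

theorem sum_range_two_mul {R : Type*} [AddCommMonoid R] (n : ℕ) (F : ℕ → R) :
    ∑ i ∈ range (2 * n), F i = (∑ i ∈ range n, F (2 * i)) + ∑ i ∈ range n, F (2 * i + 1) := by
  induction n with
  | zero => simp
  | succ n ih =>
    rw [show 2 * (n + 1) = 2 * n + 1 + 1 by ring, sum_range_succ, sum_range_succ, ih, sum_range_succ,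
      sum_range_succ]
    abel

/-- The sum over a cyclic 2-group of a function of the order. -/
theorem sum_levels {Q R : Type*} [Group Q] [CommSemiring R] (g : ℕ → R) :
    ∀ (K : ℕ) (b : Q), orderOf b = 2 ^ K →
      ∑ i ∈ range (2 ^ K), g (padicValNat 2 (orderOf (b ^ i))) =
        g 0 + ∑ v ∈ Icc 1 K, (2 : R) ^ (v - 1) * g v := by
  haveI : Fact (Nat.Prime 2) := ⟨Nat.prime_two⟩
  intro K
  induction K with
  | zero => intro b hb; simp
  | succ K ih =>
    intro b hb
    rw [pow_succ', sum_range_two_mul, sum_Icc_succ_top (by omega : 1 ≤ K + 1), ← add_assoc]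
    congr 1
    · rw [← ih (b ^ 2) (orderOf_sq_two_pow hb)]
      simp only [pow_mul]
    · rw [sum_congr rfl (g := fun _ => g (K + 1)) fun i _ => by
        rw [padic_orderOf_odd_pow hb ⟨i, rfl⟩, padicValNat.prime_pow], sum_const, card_range,
        nsmul_eq_mul]
      simp

/-- The twisted sums. -/
noncomputable def gsum {Q : Type*} [Group Q] (u : Q → ℂ) (η : ℂ) (b : Q) (K : ℕ) : ℂ :=
  ∑ i ∈ range (2 ^ K), η ^ i * u (b ^ i)

theorem gsum_succ {Q : Type*} [Group Q] (u : Q → ℂ) (η : ℂ) {b : Q} {K : ℕ}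
    (hu : ∀ i : ℕ, Odd i → u (b ^ i) = u b) :
    gsum u η b (K + 1) = gsum u (η ^ 2) (b ^ 2) K + η * u b * ∑ i ∈ range (2 ^ K), (η ^ 2) ^ i := by
  rw [gsum, pow_succ', sum_range_two_mul, gsum, mul_sum]
  congr 1
  · simp only [← pow_mul]
  · refine sum_congr rfl fun i _ => ?_
    rw [hu _ ⟨i, rfl⟩, pow_succ, pow_mul]
    ring

/-- A primitive twisted sum only sees two levels. -/
theorem gsum_primitive {Q : Type*} [Group Q] (u : Q → ℂ)
    (hu : ∀ (c : Q) (i : ℕ), (∃ K, orderOf c = 2 ^ K) → Odd i → u (c ^ i) = u c) :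
    ∀ (k j : ℕ) (b : Q) (η : ℂ), orderOf b = 2 ^ (j + k + 1) → IsPrimitiveRoot η (2 ^ (k + 1)) →
      gsum u η b (j + k + 1) = gsum u 1 (b ^ 2 ^ (k + 1)) j - 2 ^ j * u (b ^ 2 ^ k) := by
  intro k
  induction k with
  | zero =>
    intro j b η hb hη
    have h : η = -1 := (IsPrimitiveRoot.eq_neg_one_of_two_right (by simpa using hη))
    rw [gsum_succ u η (fun i hi => hu b i ⟨_, hb⟩ hi), h]
    norm_num
    ring
  | succ k ih =>
    intro j b η hb hη
    have h2 : IsPrimitiveRoot (η ^ 2) (2 ^ (k + 1)) :=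
      hη.pow (by positivity) (pow_succ' 2 (k + 1))
    rw [show j + (k + 1) + 1 = (j + k + 1) + 1 by ring] at hb ⊢
    rw [gsum_succ u η (fun i hi => hu b i ⟨_, hb⟩ hi), ih j (b ^ 2) (η ^ 2) (orderOf_sq_two_pow hb) h2]
    have hne : η ^ 2 ≠ 1 := fun h1 => by
      have h3 := h2.dvd_of_pow_eq_one 1 (by rw [pow_one]; exact h1)
      rw [Nat.dvd_one] at h3
      have := Nat.one_lt_two_pow (n := k + 1) (by omega)
      omega
    rw [geom_sum_eq hne, show (η ^ 2) ^ 2 ^ (j + k + 1) = 1 by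
      rw [show 2 ^ (j + k + 1) = 2 ^ (k + 1) * 2 ^ j by rw [← pow_add]; congr 1; ring, pow_mul,
        h2.pow_eq_one, one_pow]]
    rw [← pow_mul, ← pow_mul, ← pow_succ' 2 (k + 1), ← pow_succ' 2 k]
    simp

/-- A geometric sum of a root of unity. -/
theorem geom_root {n : ℕ} {q : ℂ} (h : q ^ n = 1) :
    ∑ i ∈ range n, q ^ i = (n : ℂ) * (if q = 1 then 1 else 0) := by
  split_ifs with e
  · simp [e]
  · rw [geom_sum_eq e, h, sub_self, zero_div, mul_zero]

theorem card_multiples {p : ℕ} (hp : p ≠ 0) (r : ℕ) :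
    #((range (p * r)).filter fun i => p ∣ i) = r := by
  rw [show ((range (p * r)).filter fun i => p ∣ i) = (range r).image fun j => p * j from ?_,
    card_image_of_injective _ (mul_right_injective₀ hp), card_range]
  ext i
  simp only [mem_filter, mem_range, mem_image]
  constructor
  · rintro ⟨h, j, rfl⟩
    exact ⟨j, Nat.lt_of_mul_lt_mul_left h, rfl⟩
  · rintro ⟨j, hj, rfl⟩
    exact ⟨Nat.mul_lt_mul_of_pos_left hj (Nat.pos_of_ne_zero hp), dvd_mul_right _ _⟩

theorem sum_comp_hom {A B R : Type*} [Group A] [Fintype A] [Group B] [Fintype B] [CommSemiring R]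
    (f : A →* B) (hf : Function.Surjective f) (g : B → R) :
    ∑ a : A, g (f a) = (Nat.card f.ker : R) * ∑ b : B, g b := by
  classical
  rw [← sum_fiberwise univ f, mul_sum]
  refine sum_congr rfl fun b _ => ?_
  rw [sum_congr rfl (g := fun _ => g b) fun a ha => by rw [(mem_filter.1 ha).2], sum_const,
    nsmul_eq_mul]
  congr 2
  obtain ⟨a₀, rfl⟩ := hf b
  rw [← Fintype.card_subtype, ← Nat.card_eq_fintype_card]
  exact Nat.card_congr
    { toFun := fun a => ⟨a₀⁻¹ * a.1, by rw [MonoidHom.mem_ker, map_mul, map_inv, a.2, inv_mul_cancel]⟩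
      invFun := fun k => ⟨a₀ * k.1, by rw [map_mul, show f k.1 = 1 from k.2, mul_one]⟩
      left_inv := fun a => Subtype.ext (by simp)
      right_inv := fun k => Subtype.ext (by simp) }

theorem sum_zpowers {Q R : Type*} [Group Q] [AddCommMonoid R] (b : Q) [Fintype (Subgroup.zpowers b)]
    {n : ℕ} (hn : orderOf b = n) (hn0 : 0 < n) (g : Q → R) :
    ∑ e : Subgroup.zpowers b, g e = ∑ i ∈ range n, g (b ^ i) := by
  classical
  have hfo : IsOfFinOrder b := orderOf_pos_iff.1 (hn ▸ hn0)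
  rw [← Fin.sum_univ_eq_sum_range (fun i => g (b ^ i))]
  exact ((Fintype.sum_equiv (finEquivZPowers hfo) (fun i => g (b ^ (i : ℕ))) (fun e => g e)
    fun i => by simp [finEquivZPowers_apply]).symm).trans
      (Fintype.sum_equiv (finCongr hn) _ _ fun i => by simp)

end Cfsg.Agent.H71.AlmostCyclic
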