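import Cfsg.Agent.BlockBasic.PPart
import Cfsg.Agent.H39.Dihedral
import Mathlib.GroupTheory.Transfer

/-!
A group whose involution centralisers are a four-group.
-/

set_option autoImplicit false

namespace Cfsg.Agent.H71.AlmostCyclic

open Subgroup H39
open scoped Classical

universe u

theorem eq_one_of_inverted {H : Type u} [Group H] [Finite H] (W : Subgroup H) [W.Normal]
    (hW : Odd (Nat.card W)) {u : H} (hu : u * u = 1) (hfix : ∀ w ∈ W, Commute w u → w = 1) :
    ∀ w ∈ W, u * w * u = w⁻¹ := by
  have hui : u⁻¹ = u := inv_eq_of_mul_eq_one_right hu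
  have hm : ∀ w : W, (w : H)⁻¹ * (u * w * u) ∈ W := fun w =>
    W.mul_mem (W.inv_mem w.2) (by
      have := ‹W.Normal›.conj_mem _ w.2 u
      rwa [hui] at this)
  let f : W → W := fun w => ⟨_, hm w⟩
  have hinj : Function.Injective f := fun a b h => by
    have h1 : (a : H)⁻¹ * (u * a * u) = (b : H)⁻¹ * (u * b * u) := congrArg Subtype.val h
    refine Subtype.ext (mul_inv_eq_one.1 (hfix _ (W.mul_mem b.2 (W.inv_mem a.2)) ?_)).symm
    show (b : H) * (a : H)⁻¹ * u = u * ((b : H) * (a : H)⁻¹)
    calc (b : H) * (a : H)⁻¹ * u = (b : H) * ((a : H)⁻¹ * (u * a * u)) * (u⁻¹ * (a : H)⁻¹) := by group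
      _ = u * (b : H) * (u * u⁻¹) * (a : H)⁻¹ := by rw [h1]; group
      _ = _ := by group
  intro w hw
  obtain ⟨v, hv⟩ := (Finite.injective_iff_surjective.1 hinj) ⟨w, hw⟩
  have hwv : (v : H)⁻¹ * (u * v * u) = w := congrArg Subtype.val hv
  rw [← hwv]
  calc u * ((v : H)⁻¹ * (u * v * u)) * u = u * (v : H)⁻¹ * u * v * (u * u) := by group
    _ = u * (v : H)⁻¹ * u * v := by rw [hu, mul_one]
    _ = _ := by rw [mul_inv_rev, inv_inv, mul_inv_rev, mul_inv_rev, hui]; group

/-- Involution centralisers of order four and order prime to three. -/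
theorem card_dvd_four_of_small {H : Type u} [Group H] [Finite H] (z t : H) (hz : orderOf z = 2)
    (ht : orderOf t = 2) (hne : z ≠ t) (hcom : Commute z t)
    (hsmall : ∀ u : H, orderOf u = 2 → Nat.card (centralizer ({u} : Set H)) ≤ 4)
    (h3 : ¬ 3 ∣ Nat.card H) : Nat.card H ∣ 4 := by
  haveI : Fact (Nat.Prime 2) := ⟨Nat.prime_two⟩
  haveI : Fintype H := Fintype.ofFinite _
  have hzz : z * z = 1 := mul_self_of_orderOf_eq_two hz
  have htt : t * t = 1 := mul_self_of_orderOf_eq_two ht
  have hz1 : z ≠ 1 := ne_one_of_orderOf_eq_two hz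
  have ht1 : t ≠ 1 := ne_one_of_orderOf_eq_two ht
  have hzt1 : z * t ≠ 1 := fun h => hne (by
    calc z = z * t * t := by rw [mul_assoc, htt, mul_one]
      _ = t := by rw [h, one_mul])
  have hzt : orderOf (z * t) = 2 := by
    refine orderOf_eq_prime ?_ hzt1
    rw [hcom.mul_pow, pow_two, pow_two, hzz, htt, mul_one]
  set V : Subgroup H := centralizer ({z} : Set H) with hV
  let S : Finset H := {1, z, t, z * t}
  have hzVt : z * (z * t) ≠ 1 := by rw [← mul_assoc, hzz, one_mul]; exact ht1
  have hS : S.card = 4 := by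
    have h1 : z * t ≠ z := fun h => ht1 (mul_eq_left.1 h)
    have h2 : z * t ≠ t := fun h => hz1 (mul_eq_right.1 h)
    simp [S, hz1.symm, ht1.symm, hzt1.symm, hne, h1.symm, h2.symm]
  have hSV : ∀ v ∈ S, v ∈ V := by
    intro v hv
    simp only [S, Finset.mem_insert, Finset.mem_singleton] at hv
    rw [hV, mem_centralizer_singleton_iff]
    rcases hv with rfl | rfl | rfl | rfl
    · simp
    · rfl
    · exact hcom.eq.symm
    · exact ((Commute.refl z).mul_right hcom).eq.symm
  have hVc : Nat.card V = 4 := by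
    refine le_antisymm (hsmall z hz) ?_
    rw [← hS, Nat.card_eq_fintype_card, Fintype.card_subtype]
    exact Finset.card_le_card fun v hv => Finset.mem_filter.2 ⟨Finset.mem_univ _, hSV v hv⟩
  have hVS : ∀ v ∈ V, v ∈ S := by
    intro v hv
    have h : S = Finset.univ.filter fun v => v ∈ V := by
      refine Finset.eq_of_subset_of_card_le
        (fun v hv => Finset.mem_filter.2 ⟨Finset.mem_univ _, hSV v hv⟩) ?_
      rw [hS, ← Fintype.card_subtype, ← Nat.card_eq_fintype_card, hVc]
    rw [h]
    exact Finset.mem_filter.2 ⟨Finset.mem_univ _, hv⟩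
  have hVcomm : ∀ a ∈ V, ∀ b ∈ V, Commute a b := by
    intro a ha b hb
    have := IsPGroup.commutative_of_card_eq_prime_sq (p := 2) (G := V) (by rw [hVc]; norm_num)
      ⟨a, ha⟩ ⟨b, hb⟩
    exact congrArg Subtype.val this
  have hVp : IsPGroup 2 V := IsPGroup.of_card (n := 2) (by rw [hVc]; norm_num)
  obtain ⟨P, hP⟩ := hVp.exists_le_sylow
  have hPV : (P : Subgroup H) = V := by
    refine le_antisymm ?_ hP
    haveI : Nontrivial (P : Subgroup H) := ⟨⟨z, hP (hSV z (by simp [S]))⟩, 1,
      fun h => hz1 (congrArg Subtype.val h)⟩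
    haveI := P.isPGroup'.center_nontrivial
    obtain ⟨n, hn⟩ := IsPGroup.iff_card.1 (P.isPGroup'.to_subgroup (center _))
    have hn0 : 0 < n := by
      have h := Finite.one_lt_card (α := center (P : Subgroup H))
      rw [hn] at h
      exact Nat.pos_of_ne_zero fun e => by rw [e, pow_zero] at h; omega
    obtain ⟨u, hu⟩ := exists_prime_orderOf_dvd_card' (G := center (P : Subgroup H)) 2
      (hn ▸ dvd_pow_self 2 hn0.ne')
    have huH : orderOf ((u : (P : Subgroup H)) : H) = 2 := by rw [orderOf_coe, orderOf_coe]; exact hu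
    have hle : (P : Subgroup H) ≤ centralizer ({((u : (P : Subgroup H)) : H)} : Set H) := fun v hv =>
      mem_centralizer_singleton_iff.2 (congrArg Subtype.val (mem_center_iff.1 u.2 ⟨v, hv⟩))
    have h1 := (Subgroup.card_le_of_le hle).trans (hsmall _ huH)
    rw [← hVc] at h1
    exact (eq_of_le_of_card_ge hP h1).ge
  have hN : normalizer ((P : Subgroup H) : Set H) ≤ centralizer ((P : Subgroup H) : Set H) := by
    intro n hn
    suffices hnV : n ∈ V by
      refine mem_centralizer_iff.2 fun w hw => ?_
      exact (hVcomm w (hPV ▸ hw) n hnV).eq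
    set a := BlockBasic.pPart (p := 2) n
    set b := BlockBasic.pReg (p := 2) n
    have hab : a * b = n := BlockBasic.pPart_mul_pReg n
    have hpow : ∀ v : H, v ∈ zpowers n → v ∈ normalizer ((P : Subgroup H) : Set H) := fun v hv =>
      (zpowers_le.2 hn) hv
    let n' : zpowers n := ⟨n, mem_zpowers n⟩
    have ha : a = ((BlockBasic.pPart (p := 2) n' : zpowers n) : H) := by
      refine BlockBasic.pPart_eq_of_isPPart ⟨((BlockBasic.pReg (p := 2) n' : zpowers n) : H), ?_, ?_, ?_, ?_⟩
      · rw [← Subgroup.coe_mul, BlockBasic.pPart_mul_pReg]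
      · exact congrArg Subtype.val (BlockBasic.commute_pPart_pReg (p := 2) n').eq
      · rw [orderOf_coe]; exact BlockBasic.exists_orderOf_pPart n'
      · rw [orderOf_coe]; exact BlockBasic.not_dvd_orderOf_pReg n'
    have han : a ∈ zpowers n := ha ▸ SetLike.coe_mem _
    have hbn : b ∈ zpowers n := by
      rw [show b = a⁻¹ * n by rw [← hab, inv_mul_cancel_left]]
      exact mul_mem (inv_mem han) (mem_zpowers n)
    have haP : a ∈ (P : Subgroup H) := by
      obtain ⟨k, hk⟩ := BlockBasic.exists_orderOf_pPart (p := 2) n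
      have hp2 : IsPGroup 2 (zpowers a) := IsPGroup.of_card (n := k) (by rw [Nat.card_zpowers, hk])
      exact (P.is_maximal' (hp2.to_sup_of_normal_right' P.isPGroup' (zpowers_le.2 (hpow a han)))
        le_sup_right) ▸ mem_sup_left (mem_zpowers a)
    -- the odd part fixes an involution
    have hbV : b ∈ V := by
      have hbN := hpow b hbn
      have hiter : ∀ j : ℕ, b ^ j * z * (b ^ j)⁻¹ ∈ ({z, t, z * t} : Finset H) := by
        intro j
        have hm : b ^ j * z * (b ^ j)⁻¹ ∈ V := hPV ▸ ((mem_normalizer_iff.1 (pow_mem hbN j) z).1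
          (hPV.symm ▸ hSV z (by simp [S])))
        have := hVS _ hm
        simp only [S, Finset.mem_insert, Finset.mem_singleton] at this ⊢
        exact this.resolve_left fun h => hz1 (conj_eq_one_iff.1 h)
      obtain ⟨i, hi, j, hj, hij, he⟩ := Finset.exists_ne_map_eq_of_card_lt_of_maps_to
        (s := Finset.range 4) (t := ({z, t, z * t} : Finset H))
        (by rw [Finset.card_range]; exact lt_of_le_of_lt Finset.card_le_three (by norm_num))
        (fun j _ => hiter j)
      have key : ∀ i j, i < j → j < 4 → b ^ i * z * (b ^ i)⁻¹ = b ^ j * z * (b ^ j)⁻¹ → b ∈ V := by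
        intro i j hij hj he
        obtain ⟨d, rfl⟩ : ∃ d, j = i + d := ⟨j - i, by omega⟩
        have hd : b ^ d ∈ V := by
          rw [hV, mem_centralizer_singleton_iff]
          rw [pow_add] at he
          calc b ^ d * z = (b ^ i)⁻¹ * (b ^ i * b ^ d * z * (b ^ i * b ^ d)⁻¹) * (b ^ i * b ^ d) := by group
            _ = z * b ^ d := by rw [← he]; group
        obtain ⟨k, hk⟩ := exists_pow_eq_self_of_coprime (x := b) (n := d) (by
          have h2 : ¬ 2 ∣ orderOf b := BlockBasic.not_dvd_orderOf_pReg n
          have h3' : ¬ 3 ∣ orderOf b := fun h => h3 (h.trans (orderOf_dvd_natCard b))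
          have hd3 : d = 1 ∨ d = 2 ∨ d = 3 := by omega
          rcases hd3 with rfl | rfl | rfl
          · exact Nat.coprime_one_left _
          · exact (Nat.Prime.coprime_iff_not_dvd Nat.prime_two).2 h2
          · exact (Nat.Prime.coprime_iff_not_dvd Nat.prime_three).2 h3')
        rw [← hk]
        exact pow_mem hd k
      rw [Finset.mem_range] at hi hj
      rcases lt_or_gt_of_ne hij with h | h
      · exact key i j h hj he
      · exact key j i h hi he.symm
    rw [← hab]
    exact mul_mem (hPV ▸ haP) hbV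
  have hcomp := MonoidHom.ker_transferSylow_isComplement' P hN
  set W := (MonoidHom.transferSylow P hN).ker
  have hWc : Nat.card W * 4 = Nat.card H := by
    rw [← hVc, ← hPV]; exact hcomp.card_mul_card
  have hWodd : Odd (Nat.card W) := by
    rw [Nat.odd_iff]
    have h := P.not_dvd_index
    rw [hcomp.index_eq_card] at h
    omega
  have hfix : ∀ u ∈ V, orderOf u = 2 → ∀ w ∈ W, Commute w u → w = 1 := by
    intro u huV hu w hw hc
    have hVle : V ≤ centralizer ({u} : Set H) := fun v hv =>
      mem_centralizer_singleton_iff.2 (hVcomm v hv u huV).eq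
    have he : V = centralizer ({u} : Set H) := eq_of_le_of_card_ge hVle (by rw [hVc]; exact hsmall u hu)
    have hwV : w ∈ (P : Subgroup H) := by rw [hPV, he]; exact mem_centralizer_singleton_iff.2 hc.eq
    exact (mem_bot.1 (hcomp.disjoint.le_bot ⟨hw, hwV⟩))
  have hW1 : W = ⊥ := by
    refine (Subgroup.eq_bot_iff_forall _).2 fun w hw => ?_
    have h1 := eq_one_of_inverted W hWodd hzz (hfix z (hSV z (by simp [S])) hz) w hw
    have h2 := eq_one_of_inverted W hWodd htt (hfix t (hSV t (by simp [S])) ht) w hw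
    refine hfix (z * t) (hSV _ (by simp [S])) hzt w hw ?_
    have h4 : z * t * w * (z * t) = w := by
      calc z * t * w * (z * t) = z * (t * w * t) * z := by
            rw [show z * t = t * z from hcom.eq]
            conv_lhs => rw [← hcom.eq]
            nth_rw 2 [hcom.eq]
            group
        _ = (z * w * z)⁻¹ := by
            rw [h2]
            rw [mul_inv_rev, mul_inv_rev, inv_eq_of_mul_eq_one_right hzz, mul_assoc]
        _ = w := by rw [h1, inv_inv]
    show w * (z * t) = z * t * w
    calc w * (z * t) = z * t * w * (z * t) * (z * t) := by rw [h4]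
      _ = z * t * w * ((z * t) * (z * t)) := by group
      _ = z * t * w := by rw [mul_self_of_orderOf_eq_two hzt, mul_one]
  rw [← hWc, hW1, card_bot, one_mul]

end Cfsg.Agent.H71.AlmostCyclic
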