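import Cfsg.Agent.H71.AlmostCyclic.SD
import Cfsg.Agent.BlockBasic.PPart

/-!
Sylow subgroups for odd primes normalising a 2-subgroup.
-/

set_option autoImplicit false

namespace Cfsg.Agent.H71.AlmostCyclic

open Subgroup
open scoped Classical

universe u

/-- A central element of order `r` gives a normal `r`-complement when the Sylow subgroup is cyclic. -/
theorem exists_complement_of_cyclic {H : Type u} [Group H] [Finite H] {r : ℕ} [Fact r.Prime]
    (R : Sylow r H) [IsCyclic (R : Subgroup H)] {x : H} (hx : orderOf x = r)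
    (hc : ∀ h : H, Commute h x) :
    ∃ N : Subgroup H, N.Normal ∧ N.IsComplement' (R : Subgroup H) := by
  obtain ⟨c, hcgen⟩ := IsCyclic.exists_zpow_surjective (G := (R : Subgroup H))
  have hmax : ∀ Q : Subgroup H, IsPGroup r Q → Q ≤ normalizer ((R : Subgroup H) : Set H) → Q ≤ R := by
    intro Q hQ hQn
    have h := R.is_maximal' (hQ.to_sup_of_normal_right' R.isPGroup' hQn) le_sup_right
    exact h ▸ le_sup_left
  have hzp : ∀ {v : H}, (∃ k, orderOf v = r ^ k) → v ∈ normalizer ((R : Subgroup H) : Set H) →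
      v ∈ (R : Subgroup H) := by
    rintro v ⟨k, hk⟩ hv
    exact zpowers_le.1 (hmax _ (IsPGroup.of_card (n := k) (by rw [Nat.card_zpowers, hk]))
      (zpowers_le.2 hv))
  have hxR : x ∈ (R : Subgroup H) := hzp ⟨1, by rw [hx, pow_one]⟩ (by
    refine mem_normalizer_iff.2 fun v => ?_
    rw [← (hc v).eq, mul_inv_cancel_right])
  obtain ⟨t, ht⟩ := hcgen ⟨x, hxR⟩
  have hxt : (c : H) ^ t = x := by
    have := congrArg Subtype.val ht
    simpa using this
  have hP : normalizer ((R : Subgroup H) : Set H) ≤ centralizer ((R : Subgroup H) : Set H) := by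
    intro n hn
    -- it is enough to commute with the generator
    suffices hnc : Commute (c : H) n by
      refine mem_centralizer_iff.2 fun w hw => ?_
      obtain ⟨i, hi⟩ := hcgen ⟨w, hw⟩
      have hwi : (c : H) ^ i = w := by
        have := congrArg Subtype.val hi
        simpa using this
      rw [← hwi]
      exact (hnc.zpow_left i).eq
    set a := BlockBasic.pPart (p := r) n
    set b := BlockBasic.pReg (p := r) n
    have hn' : a * b = n := BlockBasic.pPart_mul_pReg n
    have ha : a ∈ zpowers n ∧ b ∈ zpowers n := by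
      have h : a ∈ zpowers n := by
        let n' : zpowers n := ⟨n, mem_zpowers n⟩
        have e : a = ((BlockBasic.pPart (p := r) n' : zpowers n) : H) := by
          refine BlockBasic.pPart_eq_of_isPPart ⟨((BlockBasic.pReg (p := r) n' : zpowers n) : H), ?_, ?_, ?_, ?_⟩
          · rw [← Subgroup.coe_mul, BlockBasic.pPart_mul_pReg]
          · exact congrArg Subtype.val (BlockBasic.commute_pPart_pReg (p := r) n').eq
          · rw [orderOf_coe]; exact BlockBasic.exists_orderOf_pPart n'
          · rw [orderOf_coe]; exact BlockBasic.not_dvd_orderOf_pReg n'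
        rw [e]
        exact SetLike.coe_mem _
      refine ⟨h, ?_⟩
      rw [show b = a⁻¹ * n by rw [← hn', inv_mul_cancel_left]]
      exact mul_mem (inv_mem h) (mem_zpowers n)
    have hle : zpowers n ≤ normalizer ((R : Subgroup H) : Set H) := zpowers_le.2 hn
    have haR : a ∈ (R : Subgroup H) :=
      hzp (BlockBasic.exists_orderOf_pPart n) (hle ha.1)
    have hac : Commute (c : H) a := by
      obtain ⟨i, hi⟩ := hcgen ⟨a, haR⟩
      have hai : (c : H) ^ i = a := by
        have := congrArg Subtype.val hi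
        simpa using this
      rw [← hai]
      exact (Commute.refl (c : H)).zpow_right i
    have hbn : b ∈ normalizer ((R : Subgroup H) : Set H) := hle ha.2
    obtain ⟨e, he⟩ := hcgen ⟨b * (c : H) * b⁻¹, (mem_normalizer_iff.1 hbn c).1 c.2⟩
    have hbe : b * (c : H) * b⁻¹ = (c : H) ^ e := by
      have := congrArg Subtype.val he
      simpa using this.symm
    have hpow : ∀ j : ℕ, b ^ j * (c : H) * (b ^ j)⁻¹ = (c : H) ^ (e ^ j) := by
      intro j
      induction j with
      | zero => simp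
      | succ j ih =>
        calc b ^ (j + 1) * (c : H) * (b ^ (j + 1))⁻¹ = b * (b ^ j * c * (b ^ j)⁻¹) * b⁻¹ := by
              rw [pow_succ']; group
          _ = (b * c * b⁻¹) ^ (e ^ j) := by rw [ih, conj_zpow]
          _ = _ := by rw [hbe, ← zpow_mul, pow_succ']
    have h1 : (r : ℤ) ∣ e - 1 := by
      have h2 : x ^ e = x := by
        have h3 : b * x * b⁻¹ = x := by rw [(hc b).eq, mul_inv_cancel_right]
        rw [← hxt, ← conj_zpow, hbe, ← zpow_mul, mul_comm, zpow_mul, hxt] at h3
        exact h3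
      rw [← hx, orderOf_dvd_iff_zpow_eq_one, zpow_sub, zpow_one, h2, mul_inv_cancel]
    obtain ⟨k, hk⟩ : ∃ k, orderOf (c : H) = r ^ k := by
      obtain ⟨k, hk⟩ := (IsPGroup.iff_orderOf.1 R.isPGroup') c
      exact ⟨k, by rw [orderOf_coe]; exact hk⟩
    have hbk : Commute (c : H) (b ^ r ^ k) := by
      have h2 : ((r ^ k : ℕ) : ℤ) ∣ e ^ r ^ k - 1 := by
        have h3 := dvd_sub_pow_of_dvd_sub h1 k
        rw [one_pow] at h3
        refine dvd_trans ?_ h3
        push_cast
        exact pow_dvd_pow _ (Nat.le_succ k)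
      have h4 : (c : H) ^ (e ^ r ^ k) = c := by
        nth_rw 1 [← hk] at h2
        rw [orderOf_dvd_iff_zpow_eq_one, zpow_sub, zpow_one] at h2
        exact mul_inv_eq_one.1 h2
      have h5 := hpow (r ^ k)
      rw [h4, mul_inv_eq_iff_eq_mul] at h5
      exact h5.symm
    have hbc : Commute (c : H) b := by
      obtain ⟨j, hj⟩ := exists_pow_eq_self_of_coprime (x := b) (n := r ^ k)
        ((Nat.Prime.coprime_iff_not_dvd (Fact.out)).2 (BlockBasic.not_dvd_orderOf_pReg n) |>.pow_left k)
      rw [← hj]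
      exact hbk.pow_right j
    rw [← hn']
    exact hac.mul_right hbc
  exact ⟨_, inferInstance, MonoidHom.ker_transferSylow_isComplement' R hP⟩

set_option maxHeartbeats 1000000 in
theorem exists_normalising {H : Type u} [Group H] [Finite H] {r : ℕ} [hr : Fact r.Prime] (hr2 : r ≠ 2)
    (hcyc : ∀ P : Sylow r H, IsCyclic (P : Subgroup H)) {x : H} (hx : orderOf x = r) {V : Subgroup H}
    (hV : IsPGroup 2 V) (hVx : ∀ v ∈ V, Commute v x) :
    ∃ (R₀ : Sylow r H) (T : Subgroup H), IsPGroup 2 T ∧ V ≤ T ∧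
      ∀ v ∈ (R₀ : Subgroup H), ∀ w ∈ T, v * w * v⁻¹ ∈ T := by
  haveI : Fact (Nat.Prime 2) := ⟨Nat.prime_two⟩
  obtain ⟨R, hR⟩ := (IsPGroup.of_card (n := 1) (p := r)
    (by rw [Nat.card_zpowers, hx, pow_one] : Nat.card (zpowers x) = r ^ 1)).exists_le_sylow
  haveI := hcyc R
  let X : Subgroup H := centralizer ({x} : Set H)
  have hRX : (R : Subgroup H) ≤ X := fun v hv => by
    refine mem_centralizer_singleton_iff.2 ?_
    obtain ⟨g, hg⟩ := IsCyclic.exists_zpow_surjective (G := (R : Subgroup H))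
    obtain ⟨i, hi⟩ := hg ⟨v, hv⟩
    obtain ⟨j, hj⟩ := hg ⟨x, hR (mem_zpowers x)⟩
    have hi' : (g : H) ^ i = v := by simpa using congrArg Subtype.val hi
    have hj' : (g : H) ^ j = x := by simpa using congrArg Subtype.val hj
    rw [← hi', ← hj']
    exact ((Commute.refl (g : H)).zpow_zpow i j).eq
  let RX : Sylow r X := R.subtype hRX
  haveI : IsCyclic (RX : Subgroup X) :=
    (subgroupOfEquivOfLe hRX).isCyclic.2 inferInstance
  have hxX : x ∈ X := mem_centralizer_singleton_iff.2 rfl
  obtain ⟨N, hN, hcomp⟩ := exists_complement_of_cyclic RX (x := ⟨x, hxX⟩)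
    (by rw [Subgroup.orderOf_mk]; exact hx) fun h => Subtype.ext (mem_centralizer_singleton_iff.1 h.2)
  have hidx : N.index = Nat.card (RX : Subgroup X) := hcomp.symm.index_eq_card
  have hVX : V ≤ X := fun v hv => mem_centralizer_singleton_iff.2 (hVx v hv).eq
  have hVN : V.subgroupOf X ≤ N := by
    intro v hv
    obtain ⟨j, hj⟩ := (IsPGroup.iff_orderOf.1 hV) ⟨v, hv⟩
    obtain ⟨e, he⟩ := IsPGroup.iff_card.1 RX.isPGroup'
    rw [← QuotientGroup.eq_one_iff, ← orderOf_eq_one_iff]
    refine Nat.eq_one_of_dvd_coprimes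
      ((Nat.coprime_primes Nat.prime_two hr.out).2 (Ne.symm hr2) |>.pow j e) ?_ ?_
    · refine (orderOf_map_dvd (QuotientGroup.mk' N) v).trans (dvd_of_eq ?_)
      rw [← hj, ← orderOf_coe v, ← orderOf_coe (⟨(v : H), hv⟩ : V)]
    · rw [← he, ← hidx]
      exact orderOf_dvd_natCard _
  have hV' : IsPGroup 2 ((V.subgroupOf X).subgroupOf N) :=
    (hV.comap_of_injective X.subtype X.subtype_injective).comap_of_injective N.subtype N.subtype_injective
  obtain ⟨T, hT⟩ := hV'.exists_le_sylow
  have hfr := Sylow.normalizer_sup_eq_top T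
  let T' : Subgroup X := (T : Subgroup N).map N.subtype
  let NT : Subgroup X := normalizer (T' : Set X)
  obtain ⟨e, he⟩ := IsPGroup.iff_card.1 R.isPGroup'
  have hRc : Nat.card (RX : Subgroup X) = r ^ e := by
    rw [← he]; exact Nat.card_congr (subgroupOfEquivOfLe hRX).toEquiv
  have hdvd : r ^ e ∣ Nat.card NT := by
    rw [← hRc, ← hidx]
    refine Subgroup.card_dvd_of_surjective ((QuotientGroup.mk' N).comp NT.subtype) fun q => ?_
    obtain ⟨g, rfl⟩ := QuotientGroup.mk'_surjective N q
    have hg : g ∈ NT ⊔ N := by rw [hfr]; exact mem_top g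
    obtain ⟨a, ha, b, hb, rfl⟩ := Subgroup.mem_sup_of_normal_right.1 hg
    exact ⟨⟨a, ha⟩, by
      simp only [MonoidHom.coe_comp, Function.comp_apply, coe_subtype, map_mul]
      rw [show QuotientGroup.mk' N b = 1 from (QuotientGroup.eq_one_iff b).2 hb, mul_one]⟩
  obtain ⟨Q, hQ⟩ := Sylow.exists_subgroup_card_pow_prime r hdvd
  let Q' : Subgroup H := (Q.map NT.subtype).map X.subtype
  have hQ' : Nat.card Q' = Nat.card (R : Subgroup H) := by
    rw [card_map_of_injective X.subtype_injective, card_map_of_injective NT.subtype_injective, hQ, he]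
  refine ⟨Sylow.ofCard Q' (by rw [hQ']; exact R.card_eq_multiplicity), T'.map X.subtype, ?_, ?_, ?_⟩
  · exact (T.isPGroup'.map _).map _
  · intro v hv
    exact ⟨⟨v, hVX hv⟩, ⟨⟨⟨v, hVX hv⟩, hVN hv⟩, hT hv, rfl⟩, rfl⟩
  · rintro _ ⟨a, ⟨b, -, rfl⟩, rfl⟩ _ ⟨w, hw, rfl⟩
    refine ⟨(b : X) * w * (b : X)⁻¹, (mem_normalizer_iff.1 b.2 w).1 hw, ?_⟩
    simp

open H39

/-- Commuting involutions in a semidihedral group. -/
theorem SD.involution_commute_out {S : Type*} [Group S] {m : ℕ} {x y : S} (h : SDGen m x y) {v : S}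
    {k : ℤ} (hv : v = x ^ (2 * k) * y) {u : S} (hu : orderOf u = 2) (hc : Commute v u) :
    u = x ^ (4 * 2 ^ m : ℤ) ∨ u = v ∨ u = x ^ (4 * 2 ^ m : ℤ) * v := by
  have hvi : v⁻¹ = v := inv_eq_of_mul_eq_one_right (mul_self_of_orderOf_eq_two (by
    rw [hv]; exact h.orderOf_out_even k))
  rcases SD.centralizer_out h hv hc with e | e | e | e
  · exfalso; rw [e, orderOf_one] at hu; omega
  · exact Or.inl e
  · exact Or.inr (Or.inl (by rw [e, hvi]))
  · exact Or.inr (Or.inr (by rw [e, hvi]))

end Cfsg.Agent.H71.AlmostCyclic
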