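import Cfsg.Agent.H71.AlmostCyclic.Values
import Cfsg.Agent.H71.AlmostCyclic.Local
import Cfsg.Agent.H71.AlmostCyclic.FourSmall
import Cfsg.Agent.H71.AlmostCyclic.Arith
import Cfsg.Agent.S1240
import Mathlib.GroupTheory.SpecificGroups.Cyclic

/-!
A semidihedral Sylow 2-subgroup with cyclic odd Sylow subgroups forces an index two subgroup or a
non-trivial odd core.
-/

set_option autoImplicit false

namespace Cfsg.Agent.H71.AlmostCyclic

open Subgroup H39
open scoped Classical

universe u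

theorem exists_frame {G : Type u} [Group G] [Finite G] (S : Sylow 2 G)
    (hS : Cfsg.IsQuasiDihedral (S : Subgroup G)) (hno : ∀ H : Subgroup G, H.index ≠ 2)
    (hcyc : OddCyclic G) :
    ∃ (F : Type) (_ : Field F) (_ : Fintype F) (_ : DecidableEq F), Nonempty (Frame G F) := by
  haveI : Fact (Nat.Prime 2) := ⟨Nat.prime_two⟩
  obtain ⟨m, x, y, h⟩ := exists_sdGen hS
  have hconj : ∀ g : G, orderOf g = 2 → IsConj g (sdZ m x) := fun g hg =>
    h.conj_z_of_no_index_two hno hg
  have hz : orderOf (sdZ m x) = 2 := by rw [sdZ, orderOf_coe, h.orderOf_z]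
  obtain ⟨F, iF, iT, hodd, ⟨e⟩⟩ := S1240.result S (Or.inl hS) hno
    (fun a b ha hb => (hconj a ha).trans (hconj b hb).symm) (sdZ m x) hz
  let hle : ∀ u ∈ (S : Subgroup G), u ∈ centralizer ({sdZ m x} : Set G) := fun u hu => mem_cent h hu
  let R : Sylow 2 (centralizer ({sdZ m x} : Set G)) := S.subtype hle
  let ρ : (S : Subgroup G) ≃* (R : Subgroup (centralizer ({sdZ m x} : Set G))) :=
    (subgroupOfEquivOfLe hle).symm
  obtain ⟨hp, φ, hsur, hk, hOk, hzφ, hxs, hys, hord⟩ :=
    exists_proj (hcyc.subgroup _) R (h.map_equiv ρ)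
      (fun g => by rw [← map_zpow]; exact Subtype.ext (mem_centralizer_singleton_iff.1 g.2)) hodd e
  rw [← map_zpow] at hzφ
  exact ⟨F, iF, iT, inferInstance, ⟨
    { hp := hp, hodd := hodd, m := m, S := S, x := x, y := y, sd := h, conjz := hconj, cyc := hcyc,
      φ := φ, surj := hsur, hker := hk, hO := hOk, hz := hzφ, hx := hxs, hy := hys, hord := hord }⟩⟩

theorem eq_of_index_three {Q : Type*} [Group Q] [Finite Q] (hcyc : ∀ P : Sylow 3 Q, IsCyclic P)
    {A B : Subgroup Q} [A.Normal] [B.Normal] (hA : A.index = 3) (hB : B.index = 3) : A = B := by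
  haveI : Fact (Nat.Prime 3) := ⟨Nat.prime_three⟩
  suffices h : ∀ A B : Subgroup Q, A.Normal → B.Normal → A.index = 3 → B.index = 3 → A ≤ B from
    le_antisymm (h A B ‹_› ‹_› hA hB) (h B A ‹_› ‹_› hB hA)
  intro A B _ _ hA hB g hg
  set a := BlockBasic.pPart (p := 3) g
  set b := BlockBasic.pReg (p := 3) g
  have hco : ∀ N : Subgroup Q, N.Normal → N.index = 3 → b ∈ N := by
    intro N _ hN
    rw [← QuotientGroup.eq_one_iff, ← orderOf_eq_one_iff]
    refine Nat.eq_one_of_dvd_coprimes ((Nat.Prime.coprime_iff_not_dvd Nat.prime_three).2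
      (BlockBasic.not_dvd_orderOf_pReg g)) ?_ (orderOf_map_dvd (QuotientGroup.mk' N) b)
    exact (_root_.orderOf_dvd_natCard _).trans (dvd_of_eq hN)
  have hab : a * b = g := BlockBasic.pPart_mul_pReg g
  have haA : a ∈ A := by
    have := A.mul_mem hg (A.inv_mem (hco A ‹_› hA))
    rwa [← hab, mul_inv_cancel_right] at this
  obtain ⟨e, he⟩ := BlockBasic.exists_orderOf_pPart (p := 3) g
  obtain ⟨P, hP⟩ := (IsPGroup.of_card (n := e) (by rw [Nat.card_zpowers, he]) :
    IsPGroup 3 (zpowers a)).exists_le_sylow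
  haveI := hcyc P
  obtain ⟨c, hc⟩ := IsCyclic.exists_zpow_surjective (G := (P : Subgroup Q))
  obtain ⟨i, hi⟩ := hc ⟨a, hP (mem_zpowers a)⟩
  have hci : (c : Q) ^ i = a := by simpa using congrArg Subtype.val hi
  have hPA : ¬ (P : Subgroup Q) ≤ A := fun h => P.not_dvd_index (by
    have := Subgroup.index_dvd_of_le h
    rwa [hA] at this)
  have h3 : (3 : ℤ) ∣ i := by
    by_contra h3
    refine hPA fun v hv => ?_
    obtain ⟨k, hk⟩ := hc ⟨v, hv⟩
    have hck : (c : Q) ^ k = v := by simpa using congrArg Subtype.val hk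
    rw [← hck]
    refine zpow_mem ?_ k
    obtain ⟨u, w, huw⟩ : IsCoprime (3 : ℤ) i := (Int.prime_three.coprime_iff_not_dvd).2 h3
    rw [show (c : Q) = ((c : Q) ^ A.index) ^ u * ((c : Q) ^ i) ^ w by
      rw [hA, ← zpow_natCast, ← zpow_mul, ← zpow_mul, ← zpow_add,
        show ((3 : ℕ) : ℤ) * u + i * w = 1 by push_cast; linear_combination huw, zpow_one]]
    exact mul_mem (zpow_mem (Subgroup.pow_index_mem A _) u) (zpow_mem (by rw [hci]; exact haA) w)
  obtain ⟨j, rfl⟩ := h3
  rw [← hab]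
  refine B.mul_mem ?_ (hco B ‹_› hB)
  rw [← hci, mul_comm, zpow_mul, show (3 : ℤ) = ((B.index : ℕ) : ℤ) by rw [hB]; rfl, zpow_natCast]
  exact Subgroup.pow_index_mem B _

theorem zpowers_eq_of_orderOf_eq {Q : Type*} [Group Q] [Finite Q] [IsCyclic Q] {a b : Q}
    (h : orderOf a = orderOf b) : zpowers a = zpowers b := by
  cases nonempty_fintype Q
  classical
  have key : ∀ a v : Q, v ∈ zpowers a ↔ v ^ orderOf a = 1 := fun a v => by
    refine ⟨fun hv => orderOf_dvd_iff_pow_eq_one.1 (orderOf_dvd_of_mem_zpowers hv), fun hv => ?_⟩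
    have hs : (Finset.univ.filter fun w : Q => w ∈ zpowers a) ⊆
        Finset.univ.filter fun w : Q => w ^ orderOf a = 1 := fun w hw => by
      simp only [Finset.mem_filter, Finset.mem_univ, true_and] at hw ⊢
      exact orderOf_dvd_iff_pow_eq_one.1 (orderOf_dvd_of_mem_zpowers hw)
    have he := Finset.eq_of_subset_of_card_le hs ((IsCyclic.card_pow_eq_one_le (orderOf_pos a)).trans
      (le_of_eq (by rw [← Fintype.card_subtype, ← Nat.card_eq_fintype_card]; exact (Nat.card_zpowers a).symm)))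
    have : v ∈ Finset.univ.filter fun w : Q => w ∈ zpowers a := by
      rw [he]; simpa using hv
    simpa using this
  ext v
  rw [key, key, h]

namespace Frame

variable {G : Type u} [Group G] [Finite G] {F : Type} [Field F] [Fintype F] [DecidableEq F]
  (K : Frame G F)

include K

/-- The order formula. -/
theorem order_formula (hno : ∀ H : Subgroup G, H.index ≠ 2) :
    Nat.card G = 357 * Nat.card K.C ∧ Fintype.card F = 5 ∧ Nat.card K.C = 240 * K.o ∧
      K.o' = K.o ∧ K.CV = 12 * K.o := by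
  haveI : Fact (Nat.Prime 2) := ⟨Nat.prime_two⟩
  cases nonempty_fintype G
  haveI : Fintype K.C := Fintype.ofFinite _
  obtain ⟨Fd, F₃, h0, h1, h2, h3, h4⟩ := K.order_relation hno
  obtain ⟨g, hg, hge⟩ := K.D.half_odd
  have hM : (Fintype.card F : ℤ) - K.D.eps = 2 ^ (K.m + 4 - 2) * (K.D.h : ℤ) := by
    rw [K.D.eps_card, K.D_M, Frame.M, show K.m + 4 - 2 = K.m + 2 by omega]
    push_cast; rfl
  have hQ : (Nat.card (PG F) : ℤ) = (Fintype.card F : ℤ) * (((Fintype.card F : ℤ) - K.D.eps) *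
      ((Fintype.card F : ℤ) + K.D.eps)) := by
    rw [card_PG, Nat.cast_mul, Nat.cast_sub (Nat.one_le_pow _ _ Fintype.card_pos)]
    rcases K.D.eps_cases with e | e <;> rw [e] <;> push_cast <;> ring
  have hC : Nat.card K.C = 2 ^ (K.m + 4) * Fintype.card F * g * K.D.h * K.o := by
    have : (Nat.card K.C : ℤ) = ((2 ^ (K.m + 4) * Fintype.card F * g * K.D.h * K.o : ℕ) : ℤ) := by
      rw [K.card_C, Nat.cast_mul, hQ, hM, hge, show K.m + 4 - 2 = K.m + 2 by omega]
      push_cast
      ring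
    exact_mod_cast this
  have hCV : K.CV = 4 * g * K.o' := by
    have : (K.CV : ℤ) = ((4 * g * K.o' : ℕ) : ℤ) := by rw [K.CV_eq, hge]; push_cast; ring
    exact_mod_cast this
  let D : OrderData :=
    { p := Fintype.card F, hp := K.hp, ε := K.D.eps, hε := K.D.eps_cases, n := K.m + 4,
      hn := by omega, g := g, h := K.D.h, o := K.o, o' := K.o', G := Nat.card G,
      hg := hg, hh := K.D.hh, ho := Cores.odd_card_oddCore, ho' := K.o'_dvd, hM := hM, hg' := hge,
      hG := by
        have h5 := K.S.card_eq_multiplicity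
        rw [K.sd.card] at h5
        rw [← Nat.factorization_def _ Nat.prime_two]
        exact (Nat.pow_right_injective le_rfl h5).symm
      hw := fun r hr hr2 hd => by
        rw [← hCV] at hd ⊢
        rw [← hC]
        exact K.padic_CV_eq hr hr2 hd
      ha := fun r hr hr2 hd => by
        rw [← hC] at hd ⊢
        rw [← hCV]
        exact K.padic_G_eq hr hr2 hd }
  have hDC : D.C = Nat.card K.C := hC.symm
  have hDV : D.CV = K.CV := hCV.symm
  obtain ⟨e1, e2, e3, e4, -, e6, e7⟩ := D.exceptional (F := Fd) (F₃ := F₃) h0 h1 h2 h3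
    (by rw [hDC, hDV]; exact h4)
  rw [hDC] at e7
  change Fintype.card F = 5 at e1
  change K.m + 4 = 4 at e2
  change g = 3 at e3
  change K.D.h = 1 at e4
  change K.o' = K.o at e6
  exact ⟨e7, e1, by rw [hC, e1, e2, e3, e4]; norm_num, e6, by rw [hCV, e3, e6]⟩

theorem exists_swap : ∃ w : G, w * (K.t : G) * w⁻¹ = sdZ K.m K.x ∧
    w * sdZ K.m K.x * w⁻¹ = (K.t : G) := by
  have ht2 : orderOf (K.t : G) = 2 := by rw [orderOf_coe, K.orderOf_t]
  obtain ⟨g, hg⟩ := isConj_iff.1 (K.conjz _ ht2)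
  have hzt : sdZ K.m K.x * (K.t : G) = (K.t : G) * sdZ K.m K.x := congrArg Subtype.val (K.z_central K.t).eq
  set v : G := g * sdZ K.m K.x * g⁻¹ with hv
  have hvC : v ∈ K.C := by
    refine K.mem_C.2 ?_
    have h : v * (g * (K.t : G) * g⁻¹) = g * (K.t : G) * g⁻¹ * v :=
      calc v * (g * (K.t : G) * g⁻¹) = g * (sdZ K.m K.x * K.t) * g⁻¹ := by rw [hv]; group
        _ = _ := by rw [hzt, hv]; group
    rwa [hg] at h
  have hv2 : orderOf (⟨v, hvC⟩ : K.C) = 2 := by
    rw [← orderOf_coe]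
    show orderOf (g * sdZ K.m K.x * g⁻¹) = 2
    rw [show orderOf (g * sdZ K.m K.x * g⁻¹) = orderOf (sdZ K.m K.x) from (MulAut.conj g).orderOf_eq _,
      ← K.orderOf_z, ← orderOf_coe]
    rfl
  have hne : (⟨v, hvC⟩ : K.C) ≠ K.z := fun h => K.t_ne_z (Subtype.ext (by
    have h1 : g * sdZ K.m K.x * g⁻¹ = g * (K.t : G) * g⁻¹ := (congrArg Subtype.val h).trans hg.symm
    exact (mul_left_cancel (mul_right_cancel h1)).symm))
  obtain ⟨c, hc⟩ := isConj_iff.1 (K.isConj_t hv2 hne)
  refine ⟨(c : G) * g, ?_, ?_⟩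
  · calc (c : G) * g * (K.t : G) * ((c : G) * g)⁻¹ = (c : G) * (g * (K.t : G) * g⁻¹) * (c : G)⁻¹ := by group
      _ = _ := by rw [hg, K.mem_C.1 c.2, mul_inv_cancel_right]
  · calc (c : G) * g * sdZ K.m K.x * ((c : G) * g)⁻¹ = (c : G) * v * (c : G)⁻¹ := by rw [hv]; group
      _ = _ := congrArg Subtype.val hc

/-- No index two subgroup in a subgroup containing the centraliser and a fusing element. -/
theorem no_index_two_above (N : Subgroup G) (hN : K.C ≤ N) {w : G} (hw : w ∈ N)
    (hwt : w * (K.t : G) * w⁻¹ = sdZ K.m K.x) : ∀ H : Subgroup N, H.index ≠ 2 := by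
  intro H hH
  haveI : Fact (Nat.Prime 2) := ⟨Nat.prime_two⟩
  have hmul : ∀ {a b : N}, a * b ∈ H ↔ (a ∈ H ↔ b ∈ H) := fun {a b} => mul_mem_iff_of_index_two hH
  haveI : H.Normal := normal_of_index_eq_two hH
  let ι : K.C →* N := Subgroup.inclusion hN
  have hconj : ∀ {a b : N}, IsConj a b → (a ∈ H ↔ b ∈ H) := fun {a b} hab => by
    obtain ⟨c, rfl⟩ := isConj_iff.1 hab
    exact ⟨fun h => ‹H.Normal›.conj_mem a h c, fun h => by simpa [mul_assoc] using ‹H.Normal›.conj_mem _ h c⁻¹⟩
  have heven : ∀ k : ℕ, Even k → ι K.a ^ k ∈ H := by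
    rintro k ⟨r, rfl⟩
    rw [← two_mul, pow_mul]
    exact pow_mem (sq_mem_of_index_two hH _) r
  have hz : ι K.z ∈ H := by
    rw [show K.z = K.a ^ (4 * 2 ^ K.m) by rw [K.z_eq_zpow, ← zpow_natCast]; congr 1,
      map_pow]
    exact heven _ ⟨2 * 2 ^ K.m, by ring⟩
  have htz : ι K.t ∈ H := by
    refine (hconj (isConj_iff.2 ⟨⟨w, hw⟩, Subtype.ext ?_⟩)).2 hz
    exact hwt
  have hat : ι (K.a * K.t) ∈ H := by
    have ho : orderOf (K.a * K.t) = 2 ^ 2 := by
      rw [show K.a * K.t = K.inC (K.x ^ (1 : ℤ) * K.y) by rw [map_mul, zpow_one, inC_x, inC_y],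
        orderOf_injective _ K.inC_injective]
      refine K.sd.orderOf_of_sq_eq_z ?_
      rw [K.sd.out_sq, one_mul]
    obtain ⟨c, i, hi⟩ := K.exists_conj_a ho le_rfl
    refine (hconj (ι.map_isConj (isConj_iff.2 ⟨c, hi⟩))).2 ?_
    rw [map_pow]
    refine heven i ?_
    rcases Nat.even_or_odd i with h | h
    · exact h
    · exfalso
      have h1 : orderOf (K.a ^ i) = 4 := by rw [← hi, conj_orderOf, ho]; norm_num
      have h2 : orderOf (K.a ^ i) = 2 * K.M := by
        rw [Nat.Coprime.orderOf_pow, K.orderOf_a]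
        rw [K.orderOf_a, Frame.M, ← pow_succ']
        exact (Nat.coprime_two_left.2 h).pow_left _
      rw [h1, Frame.M] at h2
      have := Nat.pow_le_pow_right (show 1 ≤ 2 by norm_num) (show 2 ≤ K.m + 2 by omega)
      omega
  rw [map_mul, hmul] at hat
  have haH : ι K.a ∈ H := hat.2 htz
  -- so a Sylow subgroup lies in `H`
  let SN : Sylow 2 N := K.S.subtype fun u hu => hN (mem_cent K.sd hu)
  have hSH : (SN : Subgroup N) ≤ H := by
    intro v hv
    rcases K.sd.cases_elem ⟨(v : G), hv⟩ with ⟨i, hi⟩ | ⟨i, hi⟩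
    · have : v = ι (K.inC (K.x ^ i)) := Subtype.ext (congrArg Subtype.val hi :)
      rw [this, map_zpow, map_zpow, inC_x]
      exact zpow_mem haH i
    · have : v = ι (K.inC (K.x ^ i * K.y)) := Subtype.ext (congrArg Subtype.val hi :)
      rw [this, map_mul, map_mul, map_zpow, map_zpow, inC_x, inC_y]
      exact mul_mem (zpow_mem haH i) htz
  have h2 := Subgroup.index_dvd_of_le hSH
  rw [hH] at h2
  exact SN.not_dvd_index h2

theorem oddCore_fixed (hno : ∀ H : Subgroup G, H.index ≠ 2) {w : G}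
    (hwt : w * (K.t : G) * w⁻¹ = sdZ K.m K.x) (hwz : w * sdZ K.m K.x * w⁻¹ = (K.t : G)) :
    ∀ v ∈ (Cfsg.oddCore K.C).map K.C.subtype, w * v * w⁻¹ ∈ (Cfsg.oddCore K.C).map K.C.subtype := by
  obtain ⟨-, -, -, ho, hCV⟩ := K.order_formula hno
  set O := Cfsg.oddCore K.C
  let W : Subgroup G := (centralizer ({K.t} : Set K.C)).map K.C.subtype
  have hOc : O ≤ centralizer ({K.t} : Set K.C) := by
    have h : O ⊓ centralizer ({K.t} : Set K.C) = O := eq_of_le_of_card_ge inf_le_left (le_of_eq ho.symm)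
    exact h ▸ inf_le_right
  have hW : ∀ {v : G}, v ∈ W ↔ v * sdZ K.m K.x = sdZ K.m K.x * v ∧ v * (K.t : G) = (K.t : G) * v := by
    intro v
    constructor
    · rintro ⟨u, hu, rfl⟩
      exact ⟨K.mem_C.1 u.2, congrArg Subtype.val (mem_centralizer_singleton_iff.1 hu)⟩
    · rintro ⟨h1, h2⟩
      exact ⟨⟨v, K.mem_C.2 h1⟩, mem_centralizer_singleton_iff.2 (Subtype.ext h2), rfl⟩
  have hwW : ∀ v ∈ W, w * v * w⁻¹ ∈ W := by
    intro v hv
    obtain ⟨h1, h2⟩ := hW.1 hv
    refine hW.2 ⟨?_, ?_⟩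
    · rw [← hwt]
      calc w * v * w⁻¹ * (w * (K.t : G) * w⁻¹) = w * (v * (K.t : G)) * w⁻¹ := by group
        _ = _ := by rw [h2]; group
    · rw [← hwz]
      calc w * v * w⁻¹ * (w * sdZ K.m K.x * w⁻¹) = w * (v * sdZ K.m K.x) * w⁻¹ := by group
        _ = _ := by rw [h1]; group
  have hwW' : ∀ v ∈ W, w⁻¹ * v * w ∈ W := by
    intro v hv
    obtain ⟨h1, h2⟩ := hW.1 hv
    have e1 : w⁻¹ * (K.t : G) * w = sdZ K.m K.x := by rw [← hwz]; group
    have e2 : w⁻¹ * sdZ K.m K.x * w = (K.t : G) := by rw [← hwt]; group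
    refine hW.2 ⟨?_, ?_⟩
    · rw [← e1]
      calc w⁻¹ * v * w * (w⁻¹ * (K.t : G) * w) = w⁻¹ * (v * (K.t : G)) * w := by group
        _ = _ := by rw [h2]; group
    · rw [← e2]
      calc w⁻¹ * v * w * (w⁻¹ * sdZ K.m K.x * w) = w⁻¹ * (v * sdZ K.m K.x) * w := by group
        _ = _ := by rw [h1]; group
  -- two normal subgroups of `W` of odd order
  let A : Subgroup W := (O.map K.C.subtype).subgroupOf W
  haveI hAn : A.Normal := ⟨by
    rintro ⟨a, ha⟩ hmem ⟨c, hc⟩
    obtain ⟨a', ha', rfl⟩ := (mem_subgroupOf.1 hmem)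
    exact ⟨⟨c, K.mem_C.2 (hW.1 hc).1⟩ * a' * ⟨c, K.mem_C.2 (hW.1 hc).1⟩⁻¹,
      (inferInstance : O.Normal).conj_mem _ ha' _, rfl⟩⟩
  let τ : W →* W :=
    { toFun := fun v => ⟨w * (v : G) * w⁻¹, hwW _ v.2⟩
      map_one' := Subtype.ext (by simp)
      map_mul' := fun a b => Subtype.ext (by simp) }
  have hτ : Function.Bijective τ := ⟨fun a b h =>
    Subtype.ext (mul_left_cancel (mul_right_cancel (congrArg Subtype.val h :))),
    fun b => ⟨⟨w⁻¹ * (b : G) * w, hwW' _ b.2⟩, Subtype.ext (by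
      show w * (w⁻¹ * (b : G) * w) * w⁻¹ = _
      group)⟩⟩
  let B : Subgroup W := A.map τ
  haveI hBn : B.Normal := hAn.map τ hτ.2
  have hAc : Nat.card A = K.o := by
    rw [Nat.card_congr (subgroupOfEquivOfLe (map_mono hOc)).toEquiv,
      card_map_of_injective K.C.subtype_injective]
    rfl
  have hBc : Nat.card B = K.o := by rw [card_map_of_injective hτ.1, hAc]
  let N : Subgroup W := A ⊔ B
  have hodd : Odd (Nat.card N) := by
    have h1 : Nat.card N ∣ Nat.card A * Nat.card B := by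
      have h2 := (A.subgroupOf N).card_mul_index
      rw [Nat.card_congr (subgroupOfEquivOfLe (le_sup_left : A ≤ N)).toEquiv] at h2
      rw [← h2]
      refine mul_dvd_mul_left _ ?_
      show A.relIndex (A ⊔ B) ∣ _
      rw [sup_comm, Subgroup.relIndex_sup_right]
      exact relIndex_dvd_card A B
    refine Odd.of_dvd_nat ?_ h1
    rw [hAc, hBc]
    exact Cores.odd_card_oddCore.mul Cores.odd_card_oddCore
  have hWc : Nat.card W = 12 * K.o := by rw [card_map_of_injective K.C.subtype_injective, ← hCV]; rfl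
  have hN3 : Nat.card N ∣ 3 * K.o := by
    have h1 : Nat.card N ∣ 4 * (3 * K.o) := by
      rw [← mul_assoc, show 4 * 3 = 12 from rfl, ← hWc]; exact N.card_subgroup_dvd_card
    exact ((Nat.coprime_two_right.2 hodd).pow_right 2).dvd_of_dvd_mul_left h1
  have hAB : A = B := by
    have hdA : Nat.card A ∣ Nat.card N := Subgroup.card_dvd_of_le le_sup_left
    rw [hAc] at hdA
    obtain ⟨k, hk⟩ := hdA
    have ho0 : K.o ≠ 0 := Nat.card_pos.ne'
    have hk3 : k ∣ 3 := by
      rw [hk, mul_comm 3] at hN3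
      exact Nat.dvd_of_mul_dvd_mul_left (Nat.pos_of_ne_zero ho0) hN3
    rcases (Nat.dvd_prime Nat.prime_three).1 hk3 with rfl | rfl
    · rw [mul_one] at hk
      exact (eq_of_le_of_card_ge (le_sup_left : A ≤ N) (by rw [hAc, hk])).trans
        (eq_of_le_of_card_ge (le_sup_right : B ≤ N) (by rw [hBc, hk])).symm
    · have hi : ∀ X : Subgroup W, X ≤ N → Nat.card X = K.o → (X.subgroupOf N).index = 3 := by
        intro X hX hXc
        have h2 := (X.subgroupOf N).card_mul_index
        rw [Nat.card_congr (subgroupOfEquivOfLe hX).toEquiv, hXc, hk] at h2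
        exact Nat.eq_of_mul_eq_mul_left (Nat.pos_of_ne_zero ho0) h2
      haveI : (A.subgroupOf N).Normal := hAn.subgroupOf N
      haveI : (B.subgroupOf N).Normal := hBn.subgroupOf N
      have h := eq_of_index_three (((K.cyc.subgroup W).subgroup N) 3 Nat.prime_three (by norm_num))
        (hi A le_sup_left hAc) (hi B le_sup_right hBc)
      rw [subgroupOf_inj, inf_eq_left.2 le_sup_left, inf_eq_left.2 le_sup_right] at h
      exact h
  intro v hv
  have hvW : v ∈ W := map_mono hOc hv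
  have h : τ ⟨v, hvW⟩ ∈ A := hAB.symm ▸ mem_map_of_mem τ (mem_subgroupOf.2 hv)
  exact mem_subgroupOf.1 h

/-- The odd core of the centraliser is trivial. -/
theorem o_eq_one (hno : ∀ H : Subgroup G, H.index ≠ 2) (hcore : Cfsg.oddCore G = ⊥) : K.o = 1 := by
  haveI : Fact (Nat.Prime 2) := ⟨Nat.prime_two⟩
  obtain ⟨hG, -, -, -, -⟩ := K.order_formula hno
  let OG : Subgroup G := (Cfsg.oddCore K.C).map K.C.subtype
  let N : Subgroup G := normalizer (OG : Set G)
  have hCN : K.C ≤ N := by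
    have : ∀ c ∈ K.C, ∀ v ∈ OG, c * v * c⁻¹ ∈ OG := by
      rintro c hc _ ⟨v, hv, rfl⟩
      exact ⟨⟨c, hc⟩ * v * ⟨c, hc⟩⁻¹, (inferInstance : (Cfsg.oddCore K.C).Normal).conj_mem _ hv _, rfl⟩
    intro c hc
    refine mem_normalizer_iff.2 fun v => ⟨this c hc v, fun h => ?_⟩
    have := this c⁻¹ (inv_mem hc) _ h
    simpa [mul_assoc] using this
  obtain ⟨w, hwt, hwz⟩ := K.exists_swap
  have hwN : w ∈ N := by
    have hf := K.oddCore_fixed hno hwt hwz
    refine mem_normalizer_iff.2 fun v => ⟨hf v, fun h => ?_⟩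
    let σ : OG → OG := fun a => ⟨w * a * w⁻¹, hf a a.2⟩
    have hσ : Function.Injective σ := fun a b h =>
      Subtype.ext (mul_left_cancel (mul_right_cancel (congrArg Subtype.val h :)))
    obtain ⟨a, ha⟩ := (Finite.injective_iff_surjective.1 hσ) ⟨_, h⟩
    have := congrArg Subtype.val ha
    rw [← mul_left_cancel (mul_right_cancel this)]
    exact a.2
  let SN : Sylow 2 N := K.S.subtype fun u hu => hCN (mem_cent K.sd hu)
  have hSN : Cfsg.IsQuasiDihedral (SN : Subgroup N) := (K.sd.map_equiv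
    (subgroupOfEquivOfLe (H := (K.S : Subgroup G)) (K := N)
      fun u hu => hCN (mem_cent K.sd hu)).symm).isQuasiDihedral
  have hno' := K.no_index_two_above N hCN hwN hwt
  obtain ⟨F', iF, iT, iD, ⟨K'⟩⟩ := exists_frame SN hSN hno' (K.cyc.subgroup N)
  letI := iF; letI := iT; letI := iD
  obtain ⟨hN, -, -, -, -⟩ := K'.order_formula hno'
  have hz : orderOf (⟨sdZ K.m K.x, hCN K.z.2⟩ : N) = 2 := by
    rw [← orderOf_coe]
    show orderOf ((K.z : K.C) : G) = 2
    rw [orderOf_coe, K.orderOf_z]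
  obtain ⟨c, hc⟩ := isConj_iff.1 (K'.conjz _ hz)
  have hcard : Nat.card K'.C = Nat.card K.C := by
    show Nat.card ↥(centralizer ({sdZ K'.m K'.x} : Set N)) = _
    rw [← hc, centralizer_conj_card]
    refine Nat.card_congr
      { toFun := fun v => ⟨(v : N), K.mem_C.2 (congrArg Subtype.val (mem_centralizer_singleton_iff.1 v.2))⟩
        invFun := fun v => ⟨⟨v, hCN v.2⟩, mem_centralizer_singleton_iff.2 (Subtype.ext (K.mem_C.1 v.2))⟩
        left_inv := fun _ => rfl
        right_inv := fun _ => rfl }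
  have hNtop : N = ⊤ := eq_top_of_card_eq _ (by rw [hN, hcard, hG])
  haveI : OG.Normal := normalizer_eq_top_iff.1 hNtop
  have hodd : Odd (Nat.card OG) := by
    rw [card_map_of_injective K.C.subtype_injective]; exact Cores.odd_card_oddCore
  have hbot : OG = ⊥ := le_bot_iff.1 (hcore ▸ Cores.le_oddCore hodd)
  have : Nat.card OG = 1 := by rw [hbot, card_bot]
  rwa [card_map_of_injective K.C.subtype_injective] at this

/-- The centraliser in `C` of an element of order three. -/
theorem card_cent_three (hno : ∀ H : Subgroup G, H.index ≠ 2) (hcore : Cfsg.oddCore G = ⊥) {x : K.C}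
    (hx : orderOf x = 3) : Nat.card (centralizer ({x} : Set K.C)) ≤ 12 := by
  obtain ⟨-, hp, -, -, -⟩ := K.order_formula hno
  have hker : Nat.card K.φ.ker = 2 := by
    have h := K.hker
    rw [show Nat.card (Cfsg.oddCore K.C) = 1 from K.o_eq_one hno hcore, mul_one] at h
    exact h
  obtain ⟨g, hg⟩ := Matrix.ProjGenLinGroup.mk_surjective (K.φ x)
  have hgo : orderOf (K.φ x) = 3 := by
    refine ((Nat.dvd_prime Nat.prime_three).1 (hx ▸ orderOf_map_dvd K.φ x)).resolve_left fun h => ?_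
    rw [orderOf_eq_one_iff] at h
    rcases K.odd_of_phi_odd (g := x) (by rw [h, orderOf_one]; exact odd_one) with ho | ho
    · have := Subgroup.orderOf_dvd_natCard _ (show x ∈ K.φ.ker from h)
      rw [hx, hker] at this
      omega
    · rw [(K.odd_mul_z (by rw [hx]; decide)).1, hx] at ho
      exact absurd ho (by decide)
  have hns : ¬IsScalarMat (g : Matrix (Fin 2) (Fin 2) F) := fun h => by
    rw [← hg, (mk_eq_one_iff g).2 h, orderOf_one] at hgo; omega
  have ht : (g : Matrix (Fin 2) (Fin 2) F).trace ≠ 0 := fun h => by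
    have h2 : orderOf (K.φ x) ∣ 2 := orderOf_dvd_of_pow_eq_one (by
      rw [pow_two, ← hg]; exact (mk_sq_eq_one_iff hns).2 h)
    rw [hgo] at h2; omega
  let X := centralizer ({x} : Set K.C)
  let f : X →* PG F := K.φ.comp X.subtype
  have hr : f.range ≤ aff g := by
    rintro _ ⟨v, rfl⟩
    obtain ⟨k, hk⟩ := Matrix.ProjGenLinGroup.mk_surjective (K.φ (v : K.C))
    show K.φ (v : K.C) ∈ aff g
    rw [← hk]
    refine mem_aff.2 ⟨k, commute_lift ht ?_, rfl⟩
    rw [hk, hg, ← map_mul, ← map_mul, mem_centralizer_singleton_iff.1 v.2]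
  have hr6 : Nat.card f.range ≤ 6 := by
    refine (Nat.le_of_dvd Nat.card_pos (Subgroup.card_dvd_of_le hr)).trans ?_
    have := card_aff_add hns
    rw [Nat.card_eq_fintype_card (α := F), hp] at this
    omega
  have hk2 : Nat.card f.ker ≤ 2 := by
    exact le_of_le_of_eq (Nat.card_le_card_of_injective (fun v => (⟨((v : X) : K.C), v.2⟩ : K.φ.ker))
      fun a b h => Subtype.ext (Subtype.ext (congrArg Subtype.val h :))) hker
  have h := f.ker.card_mul_index
  rw [index_ker] at h
  calc Nat.card X = Nat.card f.ker * Nat.card f.range := h.symm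
    _ ≤ 2 * 6 := Nat.mul_le_mul hk2 hr6

/-- An element of order three has a centraliser of order dividing 36. -/
theorem card_cent_three_G (hno : ∀ H : Subgroup G, H.index ≠ 2) (hcore : Cfsg.oddCore G = ⊥) {x : G}
    (hx : orderOf x = 3) : Nat.card (centralizer ({x} : Set G)) ∣ 36 := by
  haveI : Fact (Nat.Prime 2) := ⟨Nat.prime_two⟩
  haveI : Fact (Nat.Prime 3) := ⟨Nat.prime_three⟩
  obtain ⟨hG, hp, hC, -, hCV⟩ := K.order_formula hno
  rw [K.o_eq_one hno hcore, mul_one] at hC hCV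
  -- move `x` into the centraliser of the four-group
  obtain ⟨x₀, hx₀⟩ := exists_prime_orderOf_dvd_card' (G := centralizer ({K.t} : Set K.C)) 3
    (by rw [show Nat.card ↥(centralizer ({K.t} : Set K.C)) = 12 from hCV]; norm_num)
  have hx₀C : orderOf (x₀ : K.C) = 3 := by rw [orderOf_coe]; exact hx₀
  set x₁ : G := ((x₀ : K.C) : G) with hx₁
  have hx₁o : orderOf x₁ = 3 := by rw [hx₁, orderOf_coe]; exact hx₀C
  suffices h : Nat.card (centralizer ({x₁} : Set G)) ∣ 36 by
    obtain ⟨P, hP⟩ := (IsPGroup.of_card (n := 1) (by rw [Nat.card_zpowers, hx₁o, pow_one]) :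
      IsPGroup 3 (zpowers x₁)).exists_le_sylow
    obtain ⟨g, hg⟩ := exists_conj_le_sylow (IsPGroup.of_card (n := 1)
      (by rw [Nat.card_zpowers, hx, pow_one])) P (R := zpowers x)
    haveI := K.cyc 3 Nat.prime_three (by norm_num) P
    let y : (P : Subgroup G) := ⟨g * x * g⁻¹, hg x (mem_zpowers x)⟩
    let y₁ : (P : Subgroup G) := ⟨x₁, hP (mem_zpowers x₁)⟩
    have hy : orderOf y = 3 := by
      rw [← orderOf_coe]
      exact ((MulAut.conj g).orderOf_eq x).trans hx
    have hy₁ : orderOf y₁ = 3 := by rw [← orderOf_coe]; exact hx₁o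
    have hsame : zpowers y = zpowers y₁ := by
      refine zpowers_eq_of_orderOf_eq ?_
      rw [hy, hy₁]
    obtain ⟨i, hi⟩ : y₁ ∈ zpowers y := hsame ▸ mem_zpowers y₁
    obtain ⟨j, hj⟩ : y ∈ zpowers y₁ := hsame.symm ▸ mem_zpowers y
    have hi' : (g * x * g⁻¹) ^ i = x₁ := congrArg Subtype.val hi
    have hj' : x₁ ^ j = g * x * g⁻¹ := congrArg Subtype.val hj
    have heq : centralizer ({g * x * g⁻¹} : Set G) = centralizer ({x₁} : Set G) := by
      ext v
      rw [mem_centralizer_singleton_iff, mem_centralizer_singleton_iff]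
      refine ⟨fun hv => ?_, fun hv => ?_⟩
      · rw [← hi']; exact (Commute.zpow_right (show Commute v _ from hv) i).eq
      · rw [← hj']; exact (Commute.zpow_right (show Commute v _ from hv) j).eq
    rw [← centralizer_conj_card g x, heq]
    exact h
  set X : Subgroup G := centralizer ({x₁} : Set G) with hX
  have hx₁X : x₁ ∈ X := mem_centralizer_singleton_iff.2 rfl
  obtain ⟨R, hR⟩ := (IsPGroup.of_card (n := 1)
    (by rw [Nat.card_zpowers, show orderOf (⟨x₁, hx₁X⟩ : X) = 3 by rw [← orderOf_coe]; exact hx₁o,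
      pow_one]) : IsPGroup 3 (zpowers (⟨x₁, hx₁X⟩ : X))).exists_le_sylow
  haveI := K.cyc.subgroup X 3 Nat.prime_three (by norm_num) R
  obtain ⟨K₁, hK₁, hcomp⟩ := exists_complement_of_cyclic R (x := (⟨x₁, hx₁X⟩ : X))
    (by rw [← orderOf_coe]; exact hx₁o) fun h => Subtype.ext (mem_centralizer_singleton_iff.1 h.2)
  have hK₁3 : ¬ 3 ∣ Nat.card K₁ := by
    rw [← hcomp.index_eq_card]
    exact R.not_dvd_index
  have hcard := hcomp.card_mul_card
  obtain ⟨e, he⟩ := IsPGroup.iff_card.1 R.isPGroup'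
  have hR9 : Nat.card (R : Subgroup X) ∣ 9 := by
    have h1 : 3 ^ e ∣ 357 * 240 := by
      rw [← he, ← hC, ← hG]
      exact (Subgroup.card_subgroup_dvd_card _).trans (Subgroup.card_subgroup_dvd_card X)
    rw [he]
    rcases Nat.lt_or_ge e 3 with h | h
    · exact Nat.pow_dvd_pow 3 (show e ≤ 2 by omega)
    · exfalso
      have := (Nat.pow_dvd_pow 3 h).trans h1
      norm_num at this
  suffices h4 : Nat.card K₁ ∣ 4 by
    rw [← hcard]
    exact (mul_dvd_mul h4 hR9).trans (dvd_refl 36)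
  -- the four-group in `K₁`
  have hzx : sdZ K.m K.x * x₁ = x₁ * sdZ K.m K.x := (K.mem_C.1 (x₀ : K.C).2).symm
  have htx : (K.t : G) * x₁ = x₁ * (K.t : G) :=
    congrArg Subtype.val (mem_centralizer_singleton_iff.1 x₀.2).symm
  let zX : X := ⟨sdZ K.m K.x, mem_centralizer_singleton_iff.2 hzx⟩
  let tX : X := ⟨(K.t : G), mem_centralizer_singleton_iff.2 htx⟩
  have htwo : ∀ v : X, orderOf v = 2 → v ∈ K₁ := by
    intro v hv
    haveI := hK₁
    rw [← QuotientGroup.eq_one_iff, ← orderOf_eq_one_iff]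
    refine Nat.eq_one_of_dvd_coprimes ((by norm_num : Nat.Coprime 2 3).pow_right e) ?_ ?_
    · rw [← hv]; exact orderOf_map_dvd (QuotientGroup.mk' K₁) v
    · rw [← he, ← hcomp.symm.index_eq_card]; exact orderOf_dvd_natCard _
  have hzo : orderOf (sdZ K.m K.x) = 2 := by
    rw [← K.orderOf_z, ← orderOf_coe]; rfl
  let zK : K₁ := ⟨zX, htwo zX (by rw [← orderOf_coe]; exact hzo)⟩
  let tK : K₁ := ⟨tX, htwo tX (by rw [← orderOf_coe]; show orderOf (K.t : G) = 2
                                  rw [orderOf_coe, K.orderOf_t])⟩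
  have hzK : orderOf zK = 2 := by rw [← orderOf_coe, ← orderOf_coe]; exact hzo
  have htK : orderOf tK = 2 := by
    rw [← orderOf_coe, ← orderOf_coe]; show orderOf (K.t : G) = 2; rw [orderOf_coe, K.orderOf_t]
  have hcom : Commute zK tK := Subtype.ext (Subtype.ext (congrArg Subtype.val (K.z_central K.t).eq :))
  have hne : zK ≠ tK := fun h => K.t_ne_z (Subtype.ext (congrArg (fun v : K₁ => ((v : X) : G)) h).symm)
  -- centralisers of involutions in `K₁` have order at most four
  have hsmall : ∀ u : K₁, orderOf u = 2 → Nat.card (centralizer ({u} : Set K₁)) ≤ 4 := by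
    intro u hu
    have huG : orderOf ((u : X) : G) = 2 := by rw [orderOf_coe, orderOf_coe]; exact hu
    obtain ⟨g, hg⟩ := isConj_iff.1 (K.conjz _ huG)
    have hm : ∀ v : K₁, Commute v u → g * ((v : X) : G) * g⁻¹ ∈ K.C := by
      intro v hv
      refine K.mem_C.2 ?_
      rw [← hg]
      have h := congrArg (fun v : K₁ => ((v : X) : G)) hv.eq
      simp only [Subgroup.coe_mul] at h
      calc g * ((v : X) : G) * g⁻¹ * (g * ((u : X) : G) * g⁻¹) = g * (((v : X) : G) * ((u : X) : G)) * g⁻¹ := by group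
        _ = _ := by rw [h]; group
    have hxm : g * x₁ * g⁻¹ ∈ K.C := by
      refine K.mem_C.2 ?_
      rw [← hg]
      have h := (mem_centralizer_singleton_iff.1 (u : X).2).symm
      calc g * x₁ * g⁻¹ * (g * ((u : X) : G) * g⁻¹) = g * (x₁ * ((u : X) : G)) * g⁻¹ := by group
        _ = _ := by rw [h]; group
    have hxo : orderOf (⟨_, hxm⟩ : K.C) = 3 := by
      rw [← orderOf_coe]
      exact ((MulAut.conj g).orderOf_eq x₁).trans hx₁o
    let Y := centralizer ({(⟨_, hxm⟩ : K.C)} : Set K.C)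
    let ψ : centralizer ({u} : Set K₁) →* Y :=
      { toFun := fun v => ⟨⟨_, hm v (mem_centralizer_singleton_iff.1 v.2)⟩,
          mem_centralizer_singleton_iff.2 (Subtype.ext (by
            show g * (((v : K₁) : X) : G) * g⁻¹ * (g * x₁ * g⁻¹) =
              g * x₁ * g⁻¹ * (g * (((v : K₁) : X) : G) * g⁻¹)
            have h := mem_centralizer_singleton_iff.1 ((v : K₁) : X).2
            calc g * (((v : K₁) : X) : G) * g⁻¹ * (g * x₁ * g⁻¹) =
                g * ((((v : K₁) : X) : G) * x₁) * g⁻¹ := by group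
              _ = _ := by rw [h]; group))⟩
        map_one' := Subtype.ext (Subtype.ext (by simp))
        map_mul' := fun a b => Subtype.ext (Subtype.ext (by simp)) }
    have hψ : Function.Injective ψ := fun a b h => Subtype.ext (Subtype.ext (Subtype.ext
      (mul_left_cancel (mul_right_cancel (congrArg (fun v : Y => ((v : K.C) : G)) h :)))))
    have h3 : 3 ∣ Nat.card Y := hxo ▸ Subgroup.orderOf_dvd_natCard Y
      (mem_centralizer_singleton_iff.2 rfl)
    have hd : Nat.card (centralizer ({u} : Set K₁)) ∣ Nat.card Y :=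
      Subgroup.card_dvd_of_injective ψ hψ
    have hco : Nat.Coprime (Nat.card (centralizer ({u} : Set K₁))) 3 :=
      ((Nat.Prime.coprime_iff_not_dvd Nat.prime_three).2 fun h =>
        hK₁3 (h.trans (Subgroup.card_subgroup_dvd_card _))).symm
    have h12 := Nat.le_of_dvd Nat.card_pos (hco.mul_dvd_of_dvd_of_dvd hd h3)
    have := (h12.trans (le_of_eq rfl)).trans (K.card_cent_three hno hcore hxo)
    omega
  exact card_dvd_four_of_small zK tK hzK htK hne hcom hsmall hK₁3

end Frame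

end Cfsg.Agent.H71.AlmostCyclic
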