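import Cfsg.Agent.H71.AlmostCyclic.PGLCount
import Cfsg.Agent.Linear.Order

/-!
Counts in `PGL(2,F)`: involution pairs and sums over elements of odd order.
-/

set_option autoImplicit false

namespace Cfsg.Agent.H71.AlmostCyclic

open Matrix Finset CharBasic CharInduce Cfsg.Agent.H27.GLTwo Cfsg.Agent.H27.ProjLine
open scoped LinearAlgebra.Projectivization ComplexConjugate Classical

variable {F : Type} [Field F] [Fintype F] [DecidableEq F]

local notation "M2" => Matrix (Fin 2) (Fin 2) F

theorem card_PG : Nat.card (PG F) = Fintype.card F * (Fintype.card F ^ 2 - 1) := by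
  show Nat.card (Matrix.ProjGenLinGroup (Fin 2) F) = _
  rw [Linear.card_PGL_eq, Linear.card_SL_two]

theorem isConj_outer {x y : PG F} (hx : orderOf x = 2) (hy : orderOf y = 2)
    (sx : sgn x = -1) (sy : sgn y = -1) : IsConj x y := isConj_involution hx hy (sx.trans sy.symm)

/-- The transvection. -/
noncomputable def unip (c : F) : GL (Fin 2) F :=
  Cfsg.Agent.Linear.glOfDet !![1, c; 0, 1] (by simp [Matrix.det_fin_two])

theorem unip_coe (c : F) : (unip c : M2) = !![1, c; 0, 1] := rfl

theorem unip_pow (k : ℕ) : (unip (1 : F)) ^ k = unip (k : F) := by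
  induction k with
  | zero => refine Units.ext ?_; rw [pow_zero, Units.val_one, unip_coe]; ext i j; fin_cases i <;> fin_cases j <;> simp
  | succ k ih =>
    rw [pow_succ, ih]
    refine Units.ext ?_
    rw [Units.val_mul, unip_coe, unip_coe, unip_coe]
    ext i j
    fin_cases i <;> fin_cases j <;> simp [Matrix.mul_apply, Fin.sum_univ_two, add_comm]

theorem unip_nonscalar {c : F} (hc : c ≠ 0) : ¬IsScalarMat (unip c : M2) := by
  intro h
  exact hc (by simpa [unip_coe] using h.1)

theorem fixCount_unip (h2 : (2 : F) ≠ 0) {c : F} (hc : c ≠ 0) :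
    fixCount (ProjGenLinGroup.mk (unip c) : PG F) = 1 :=
  fix_unique_of_disc_zero h2 (unip_nonscalar hc)
    (by simp [disc, unip_coe, Matrix.trace_fin_two, Matrix.det_fin_two]; ring)

theorem isConj_unip {c : F} (hc : c ≠ 0) :
    IsConj (ProjGenLinGroup.mk (unip 1) : PG F) (ProjGenLinGroup.mk (unip c)) := by
  let d : GL (Fin 2) F := Cfsg.Agent.Linear.glOfDet !![c, 0; 0, 1] (by simp [Matrix.det_fin_two, hc])
  refine isConj_iff.2 ⟨ProjGenLinGroup.mk d, ?_⟩
  rw [← map_inv, ← map_mul, ← map_mul]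
  congr 1
  rw [mul_inv_eq_iff_eq_mul]
  refine Units.ext ?_
  rw [Units.val_mul, Units.val_mul, unip_coe, unip_coe]
  show (!![c, 0; 0, 1] : M2) * _ = _ * !![c, 0; 0, 1]
  ext i j
  fin_cases i <;> fin_cases j <;> simp [Matrix.mul_apply, Fin.sum_univ_two]

theorem sum_fix_eq (K : Subgroup (PG F)) {X : Type} [Fintype X] [MulAction (PG F) X] [Nonempty X]
    (htr : ∀ a b : X, ∃ g ∈ K, g • a = b) :
    ∑ g : PG F with g ∈ K, Nat.card {x : X // g • x = x} = Nat.card K := by
  haveI : Fintype K := Fintype.ofFinite _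
  haveI : MulAction.IsPretransitive K X := ⟨fun a b => by
    obtain ⟨g, hg, h⟩ := htr a b
    exact ⟨⟨g, hg⟩, h⟩⟩
  haveI : Unique (MulAction.orbitRel.Quotient K X) := by
    haveI := (MulAction.pretransitive_iff_subsingleton_quotient K X).1 inferInstance
    exact uniqueOfSubsingleton ⟦Classical.arbitrary X⟧
  have h := MulAction.sum_card_fixedBy_eq_card_orbits_mul_card_group K X
  rw [Fintype.card_unique, one_mul, ← Nat.card_eq_fintype_card] at h
  rw [← h]
  refine (Finset.sum_subtype (p := fun g => g ∈ K) _ (fun g => by simp)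
    (fun g => Nat.card {x : X // g • x = x})).trans (sum_congr rfl fun g _ => ?_)
  rw [← Nat.card_eq_fintype_card]
  exact Nat.card_congr (Equiv.subtypeEquivRight fun x => Iff.rfl)

omit [DecidableEq F] in
theorem card_fix_pairs (g : PG F) :
    Nat.card {e : Fin 2 ↪ Pt F // g • e = e} = (fixCount g).descFactorial 2 := by
  let e : {e : Fin 2 ↪ Pt F // g • e = e} ≃ (Fin 2 ↪ {P : Pt F // g • P = P}) :=
    { toFun := fun e => ⟨fun i => ⟨e.1 i, DFunLike.congr_fun e.2 i⟩, fun i j hij => e.1.injective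
        (congrArg Subtype.val hij)⟩
      invFun := fun e => ⟨⟨fun i => (e i).1, fun i j hij => e.injective (Subtype.ext hij)⟩, by
        ext i; exact (e i).2⟩
      left_inv := fun _ => rfl
      right_inv := fun _ => rfl }
  rw [Nat.card_congr e, Nat.card_eq_fintype_card, Fintype.card_embedding_eq, Fintype.card_fin,
    fixCount, Nat.card_eq_fintype_card]

theorem sum_fixCount (K : Subgroup (PG F)) [MulAction.IsMultiplyPretransitive K (Pt F) 2] :
    ∑ g : PG F with g ∈ K, fixCount g = Nat.card K ∧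
    ∑ g : PG F with g ∈ K, fixCount g ^ 2 = 2 * Nat.card K := by
  haveI : MulAction.IsPretransitive K (Pt F) := MulAction.isPretransitive_of_is_two_pretransitive
  haveI : Nonempty (Pt F) := ⟨Projectivization.mk F e0 e0_ne⟩
  have h1 : ∑ g : PG F with g ∈ K, fixCount g = Nat.card K := sum_fix_eq K (X := Pt F) fun a b => by
    obtain ⟨g, h⟩ := MulAction.exists_smul_eq K a b
    exact ⟨g, g.2, h⟩
  refine ⟨h1, ?_⟩
  haveI : Nonempty (Fin 2 ↪ Pt F) := Function.Embedding.nonempty_of_card_le (by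
    rw [Fintype.card_fin, card_pt]; have := Fintype.one_lt_card (α := F); omega)
  have h2 := sum_fix_eq K (X := Fin 2 ↪ Pt F) fun a b => by
    obtain ⟨g, h0, h1⟩ := (MulAction.is_two_pretransitive_iff (G := K)).1 inferInstance
      (a.injective.ne (show (0 : Fin 2) ≠ 1 by decide)) (b.injective.ne (show (0 : Fin 2) ≠ 1 by decide))
    refine ⟨g, g.2, Function.Embedding.ext fun i => ?_⟩
    fin_cases i
    · exact h0
    · exact h1
  rw [sum_congr rfl fun g _ => card_fix_pairs g] at h2
  rw [two_mul]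
  conv_rhs => arg 1; rw [← h1]
  conv_rhs => arg 2; rw [← h2]
  rw [← sum_add_distrib]
  refine sum_congr rfl fun g _ => ?_
  rcases fixCount g with _ | n
  · rfl
  · simp [Nat.descFactorial_succ]; ring

namespace TorusData

variable (D : TorusData F)

theorem sgn_s_mul_w : sgn (D.s * D.w) = - sgn D.s := by
  rw [map_mul, D.hw, mul_neg_one]

include D in
theorem inner_twoTransitive :
    MulAction.IsMultiplyPretransitive (sgn (F := F)).ker (Pt F) 2 := by
  haveI := isThreePretransitive (F := F)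
  haveI h2 : MulAction.IsMultiplyPretransitive (PG F) (Pt F) 2 :=
    MulAction.isMultiplyPretransitive_of_le (n := 3) (by norm_num)
      (by rw [card_projLine]; have := Fintype.one_lt_card (α := F); omega)
  rw [MulAction.is_two_pretransitive_iff]
  intro a b c d hab hcd
  obtain ⟨g, hga, hgb⟩ := (MulAction.is_two_pretransitive_iff (G := PG F)).1 h2 hab hcd
  by_cases hs : sgn g = 1
  · exact ⟨⟨g, hs⟩, hga, hgb⟩
  obtain ⟨δ, hδ⟩ : ∃ δ : F, ¬IsSquare δ := FiniteField.exists_nonsquare fun hc => by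
    exact (Nat.not_even_iff_odd.2 D.hodd) (Nat.even_iff.2 (FiniteField.even_card_iff_char_two.1 hc))
  have hδ0 : δ ≠ 0 := fun h => hδ (h ▸ ⟨0, (mul_zero 0).symm⟩)
  obtain ⟨m, hm0, hm1⟩ := exists_gl (wedge_ne_of_ne hcd)
  let e : GL (Fin 2) F := Cfsg.Agent.Linear.glOfDet !![δ, 0; 0, 1] (by simp [Matrix.det_fin_two, hδ0])
  have he0 : e • (e0 : Fin 2 → F) = δ • (e0 : Fin 2 → F) := by
    funext i; rw [smul_e0]; fin_cases i <;> simp [e, e0]
  have he1 : e • (e1 : Fin 2 → F) = (1 : F) • (e1 : Fin 2 → F) := by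
    funext i; rw [smul_e1]; fin_cases i <;> simp [e, e1]
  have hlin : ∀ (z : GL (Fin 2) F) (r : F) (v : Fin 2 → F), z • (r • v) = r • (z • v) := fun z r v => by
    rw [gl_smul_eq, gl_smul_eq, Matrix.mulVec_smul]
  have hc' : (ProjGenLinGroup.mk (m * e * m⁻¹) : PG F) • c = c := (smul_eq_iff _ _).2 ⟨δ, by
    rw [← hm0, mul_smul, inv_smul_smul, mul_smul, he0, hlin]⟩
  have hd' : (ProjGenLinGroup.mk (m * e * m⁻¹) : PG F) • d = d := (smul_eq_iff _ _).2 ⟨1, by
    rw [← hm1, mul_smul, inv_smul_smul, mul_smul, he1, hlin]⟩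
  have hsk : sgn (ProjGenLinGroup.mk (m * e * m⁻¹) : PG F) = -1 := by
    refine sgn_eq_neg_one fun h1 => hδ ?_
    rw [sgn_mk, det_conj] at h1
    simpa [e, Matrix.det_fin_two] using h1
  refine ⟨⟨ProjGenLinGroup.mk (m * e * m⁻¹) * g, ?_⟩, ?_, ?_⟩
  · rw [MonoidHom.mem_ker, map_mul, hsk, sgn_eq_neg_one hs]; rfl
  · show (ProjGenLinGroup.mk (m * e * m⁻¹) * g) • a = c
    rw [mul_smul, hga, hc']
  · show (ProjGenLinGroup.mk (m * e * m⁻¹) * g) • b = d
    rw [mul_smul, hgb, hd']

include D in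
theorem card_ker : 2 * Nat.card (sgn (F := F)).ker = Nat.card (PG F) := by
  have hsurj : Function.Surjective (sgn (F := F)) := fun u => by
    rcases Int.units_eq_one_or u with rfl | rfl
    · exact ⟨1, map_one _⟩
    · exact ⟨D.w, D.hw⟩
  have h := (sgn (F := F)).ker.card_mul_index
  rw [Subgroup.index_ker, MonoidHom.range_eq_top.2 hsurj, Subgroup.card_top] at h
  rw [← h, Nat.card_eq_fintype_card (α := ℤˣ), Fintype.card_units_int, mul_comm]

theorem card_T_inner : 2 * #(univ.filter fun x : D.T => sgn (x : PG F) = 1) = Nat.card D.T := by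
  have h := Finset.card_filter_add_card_filter_not (s := (univ : Finset D.T))
    (fun x : D.T => sgn (x : PG F) = 1)
  have he : #(univ.filter fun x : D.T => ¬ sgn (x : PG F) = 1) =
      #(univ.filter fun x : D.T => sgn (x : PG F) = 1) := by
    refine Finset.card_equiv (Equiv.mulLeft ⟨D.w, D.w_mem⟩) fun x => ?_
    simp only [mem_filter, mem_univ, true_and, Equiv.coe_mulLeft, Subgroup.coe_mul, map_mul, D.hw]
    rcases Int.units_eq_one_or (sgn (x : PG F)) with e | e <;> rw [e] <;> decide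
  rw [he, card_univ, ← Nat.card_eq_fintype_card] at h
  omega

theorem pow_h_eq_one_iff (x : D.T) : (x : PG F) ^ D.h = 1 ↔ Odd (orderOf (x : PG F)) := by
  constructor
  · intro h
    exact D.hh.of_dvd_nat (orderOf_dvd_of_pow_eq_one h)
  · intro h
    obtain ⟨m, hm⟩ := D.hpow
    obtain ⟨k, hk⟩ := D.pow_h_mem x.2
    have h1 : orderOf ((x : PG F) ^ D.h) ∣ 2 ^ m := by
      rw [← hm, ← D.hM, orderOf_dvd_iff_pow_eq_one, ← hk]
      show (D.w ^ k) ^ orderOf D.w = 1
      rw [← zpow_natCast, ← _root_.zpow_mul, mul_comm, _root_.zpow_mul, zpow_natCast, pow_orderOf_eq_one,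
        _root_.one_zpow]
    have h2 := Nat.eq_one_of_dvd_coprimes ((Nat.coprime_two_left.2 h).pow_left m) h1 (orderOf_pow_dvd _)
    exact orderOf_eq_one_iff.1 h2

theorem card_T_odd : #(univ.filter fun x : D.T => (x : PG F) ^ D.h = 1) = D.h := by
  obtain ⟨m, hm⟩ := D.hpow
  let f : D.T →* Subgroup.zpowers D.w :=
    { toFun := fun x => ⟨(x : PG F) ^ D.h, D.pow_h_mem x.2⟩
      map_one' := Subtype.ext (one_pow _)
      map_mul' := fun x y => Subtype.ext ((show Commute (x : PG F) y from D.comm x.2 y.2).mul_pow _) }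
  have hsurj : Function.Surjective f := by
    have hc : (Nat.card (Subgroup.zpowers D.w)).Coprime D.h := by
      rw [Nat.card_zpowers, D.hM, hm]
      exact (Nat.coprime_two_left.2 D.hh).pow_left m
    intro y
    obtain ⟨z, hz⟩ := (powCoprime hc).surjective y
    refine ⟨⟨z.1, Subgroup.zpowers_le.2 D.w_mem z.2⟩, Subtype.ext ?_⟩
    rw [← hz]
    rfl
  have h := f.ker.card_mul_index
  rw [Subgroup.index_ker, MonoidHom.range_eq_top.2 hsurj, Subgroup.card_top, Nat.card_zpowers,
    D.hM, D.card_T, mul_comm] at h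
  have h' := Nat.eq_of_mul_eq_mul_left D.M_pos h
  rw [← Fintype.card_subtype, ← Nat.card_eq_fintype_card]
  conv_rhs => rw [← h']
  exact Nat.card_congr (Equiv.subtypeEquivRight fun x => by
    rw [MonoidHom.mem_ker, Subtype.ext_iff]; rfl)

/-- The indicator of the even part of the inner torus. -/
noncomputable def evenInner : D.T → ℂ := fun x =>
  if sgn (x : PG F) = 1 ∧ (x : PG F) ^ D.h ≠ 1 then 1 else 0

theorem exists_conj_mem {g : PG F} (hs : sgn g = 1) (he : ¬Odd (orderOf g)) :
    ∃ y : PG F, y * g * y⁻¹ ∈ D.T := by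
  obtain ⟨k, hk⟩ := even_iff_two_dvd.1 (Nat.not_odd_iff_even.1 he)
  have hk0 : k ≠ 0 := fun h => (orderOf_pos g).ne' (by rw [hk, h, mul_zero])
  have hi : orderOf (g ^ k) = 2 := by
    rw [orderOf_pow' g hk0, hk, Nat.gcd_mul_left_left, Nat.mul_div_cancel _ (Nat.pos_of_ne_zero hk0)]
  obtain ⟨y, hy⟩ := isConj_iff.1 (isConj_involution hi D.t₀_order (by rw [map_pow, hs, one_pow, D.sgn_t₀]))
  set g' := y * g * y⁻¹ with hg'
  have hc : g' * D.t₀ * g'⁻¹ = D.t₀ := by
    rw [← hy, hg']
    group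
  have ht1 : D.t₀ ≠ 1 := fun h => by have := D.t₀_order; rw [h, orderOf_one] at this; omega
  rcases D.isTorus.ti _ D.t₀_mem ht1 g' (by rw [hc]; exact D.t₀_mem) with h | h
  · exact ⟨y, h⟩
  have hinv : g' * D.w * g'⁻¹ = D.w⁻¹ := by
    have hg : g' = D.s * (D.s * g') := by rw [← mul_assoc, D.isTorus.sq, one_mul]
    rw [hg, show D.s * (D.s * g') * D.w * (D.s * (D.s * g'))⁻¹ =
      D.s * ((D.s * g') * D.w * (D.s * g')⁻¹) * D.s⁻¹ by group, D.comm h D.w_mem, mul_inv_cancel_right,
      D.s_inv D.w_mem]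
  have h2 := D.sq_eq_one_of_inverts hinv
  have hg1 : g' ≠ 1 := fun h1 => he (by
    have : g = 1 := by rw [hg', conj_eq_one_iff] at h1; exact h1
    rw [this, orderOf_one]; exact odd_one)
  have hord : orderOf g' = 2 := orderOf_eq_prime (by rw [pow_two]; exact h2) hg1
  have hsg : sgn g' = 1 := by
    rw [hg', map_mul, map_mul, hs, mul_one, map_inv, mul_inv_cancel]
  obtain ⟨z, hz⟩ := isConj_iff.1 (isConj_involution hord D.t₀_order (by rw [hsg, D.sgn_t₀]))
  refine ⟨z * y, ?_⟩
  rw [show z * y * g * (z * y)⁻¹ = z * (y * g * y⁻¹) * z⁻¹ by group, ← hg', hz]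
  exact D.t₀_mem

theorem indFun_evenInner (g : PG F) :
    Cfsg.indFun D.T D.evenInner g = if sgn g = 1 ∧ ¬Odd (orderOf g) then 2 else 0 := by
  have hval : ∀ (g y : PG F) (hm : y * g * y⁻¹ ∈ D.T),
      (sgn g = 1 ∧ ¬Odd (orderOf g) ↔ sgn ((⟨_, hm⟩ : D.T) : PG F) = 1 ∧
        ((⟨_, hm⟩ : D.T) : PG F) ^ D.h ≠ 1) := by
    intro g y hm
    rw [Ne, D.pow_h_eq_one_iff]
    show _ ↔ sgn (y * g * y⁻¹) = 1 ∧ ¬Odd (orderOf (y * g * y⁻¹))
    rw [show orderOf (y * g * y⁻¹) = orderOf g from (MulAut.conj y).orderOf_eq g, map_mul, map_mul,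
      map_inv, mul_comm (sgn y), mul_inv_cancel_right]
  split_ifs with hg
  · obtain ⟨y, hy⟩ := D.exists_conj_mem hg.1 hg.2
    have hx1 : (⟨_, hy⟩ : D.T) ≠ 1 := fun h => hg.2 (by
      have h' : y * g * y⁻¹ = 1 := congrArg Subtype.val h
      rw [conj_eq_one_iff] at h'; rw [h', orderOf_one]; exact odd_one)
    rw [← isClassFunction_indFun D.T D.evenInner g y]
    show Cfsg.indFun D.T D.evenInner ((⟨_, hy⟩ : D.T) : PG F) = 2
    rw [D.isTorus.indFun_apply _ hx1]
    have h1 := (hval g y hy).1 hg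
    have h2 : sgn (((⟨_, hy⟩ : D.T)⁻¹ : D.T) : PG F) = 1 ∧
        (((⟨_, hy⟩ : D.T)⁻¹ : D.T) : PG F) ^ D.h ≠ 1 := by
      rw [Subgroup.coe_inv, map_inv, Int.units_inv_eq_self, inv_pow]
      exact ⟨h1.1, fun e => h1.2 (inv_eq_one.1 e)⟩
    simp only [evenInner]
    rw [if_pos h1, if_pos h2]
    norm_num
  · rw [CharInduce.indFun_apply, sum_eq_zero fun x _ => ?_, mul_zero]
    by_cases hy : x⁻¹ * g * x ∈ D.T
    · have hy' : x⁻¹ * g * x⁻¹⁻¹ ∈ D.T := by rwa [inv_inv]
      rw [extendByZero_of_mem _ hy, evenInner, if_neg]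
      have := hval g x⁻¹ hy'
      simp only [inv_inv] at this
      exact fun h => hg (this.2 h)
    · rw [extendByZero_of_not_mem _ hy]

/-- Sum over elements of odd order of a class function constant off the identity of the torus. -/
theorem sum_odd (f : PG F → ℂ) (hf : Cfsg.IsClassFunction (PG F) f) (c : ℂ)
    (hc : ∀ x ∈ D.T, x ≠ 1 → f x = c) :
    ∑ g : PG F with Odd (orderOf g), f g = (∑ g : PG F with g ∈ (sgn (F := F)).ker, f g) -
      ((Nat.card (PG F) : ℂ) / (2 * Nat.card D.T)) * ((Nat.card D.T : ℂ) / 2 - D.h) * c := by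
  have hsplit : ∑ g : PG F with g ∈ (sgn (F := F)).ker, f g =
      (∑ g : PG F with Odd (orderOf g), f g) +
        ∑ g : PG F with (sgn g = 1 ∧ ¬Odd (orderOf g)), f g := by
    rw [← sum_union (by
      rw [disjoint_filter]; exact fun x _ h1 h2 => h2.2 h1)]
    refine sum_congr ?_ fun _ _ => rfl
    ext g
    simp only [mem_filter, mem_univ, true_and, mem_union, MonoidHom.mem_ker]
    refine ⟨fun h => (em (Odd (orderOf g))).imp id fun h' => ⟨h, h'⟩, ?_⟩
    rintro (h | h)
    · have h1 : orderOf (sgn g) ∣ orderOf g := orderOf_map_dvd sgn g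
      rcases Int.units_eq_one_or (sgn g) with e | e
      · exact e
      · exfalso
        rw [e, show orderOf (-1 : ℤˣ) = 2 from orderOf_eq_prime (by simp) (by decide)] at h1
        exact (Nat.not_even_iff_odd.2 h) (even_iff_two_dvd.2 h1)
    · exact h.1
  have hE : 2 * ∑ g : PG F with (sgn g = 1 ∧ ¬Odd (orderOf g)), f g =
      (Nat.card (PG F) : ℂ) / Nat.card D.T * (((Nat.card D.T : ℂ) / 2 - D.h) * c) := by
    have h := sum_indFun_mul D.evenInner hf
    simp only [D.indFun_evenInner, ite_mul, zero_mul, ← sum_filter, ← mul_sum] at h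
    rw [h]
    congr 1
    have hA : #(univ.filter fun x : D.T => sgn (x : PG F) = 1 ∧ (x : PG F) ^ D.h ≠ 1) + D.h =
        #(univ.filter fun x : D.T => sgn (x : PG F) = 1) := by
      conv_lhs => arg 2; rw [← D.card_T_odd]
      rw [← card_union_of_disjoint (by rw [disjoint_filter]; exact fun x _ h1 h2 => h1.2 h2)]
      congr 1
      ext x
      simp only [mem_filter, mem_univ, true_and, mem_union]
      refine ⟨?_, fun h => (em ((x : PG F) ^ D.h = 1)).elim Or.inr fun h' => Or.inl ⟨h, h'⟩⟩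
      rintro (h | h)
      · exact h.1
      · have := congrArg sgn h
        obtain ⟨j, hj⟩ := D.hh
        rwa [map_pow, map_one, hj, pow_succ, pow_mul, Int.units_sq, one_pow, one_mul] at this
    have h2 := D.card_T_inner
    rw [sum_congr rfl (g := fun x : D.T => if sgn (x : PG F) = 1 ∧ (x : PG F) ^ D.h ≠ 1 then c else 0)
      (fun x _ => ?_), ← sum_filter, sum_const, nsmul_eq_mul]
    · have : (2 : ℂ) * ((#(univ.filter fun x : D.T => sgn (x : PG F) = 1 ∧ (x : PG F) ^ D.h ≠ 1) : ℂ) +
          D.h) = Nat.card D.T := by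
        rw [← hA] at h2; exact_mod_cast h2
      rw [← this]; ring
    · rw [evenInner]
      split_ifs with h
      · rw [one_mul, hc x x.2 fun e => h.2 (by rw [e, one_pow])]
      · rw [zero_mul]
  rw [hsplit]
  linear_combination (-1 / 2 : ℂ) * hE

/-- The function `1 + ε St`. -/
noncomputable def vfun (g : PG F) : ℂ := (1 - D.eps : ℂ) + D.eps * (fixCount g : ℂ)

theorem sum_odd_vfun :
    (∑ g : PG F with Odd (orderOf g), (1 : ℂ)) =
        Nat.card (PG F) * ((D.M : ℂ) + 2) / (4 * D.M) ∧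
    ∑ g : PG F with Odd (orderOf g), D.vfun g = Nat.card (PG F) / (D.M : ℂ) ∧
    ∑ g : PG F with Odd (orderOf g), D.vfun g ^ 2 = 2 * Nat.card (PG F) / (D.M : ℂ) := by
  haveI := D.inner_twoTransitive
  obtain ⟨h1, h2⟩ := sum_fixCount (sgn (F := F)).ker
  have hK : (2 : ℂ) * Nat.card (sgn (F := F)).ker = Nat.card (PG F) := by exact_mod_cast D.card_ker
  have h1' : ∑ g : PG F with g ∈ (sgn (F := F)).ker, (fixCount g : ℂ) = Nat.card (sgn (F := F)).ker := by
    have := congrArg (Nat.cast : ℕ → ℂ) h1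
    push_cast at this
    convert this using 3
  have h2' : ∑ g : PG F with g ∈ (sgn (F := F)).ker, (fixCount g : ℂ) ^ 2 =
      2 * Nat.card (sgn (F := F)).ker := by
    have := congrArg (Nat.cast : ℕ → ℂ) h2
    push_cast at this
    convert this using 3
  have h0 : ∑ g : PG F with g ∈ (sgn (F := F)).ker, (1 : ℂ) = Nat.card (sgn (F := F)).ker := by
    rw [sum_const, nsmul_eq_mul, mul_one, ← Fintype.card_subtype, ← Nat.card_eq_fintype_card]
  have hcl : ∀ g y : PG F, (fixCount (y * g * y⁻¹) : ℂ) = fixCount g := fun g y => by rw [fixCount_conj]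
  have hT : ∀ x ∈ D.T, x ≠ 1 → (fixCount x : ℂ) = 1 + D.eps := fun x hx hx1 => by
    exact_mod_cast D.fixCount_T hx hx1
  have hM : (D.M : ℂ) ≠ 0 := by exact_mod_cast D.M_pos.ne'
  have hh : (D.h : ℂ) ≠ 0 := by obtain ⟨j, hj⟩ := D.hh; exact_mod_cast (by omega : D.h ≠ 0)
  have hTc : (Nat.card D.T : ℂ) = D.M * D.h := by exact_mod_cast D.card_T
  have he : (D.eps : ℂ) ^ 2 = 1 := by rcases D.eps_cases with e | e <;> rw [e] <;> norm_num
  refine ⟨?_, ?_, ?_⟩
  · rw [D.sum_odd _ (fun _ _ => rfl) 1 (fun _ _ _ => rfl), h0, hTc, ← hK]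
    field_simp
    ring
  · rw [D.sum_odd _ (fun g y => by rw [vfun, hcl]; rfl) ((1 - D.eps : ℂ) + D.eps * (1 + D.eps))
      (fun x hx hx1 => by rw [vfun, hT x hx hx1])]
    simp only [vfun, sum_add_distrib, ← mul_sum]
    rw [h1', sum_const, nsmul_eq_mul, ← Fintype.card_subtype, ← Nat.card_eq_fintype_card, hTc, ← hK]
    field_simp
    linear_combination (Nat.card (sgn (F := F)).ker : ℂ) * (-(D.M : ℂ) + 2) * he
  · rw [D.sum_odd _ (fun g y => by rw [vfun, hcl]; rfl) (((1 - D.eps : ℂ) + D.eps * (1 + D.eps)) ^ 2)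
      (fun x hx hx1 => by rw [vfun, hT x hx hx1])]
    have hexp : ∀ g : PG F, D.vfun g ^ 2 = (1 - D.eps : ℂ) ^ 2 * 1 +
        2 * (1 - D.eps) * D.eps * (fixCount g : ℂ) + (fixCount g : ℂ) ^ 2 := fun g => by
      rw [vfun]; linear_combination (fixCount g : ℂ) ^ 2 * he
    simp only [hexp, sum_add_distrib, ← mul_sum]
    rw [h0, h1', h2', hTc, ← hK]
    rcases D.eps_cases with e | e <;> rw [e] <;> push_cast <;> field_simp <;> ring

include D in
/-- The Steinberg character. -/
theorem steinberg_irr : Cfsg.IsIrrCharacter (PG F) (fun g => (fixCount g : ℂ) - 1) := by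
  haveI := pretransitive (F := F)
  haveI h2 : MulAction.IsMultiplyPretransitive (⊤ : Subgroup (PG F)) (Pt F) 2 := by
    rw [MulAction.is_two_pretransitive_iff]
    intro a b c d hab hcd
    obtain ⟨g, h, h'⟩ := (MulAction.is_two_pretransitive_iff (G := (sgn (F := F)).ker)).1
      D.inner_twoTransitive hab hcd
    exact ⟨⟨g, Subgroup.mem_top _⟩, h, h'⟩
  obtain ⟨h1, h2⟩ := sum_fixCount (⊤ : Subgroup (PG F))
  rw [Subgroup.card_top] at h1 h2
  simp only [Subgroup.mem_top, filter_true] at h1 h2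
  have hgen : Cfsg.IsGeneralizedCharacter (PG F) (fun g => (fixCount g : ℂ) - 1) := by
    refine CharInduce.IsGen.sub (α := fun g => (fixCount g : ℂ)) ?_ (IsGen.of_char CharInduce.IsChar.one)
    have h := fixedBy_eq_indFun (G := PG F) (Projectivization.mk F e0 e0_ne : Pt F)
    have h' : (fun g : PG F => (fixCount g : ℂ)) = fun g : PG F =>
        (Nat.card (MulAction.fixedBy (Pt F) g) : ℂ) := rfl
    rw [h', h]
    exact CharInduce.IsGen.ind _ (IsGen.of_char CharInduce.IsChar.one)
  have hnorm : Cfsg.classInner (fun g : PG F => (fixCount g : ℂ) - 1) (fun g => (fixCount g : ℂ) - 1) = 1 := by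
    rw [Cfsg.classInner]
    simp only [map_sub, map_natCast, map_one]
    have h1' : ∑ g : PG F, (fixCount g : ℂ) = Nat.card (PG F) := by
      exact_mod_cast congrArg (Nat.cast : ℕ → ℂ) h1
    have h2' : ∑ g : PG F, (fixCount g : ℂ) ^ 2 = 2 * Nat.card (PG F) := by
      exact_mod_cast congrArg (Nat.cast : ℕ → ℂ) h2
    have he : ∀ g : PG F, ((fixCount g : ℂ) - 1) * ((fixCount g : ℂ) - 1) =
        (fixCount g : ℂ) ^ 2 - 2 * (fixCount g : ℂ) + 1 := fun g => by ring
    simp only [he, sum_add_distrib, sum_sub_distrib, ← mul_sum, h1', h2', sum_const, card_univ,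
      nsmul_eq_mul, ← Nat.card_eq_fintype_card, mul_one]
    have := card_ne_zero_complex (PG F)
    field_simp
    ring
  obtain ⟨ψ, hψ | hψ⟩ := CharInduce.IsGen.eq_irr_or_neg hgen hnorm
  · rw [hψ]; exact ψ.2
  · exfalso
    have := congrFun hψ 1
    simp only [Pi.neg_apply, fixCount_one] at this
    obtain ⟨d, hd, hd'⟩ := CharBasic.IsIrr.exists_degree ψ.2
    rw [hd'] at this
    push_cast at this
    have hp : (Fintype.card F : ℂ) + d = 0 := by linear_combination this
    have : Fintype.card F + d = 0 := by exact_mod_cast hp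
    have := Fintype.one_lt_card (α := F)
    omega

/-- Centraliser of an outer involution. -/
theorem card_centralizer_outer {x : PG F} (hx : orderOf x = 2) (sx : sgn x = -1) :
    (Nat.card (Subgroup.centralizer ({x} : Set (PG F))) : ℤ) = 2 * ((Fintype.card F : ℤ) + D.eps) := by
  obtain ⟨g, rfl⟩ := ProjGenLinGroup.mk_surjective x
  have hg : ¬IsScalarMat (g : M2) := fun h => by
    rw [(mk_eq_one_iff g).2 h, orderOf_one] at hx; omega
  have hx2 : (ProjGenLinGroup.mk g : PG F) * ProjGenLinGroup.mk g = 1 := by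
    have := pow_orderOf_eq_one (ProjGenLinGroup.mk g : PG F)
    rwa [hx, pow_two] at this
  have ht := (mk_sq_eq_one_iff hg).1 hx2
  have hns : ¬IsSquare (g : M2).det := fun h => by
    rw [(sgn_mk g).2 h] at sx; exact absurd sx (by decide)
  have hd0 : (g : M2).det ≠ 0 := g.det_ne_zero
  have h2 := D.two_ne
  have hdisc : disc (g : M2) = (2 : F) ^ 2 * ((-1) * (g : M2).det) := by rw [disc, ht]; ring
  have hiff : IsSquare (disc (g : M2)) ↔ D.eps = -1 := by
    have h1 : IsSquare (disc (g : M2)) ↔ ¬IsSquare (-1 : F) := by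
      have hq : quadraticChar F (disc (g : M2)) = - quadraticChar F (-1) := by
        rw [hdisc, map_mul, map_mul, quadraticChar_sq_one' h2,
          quadraticChar_neg_one_iff_not_isSquare.2 hns]
        ring
      rw [← quadraticChar_one_iff_isSquare (by rw [hdisc]; simp [h2, hd0]), hq,
        ← quadraticChar_neg_one_iff_not_isSquare, neg_eq_iff_eq_neg]
    rw [h1, FiniteField.isSquare_neg_one_iff, not_ne_iff]
    obtain ⟨j, hj⟩ := D.half_odd
    obtain ⟨hj, hj'⟩ := hj, hj.2
    obtain ⟨i, rfl⟩ := hj.1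
    have hodd := Nat.odd_iff.1 D.hodd
    rcases D.eps_cases with e | e <;> rw [e] at hj' ⊢ <;> constructor <;> intro h <;> omega
  have hfix : (Nat.card {P : Pt F // (ProjGenLinGroup.mk g : PG F) • P = P} : ℤ) = 1 - D.eps := by
    obtain ⟨c0, c2⟩ := card_fix h2 hg
    rcases D.eps_cases with e | e
    · rw [c0 (fun h => by rw [hiff, e] at h; omega), e]; norm_num
    · rw [c2 (hiff.2 e) (by rw [hdisc]; simp [h2, hd0]), e]; norm_num
  have haff : (Nat.card (aff g) : ℤ) = (Fintype.card F : ℤ) + D.eps := by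
    have := card_aff_add hg
    rw [Nat.card_eq_fintype_card (α := F)] at this
    omega
  -- `aff g` has index two in the centraliser
  obtain ⟨k, hk⟩ := isConj_of_trace_zero hg (g' := -g)
    (by rintro ⟨a, b, c⟩; simp at a b c; exact hg ⟨a, b, c⟩) ht
    (by rw [Units.val_neg, Matrix.trace_neg, ht, neg_zero])
    (by rw [Units.val_neg, Matrix.det_neg, Fintype.card_fin]; ring)
  have hneg : (ProjGenLinGroup.mk (-g) : PG F) = ProjGenLinGroup.mk g :=
    (mk_eq_mk_of_smul (g := g) (h := -g) (c := -1) (by rw [Units.val_neg, neg_one_smul])).symm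
  have hle : aff g ≤ Subgroup.centralizer ({ProjGenLinGroup.mk g} : Set (PG F)) := fun y hy =>
    Subgroup.mem_centralizer_singleton_iff.2 (aff_comm hg hy (mk_mem_aff g))
  have hidx : ((aff g).subgroupOf (Subgroup.centralizer ({ProjGenLinGroup.mk g} : Set (PG F)))).index = 2 := by
    have hkc : (ProjGenLinGroup.mk k : PG F) ∈ Subgroup.centralizer ({ProjGenLinGroup.mk g} : Set (PG F)) := by
      refine Subgroup.mem_centralizer_singleton_iff.2 (mul_inv_eq_iff_eq_mul.1 ?_)
      rw [← map_inv, ← map_mul, ← map_mul, hk, hneg]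
    rw [Subgroup.index_eq_two_iff]
    refine ⟨⟨_, hkc⟩, fun b => ?_⟩
    obtain ⟨⟨b, hb⟩⟩ := b, trivial
    obtain ⟨m, rfl⟩ := ProjGenLinGroup.mk_surjective b
    rw [Subgroup.mem_subgroupOf, Subgroup.mem_subgroupOf]
    show Xor (ProjGenLinGroup.mk m * ProjGenLinGroup.mk k ∈ aff g) (ProjGenLinGroup.mk m ∈ aff g)
    have hb' := Subgroup.mem_centralizer_singleton_iff.1 hb
    have hcases : m * g * m⁻¹ = g ∨ m * g * m⁻¹ = -g := by
      have he : (ProjGenLinGroup.mk (m * g * m⁻¹) : PG F) = ProjGenLinGroup.mk g := by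
        rw [map_mul, map_mul, map_inv, hb', mul_inv_cancel_right]
      obtain ⟨c, hc, hcc⟩ := mk_eq_mk_smul he
      have hdd := congrArg Matrix.det hcc
      rw [Matrix.det_smul, det_conj, Fintype.card_fin] at hdd
      have : (c - 1) * (c + 1) = 0 := by
        refine (mul_eq_zero.1 (show (c - 1) * (c + 1) * (g : M2).det = 0 from ?_)).resolve_right hd0
        linear_combination -hdd
      rcases mul_eq_zero.1 this with h | h
      · left; refine Units.ext ?_
        rw [hcc, show c = 1 by linear_combination h, one_smul]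
      · right; refine Units.ext ?_
        rw [Units.val_neg, hcc, show c = -1 by linear_combination h, neg_smul, one_smul, neg_neg]
    have hgn : g ≠ -g := fun h => by
      have h' := congrArg (fun z : GL (Fin 2) F => (z : M2)) h
      simp only [Units.val_neg] at h'
      exact hg ⟨by simpa [eq_neg_iff_add_eq_zero, ← two_mul, h2] using congrFun (congrFun h' 0) 1,
        by simpa [eq_neg_iff_add_eq_zero, ← two_mul, h2] using congrFun (congrFun h' 1) 0,
        by
          have a : (g : M2) 0 0 = 0 := by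
            simpa [eq_neg_iff_add_eq_zero, ← two_mul, h2] using congrFun (congrFun h' 0) 0
          have b : (g : M2) 1 1 = 0 := by
            simpa [eq_neg_iff_add_eq_zero, ← two_mul, h2] using congrFun (congrFun h' 1) 1
          rw [a, b]⟩
    have haff_iff : ∀ z : GL (Fin 2) F, (z * g * z⁻¹ = g ∨ z * g * z⁻¹ = -g) →
        ((ProjGenLinGroup.mk z : PG F) ∈ aff g ↔ z * g * z⁻¹ = g) := by
      intro z hz
      refine ⟨fun h => ?_, fun h => mem_aff.2 ⟨z, mul_inv_eq_iff_eq_mul.1 h, rfl⟩⟩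
      obtain ⟨l, hl, hlz⟩ := mem_aff.1 h
      obtain ⟨u, hu⟩ := ProjGenLinGroup.mk_eq_mk_iff.1 hlz
      rw [mul_inv_eq_iff_eq_mul, ← hu, mul_assoc,
        show GeneralLinearGroup.scalar (Fin 2) u * g = g * GeneralLinearGroup.scalar (Fin 2) u from
          Units.ext (by rw [Units.val_mul, Units.val_mul, scalar_coe]; simp),
        ← mul_assoc, hl, mul_assoc]
    have hmk : m * k * g * (m * k)⁻¹ = -(m * g * m⁻¹) := by
      rw [show m * k * g * (m * k)⁻¹ = m * (k * g * k⁻¹) * m⁻¹ by group, hk]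
      simp
    rw [← map_mul, haff_iff _ (by rw [hmk]; rcases hcases with e | e <;> simp [e]), haff_iff _ hcases,
      hmk]
    rcases hcases with e | e
    · exact Or.inr ⟨e, fun h => hgn (by rw [e] at h; exact h.symm)⟩
    · exact Or.inl ⟨by rw [e, neg_neg], fun h => hgn (by rw [e] at h; exact h.symm)⟩
  have h := ((aff g).subgroupOf (Subgroup.centralizer ({ProjGenLinGroup.mk g} : Set (PG F)))).card_mul_index
  rw [hidx, Nat.card_congr (Subgroup.subgroupOfEquivOfLe hle).toEquiv] at h
  rw [← h]; push_cast; rw [haff]; ring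

/-- The pair sum of the two outer classes. -/
theorem sum_pairs :
    ∑ a : PG F with (orderOf a = 2 ∧ sgn a = -1), ∑ b : PG F with (orderOf b = 2 ∧ sgn b = -1),
      D.theta (a * b) = (Nat.card (PG F) : ℂ) * Nat.card D.T / 4 := by
  let I : Finset (PG F) := univ.filter fun a => orderOf a = 2 ∧ sgn a = -1
  let n : PG F → ℂ := fun q => (#(I.filter fun a => a * q ∈ I) : ℂ)
  have hn : Cfsg.IsClassFunction (PG F) n := by
    intro q y
    simp only [n]
    congr 1
    refine (Finset.card_equiv (MulAut.conj y).toEquiv fun a => ?_).symm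
    simp only [I, mem_filter, mem_univ, true_and, MulEquiv.toEquiv_eq_coe, EquivLike.coe_coe,
      MulAut.conj_apply]
    rw [show y * a * y⁻¹ * (y * q * y⁻¹) = y * (a * q) * y⁻¹ by group,
      show orderOf (y * a * y⁻¹) = orderOf a from (MulAut.conj y).orderOf_eq a,
      show orderOf (y * (a * q) * y⁻¹) = orderOf (a * q) from (MulAut.conj y).orderOf_eq _]
    simp only [map_mul, map_inv, mul_comm (sgn y), mul_inv_cancel_right]
  have hswap : ∑ a ∈ I, ∑ b ∈ I, D.theta (a * b) = ∑ q : PG F, D.theta q * n q := by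
    have h1 : ∀ a ∈ I, ∑ b ∈ I, D.theta (a * b) = ∑ q : PG F, if a * q ∈ I then D.theta q else 0 := by
      intro a ha
      have haa : a * a = 1 := by
        have := pow_orderOf_eq_one a
        rwa [(mem_filter.1 ha).2.1, pow_two] at this
      rw [← sum_filter]
      refine sum_equiv (Equiv.mulLeft a) (fun b => ?_) (fun b _ => rfl)
      simp [← mul_assoc, haa]
    rw [sum_congr rfl h1, sum_comm]
    refine sum_congr rfl fun q _ => ?_
    rw [← sum_filter, sum_const, nsmul_eq_mul, mul_comm]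
  rw [hswap, theta, sum_indFun_mul _ hn]
  have hTne : (Nat.card D.T : ℂ) ≠ 0 := card_ne_zero_complex _
  have hval : ∀ x : D.T, (1 - (D.chi x : ℂ)) * n x =
      ((Nat.card D.T : ℂ) / 4) * (1 + (-1) * (D.chi x : ℂ) + 1 * (D.chi x : ℂ) ^ 2 + (-1) * (D.chi x : ℂ) ^ 3) := by
    intro x
    rcases eq_or_ne x 1 with rfl | hx1
    · simp
    have hshape : ∀ a ∈ I, a * (x : PG F) ∈ I → D.s * a ∈ D.T := by
      intro a ha hax
      have hinv2 : ∀ b ∈ I, b * b = 1 := fun b hb => by
        have := pow_orderOf_eq_one b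
        rwa [(mem_filter.1 hb).2.1, pow_two] at this
      have hinv : a * (x : PG F) * a⁻¹ = (x : PG F)⁻¹ := by
        rw [inv_eq_of_mul_eq_one_right (hinv2 a ha), eq_inv_iff_mul_eq_one, mul_assoc]
        exact hinv2 _ hax
      rcases D.isTorus.ti x x.2 (fun h => hx1 (Subtype.ext h)) a (by rw [hinv]; exact D.T.inv_mem x.2) with h | h
      · exfalso
        have h2 := (mem_filter.1 ha).2
        have := D.eq_t₀ h (hinv2 a ha) (fun h1 => by rw [h1, orderOf_one] at h2; omega)
        rw [this, D.sgn_t₀] at h2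
        exact absurd h2.2 (by decide)
      · exact h
    have hmem : ∀ y : D.T, D.s * (y : PG F) ∈ I ↔ sgn (y : PG F) = - sgn D.s := by
      intro y
      simp only [I, mem_filter, mem_univ, true_and, map_mul]
      constructor
      · rintro ⟨-, h⟩
        rcases Int.units_eq_one_or (sgn D.s) with e | e <;> rw [e] at h ⊢ <;> simpa using h
      · intro h
        refine ⟨?_, by rw [h]; rcases Int.units_eq_one_or (sgn D.s) with e | e <;> rw [e] <;> decide⟩
        refine orderOf_eq_prime ?_ fun h1 => D.s_notMem ?_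
        · rw [pow_two]
          calc D.s * y * (D.s * y) = (D.s * y * D.s⁻¹) * (D.s * D.s) * y := by group
            _ = 1 := by rw [D.s_inv y.2, D.isTorus.sq, mul_one, inv_mul_cancel]
        · rw [eq_inv_of_mul_eq_one_left h1]; exact D.T.inv_mem y.2
    have hcnt : n x = if sgn (x : PG F) = 1 then (Nat.card D.T : ℂ) / 2 else 0 := by
      simp only [n]
      split_ifs with hs
      · have hsub : #(I.filter fun a => a * (x : PG F) ∈ I) =
            #(univ.filter fun y : D.T => sgn (y : PG F) = - sgn D.s) := by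
          refine (Finset.card_bij (fun (y : D.T) _ => D.s * (y : PG F)) ?_ ?_ ?_).symm
          · intro y hy
            have hy' := (mem_filter.1 hy).2
            refine mem_filter.2 ⟨(hmem y).2 hy', ?_⟩
            rw [mul_assoc, ← Subgroup.coe_mul, hmem, Subgroup.coe_mul, map_mul, hs, mul_one, hy']
          · intro a _ b _ h; exact Subtype.ext (mul_left_cancel h)
          · intro a ha
            obtain ⟨ha, hax⟩ := mem_filter.1 ha
            have h := hshape a ha hax
            refine ⟨⟨_, h⟩, mem_filter.2 ⟨mem_univ _, ?_⟩, ?_⟩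
            · rw [← hmem, ← mul_assoc, D.isTorus.sq, one_mul]; exact ha
            · rw [← mul_assoc, D.isTorus.sq, one_mul]
        rw [hsub]
        have h2 := D.card_T_inner
        have he : #(univ.filter fun y : D.T => sgn (y : PG F) = - sgn D.s) =
            #(univ.filter fun y : D.T => sgn (y : PG F) = 1) := by
          rcases Int.units_eq_one_or (sgn D.s) with e | e
          · refine Finset.card_equiv (Equiv.mulLeft ⟨D.w, D.w_mem⟩) fun y => ?_
            simp only [mem_filter, mem_univ, true_and, Equiv.coe_mulLeft, Subgroup.coe_mul, map_mul, D.hw, e]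
            rcases Int.units_eq_one_or (sgn (y : PG F)) with e' | e' <;> rw [e'] <;> decide
          · rw [e, neg_neg]
        rw [he, eq_div_iff two_ne_zero, ← h2]
        push_cast; ring
      · rw [card_eq_zero.2 (filter_eq_empty_iff.2 fun a ha hax => hs ?_), Nat.cast_zero]
        have h1 := (mem_filter.1 ha).2.2
        have h2 := (mem_filter.1 hax).2.2
        rw [map_mul, h1] at h2
        simpa using h2
    have h4 := D.chi_pow_four x
    rw [hcnt, show (if sgn (x : PG F) = 1 then (Nat.card D.T : ℂ) / 2 else 0) =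
      (Nat.card D.T : ℂ) / 4 * (1 + ((sgn (x : PG F) : ℤ) : ℂ)) by
        rcases Int.units_eq_one_or (sgn (x : PG F)) with e | e <;> rw [e] <;> norm_num; ring,
      ← D.chi_sq]
    ring
  rw [sum_congr rfl fun x _ => hval x, ← mul_sum, D.sum_T]
  field_simp

end TorusData

end Cfsg.Agent.H71.AlmostCyclic
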