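import Mathlib

/-!
Integer lemmas on the values of a rational character along the levels of a cyclic 2-group.
-/

set_option autoImplicit false

namespace Cfsg.Agent.H71.AlmostCyclic

open Finset

/-- The congruences between the values at consecutive levels. -/
def LevelCongr (L : ℕ) (f : ℕ → ℤ) : Prop :=
  ∀ j, 1 ≤ j → j ≤ L + 1 → (2 : ℤ) ^ (L + 2 - j) ∣ f (j + 1) - f j

/-- `8M` times the norm bound coming from the sections of elements of order `≥ 4` and of the central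
involution. -/
def LevelBound (L : ℕ) (f : ℕ → ℤ) (a k : ℤ) : Prop :=
  2 * (∑ j ∈ Icc 2 (L + 2), (2 : ℤ) ^ (j - 1) * f j ^ 2) + 2 ^ (L + 1) * a ^ 2 + 2 * k ^ 2 <
    2 ^ (L + 4)

theorem sum_split {L : ℕ} (hL : 1 ≤ L) (f : ℕ → ℤ) :
    ∑ j ∈ Icc 2 (L + 2), (2 : ℤ) ^ (j - 1) * f j ^ 2 =
      (∑ j ∈ Icc 2 L, (2 : ℤ) ^ (j - 1) * f j ^ 2) + 2 ^ L * f (L + 1) ^ 2 +
        2 ^ (L + 1) * f (L + 2) ^ 2 := by
  rw [sum_Icc_succ_top (by omega : 2 ≤ L + 1 + 1), sum_Icc_succ_top (by omega : 2 ≤ L + 1)]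
  simp

theorem sum_two_pow {L : ℕ} (hL : 1 ≤ L) :
    ∑ j ∈ Icc 2 L, (2 : ℤ) ^ (j - 1) = 2 ^ L - 2 := by
  induction L, hL using Nat.le_induction with
  | base => simp
  | succ n hn ih =>
    rw [sum_Icc_succ_top (by omega : 2 ≤ n + 1), ih]
    simp [pow_succ]; ring

theorem sum_const {L : ℕ} (hL : 1 ≤ L) {f : ℕ → ℤ} {c : ℤ} (h : ∀ j, 2 ≤ j → j ≤ L → f j = c) :
    ∑ j ∈ Icc 2 L, (2 : ℤ) ^ (j - 1) * f j ^ 2 = (2 ^ L - 2) * c ^ 2 := by
  rw [← sum_two_pow hL, sum_mul]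
  exact sum_congr rfl fun j hj => by rw [h j (mem_Icc.1 hj).1 (mem_Icc.1 hj).2]

theorem sum_low_nonneg (L : ℕ) (f : ℕ → ℤ) :
    0 ≤ ∑ j ∈ Icc 2 L, (2 : ℤ) ^ (j - 1) * f j ^ 2 :=
  sum_nonneg fun j _ => mul_nonneg (pow_nonneg (by norm_num) _) (sq_nonneg _)

theorem term_le_low {L j : ℕ} (f : ℕ → ℤ) (h1 : 2 ≤ j) (h2 : j ≤ L) :
    (2 : ℤ) ^ (j - 1) * f j ^ 2 ≤ ∑ i ∈ Icc 2 L, (2 : ℤ) ^ (i - 1) * f i ^ 2 :=
  single_le_sum (f := fun i => (2 : ℤ) ^ (i - 1) * f i ^ 2)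
    (fun i _ => mul_nonneg (pow_nonneg (by norm_num) _) (sq_nonneg _)) (mem_Icc.2 ⟨h1, h2⟩)

/-- Below the two top levels a rational character is constant when its norm is small. -/
theorem const_low {L : ℕ} {f : ℕ → ℤ} (hc : LevelCongr L f) {c : ℤ} (hc2 : c ^ 2 ≤ 4) (hL : f L = c)
    (hb : ∀ j, 2 ≤ j → j ≤ L → (2 : ℤ) ^ (j - 1) * f j ^ 2 < 2 ^ (L + 3)) :
    ∀ j, 2 ≤ j → j ≤ L → f j = c := by
  suffices h : ∀ i j, 2 ≤ j → j + i = L → f j = c from fun j h1 h2 => h (L - j) j h1 (by omega)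
  intro i
  induction i with
  | zero => intro j _ hj; rw [show j = L by omega]; exact hL
  | succ i ih =>
    intro j hj hji
    have hd := hc j (by omega) (by omega)
    rw [ih (j + 1) (by omega) (by omega), show L + 2 - j = i + 3 by omega] at hd
    obtain ⟨t, ht⟩ := hd
    have hb' := hb j hj (by omega)
    rw [show L + 3 = (j - 1) + (i + 5) by omega, pow_add] at hb'
    have hb'' : f j ^ 2 < 2 ^ (i + 5) := lt_of_mul_lt_mul_left hb' (pow_nonneg (by norm_num) _)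
    have hm : (8 : ℤ) ≤ 2 ^ (i + 3) := by
      calc (8 : ℤ) = 2 ^ 3 := by norm_num
        _ ≤ _ := pow_le_pow_right₀ (by norm_num) (by omega)
    rw [show (2 : ℤ) ^ (i + 5) = 4 * 2 ^ (i + 3) by ring] at hb''
    by_contra hne
    have hc' : -2 ≤ c ∧ c ≤ 2 := by constructor <;> nlinarith
    have hf : f j = c - 2 ^ (i + 3) * t := by linarith
    rcases lt_trichotomy t 0 with h | h | h
    · have : 2 ^ (i + 3) ≤ 2 ^ (i + 3) * (-t) := le_mul_of_one_le_right (by linarith) (by omega)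
      nlinarith
    · subst h; simp at hf; exact hne hf
    · have : 2 ^ (i + 3) ≤ 2 ^ (i + 3) * t := le_mul_of_one_le_right (by linarith) (by omega)
      nlinarith

theorem dvd_sub_two {L : ℕ} (hL : 1 ≤ L) {f : ℕ → ℤ} (hc : LevelCongr L f) {k : ℤ}
    (hk : (2 : ℤ) ^ (L + 1) ∣ f 1 - k) : (2 : ℤ) ^ (L + 1) ∣ f 2 - k := by
  have := hc 1 le_rfl (by omega)
  simp only [show L + 2 - 1 = L + 1 by omega, show (1 + 1 : ℕ) = 2 from rfl] at this
  exact (by ring : f 2 - k = (f 2 - f 1) + (f 1 - k)) ▸ dvd_add this hk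

theorem top_congr {L : ℕ} (hL : 1 ≤ L) {f : ℕ → ℤ} (hc : LevelCongr L f) :
    (4 : ℤ) ∣ f (L + 1) - f L := by
  simpa [show L + 2 - L = 2 by omega] using hc L hL (by omega)

theorem four_le_two_pow {L : ℕ} (hL : 1 ≤ L) : (4 : ℤ) ≤ 2 ^ (L + 1) := by
  calc (4 : ℤ) = 2 ^ 2 := by norm_num
    _ ≤ _ := pow_le_pow_right₀ (by norm_num) (by omega)

/-- The common constituent of the two induced characters at the involution. -/
theorem common_values {L : ℕ} (hL : 1 ≤ L) {fs fr : ℕ → ℤ} {a b k : ℤ}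
    (hs : LevelCongr L fs) (hk : k = a + 2 * b) (hA : (2 : ℤ) ^ (L + 1) ∣ fs 1 - k)
    (hsN : fs (L + 2) = 0) (hsM : fs (L + 1) = 2) (hsB : LevelBound L fs a k)
    (hrN : fr (L + 2) = 1) (hrM : fr (L + 1) = 1)
    (hlow : ∀ j, 2 ≤ j → j ≤ L → fs j + fr j = -1)
    (hrB : LevelBound L fr (-1 - a) (-1 - k)) : a = 0 ∧ b = -1 := by
  have hM : (4 : ℤ) ≤ 2 ^ (L + 1) := four_le_two_pow hL
  have hd2 := dvd_sub_two hL hs hA
  have h4 : (4 : ℤ) ∣ 2 ^ (L + 1) := by
    simpa using pow_dvd_pow (2 : ℤ) (show 2 ≤ L + 1 by omega)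
  have htop := top_congr hL hs
  rw [hsM] at htop
  unfold LevelBound at hsB hrB
  rw [sum_split hL, hsN, hsM] at hsB
  rw [sum_split hL, hrN, hrM] at hrB
  have hp3 : (2 : ℤ) ^ (L + 4) = 16 * 2 ^ L := by ring
  have hp1 : (2 : ℤ) ^ (L + 1) = 2 * 2 ^ L := by ring
  rw [hp1, hp3] at hsB hrB
  rw [hp1] at hM
  have hnn := sum_low_nonneg L fs
  obtain ⟨c, hc, hconst, hck⟩ : ∃ c : ℤ, (c = 2 ∨ c = -2) ∧ (∀ j, 2 ≤ j → j ≤ L → fs j = c) ∧
      (4 : ℤ) ∣ c - k := by
    rcases eq_or_lt_of_le hL with h | h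
    · subst h
      refine ⟨2, Or.inl rfl, fun j h1 h2 => absurd h2 (by omega), ?_⟩
      have := h4.trans hd2
      rwa [show fs 2 = 2 from hsM] at this
    · have hb : ∀ j, 2 ≤ j → j ≤ L → (2 : ℤ) ^ (j - 1) * fs j ^ 2 < 2 ^ (L + 2) := fun j h1 h2 => by
        have := term_le_low fs h1 h2
        rw [show (2 : ℤ) ^ (L + 2) = 4 * 2 ^ L by ring]
        nlinarith [sq_nonneg a, sq_nonneg k]
      have hbL := hb L h le_rfl
      rw [show L + 2 = (L - 1) + 3 by omega, pow_add] at hbL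
      have h8 : fs L ^ 2 < 8 := by
        have := lt_of_mul_lt_mul_left hbL (pow_nonneg (by norm_num) _)
        simpa using this
      have hr : -2 ≤ fs L ∧ fs L ≤ 2 := by constructor <;> nlinarith
      have hcases : fs L = 2 ∨ fs L = -2 := by omega
      have hconst := const_low hs (by rcases hcases with e | e <;> rw [e] <;> norm_num) rfl
        (fun j h1 h2 => lt_of_lt_of_le (hb j h1 h2) (pow_le_pow_right₀ (by norm_num) (by omega)))
      refine ⟨fs L, hcases, hconst, ?_⟩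
      have := h4.trans hd2
      rwa [hconst 2 le_rfl h] at this
  have hc4 : c ^ 2 = 4 := by rcases hc with e | e <;> rw [e] <;> norm_num
  rw [sum_const hL hconst, hc4] at hsB
  have hk2 : -2 ≤ k ∧ k ≤ 2 := by constructor <;> nlinarith [sq_nonneg a]
  have hkc : k = 2 ∨ k = -2 := by rcases hc with e | e <;> omega
  have ha : a = 0 := by
    have ha2 : a ^ 2 < 4 := by rcases hkc with e | e <;> subst e <;> nlinarith
    have : -1 ≤ a ∧ a ≤ 1 := by constructor <;> nlinarith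
    omega
  refine ⟨ha, ?_⟩
  rcases hkc with e | e
  · exfalso
    subst ha
    rcases eq_or_lt_of_le hL with h | h
    · subst h
      simp at hrB
      rw [e] at hrB
      norm_num at hrB
    · have hck' : c = 2 := by
        have h8 : (8 : ℤ) ∣ 2 ^ (L + 1) := by
          simpa using pow_dvd_pow (2 : ℤ) (show 3 ≤ L + 1 by omega)
        have := h8.trans hd2
        rw [hconst 2 le_rfl h, e] at this
        rcases hc with e' | e' <;> omega
      rw [sum_const hL (c := -3) (fun j h1 h2 => by linarith [hlow j h1 h2, hconst j h1 h2]),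
        e] at hrB
      nlinarith
  · omega

set_option maxHeartbeats 800000 in
/-- The two further constituents at the involution. -/
theorem other_values {L : ℕ} (hL : 1 ≤ L) {f f' : ℕ → ℤ} {a b k : ℤ}
    (hf : LevelCongr L f) (hk : k = a + 2 * b) (hA : (2 : ℤ) ^ (L + 1) ∣ f 1 - k)
    (hN : f (L + 2) = -1) (hM' : f (L + 1) = 1) (hB : LevelBound L f a k)
    {a' k' : ℤ} (hN' : f' (L + 2) = -1) (hM'' : f' (L + 1) = 1) (hB' : LevelBound L f' a' k')
    (hlow : ∀ j, 2 ≤ j → j ≤ L → f j + f' j = 2) :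
    (a = 1 ∧ b = 0) ∨ (a = -1 ∧ b = 1) := by
  have hd2 := dvd_sub_two hL hf hA
  unfold LevelBound at hB hB'
  rw [sum_split hL, hN, hM'] at hB
  rw [sum_split hL, hN', hM''] at hB'
  have hp3 : (2 : ℤ) ^ (L + 4) = 16 * 2 ^ L := by ring
  have hp1 : (2 : ℤ) ^ (L + 1) = 2 * 2 ^ L := by ring
  rw [hp1, hp3] at hB hB'
  have hnn := sum_low_nonneg L f
  have hconst : ∀ j, 2 ≤ j → j ≤ L → f j = 1 := by
    rcases eq_or_lt_of_le hL with h | h
    · exact fun j h1 h2 => absurd h2 (by omega)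
    have hb : ∀ (g : ℕ → ℤ) (x y : ℤ),
        2 * ((∑ j ∈ Icc 2 L, (2 : ℤ) ^ (j - 1) * g j ^ 2) + 2 ^ L * 1 ^ 2 + 2 * 2 ^ L * (-1) ^ 2) +
          2 * 2 ^ L * x ^ 2 + 2 * y ^ 2 < 16 * 2 ^ L →
        ∀ j, 2 ≤ j → j ≤ L → (2 : ℤ) ^ (j - 1) * g j ^ 2 < 5 * 2 ^ L := fun g x y hg j h1 h2 => by
      have := term_le_low g h1 h2
      nlinarith [mul_nonneg (pow_nonneg (show (0 : ℤ) ≤ 2 by norm_num) L) (sq_nonneg x), sq_nonneg y]
    have hbL := hb f a k hB L h le_rfl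
    have hbL' := hb f' a' k' hB' L h le_rfl
    rw [show (2 : ℤ) ^ L = 2 ^ (L - 1) * 2 by rw [← pow_succ]; congr 1; omega] at hbL hbL'
    have h10 : f L ^ 2 < 10 := by
      by_contra hcon
      push Not at hcon
      nlinarith [pow_pos (show (0 : ℤ) < 2 by norm_num) (L - 1)]
    have h10' : f' L ^ 2 < 10 := by
      by_contra hcon
      push Not at hcon
      nlinarith [pow_pos (show (0 : ℤ) < 2 by norm_num) (L - 1)]
    have hl := hlow L h le_rfl
    have htop := top_congr hL hf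
    rw [hM'] at htop
    have : -3 ≤ f L ∧ f L ≤ 3 := by constructor <;> nlinarith
    have : -3 ≤ f' L ∧ f' L ≤ 3 := by constructor <;> nlinarith
    refine const_low hf (by norm_num) (by omega) fun j h1 h2 => ?_
    have := hb f a k hB j h1 h2
    rw [show (2 : ℤ) ^ (L + 3) = 8 * 2 ^ L by ring]
    nlinarith [pow_pos (show (0 : ℤ) < 2 by norm_num) L]
  rw [sum_const hL hconst] at hB
  have hf2 : f 2 = 1 := by
    rcases eq_or_lt_of_le hL with h | h
    · subst h; exact hM'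
    · exact hconst 2 le_rfl h
  rw [hf2, hp1] at hd2
  obtain ⟨t, ht⟩ := hd2
  have ha0 : 1 ≤ a ^ 2 := by
    have hne : a ≠ 0 := fun e => by subst e; have : 2 * (2 ^ L * t) = 2 * 2 ^ L * t := by ring
                                    omega
    have := sq_pos_of_ne_zero hne
    omega
  have hu : (2 : ℤ) ≤ 2 ^ L := by
    calc (2 : ℤ) = 2 ^ 1 := by norm_num
      _ ≤ _ := pow_le_pow_right₀ (by norm_num) hL
  have ht0 : t = 0 := by
    have hb : 2 * k ^ 2 + 2 * 2 ^ L * a ^ 2 < 8 * 2 ^ L + 4 := by linarith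
    generalize hw : (2 : ℤ) ^ L = w at ht hb hu
    have hua : 2 * w ≤ 2 * w * a ^ 2 := le_mul_of_one_le_right (by linarith) ha0
    by_contra hne
    have hk2 : (2 * w - 1) ^ 2 ≤ k ^ 2 := by
      rcases lt_or_gt_of_ne hne with h | h
      · have h' : 2 * w ≤ 2 * w * (-t) := le_mul_of_one_le_right (by linarith) (by omega)
        have h1 : 2 * w - 1 ≤ k := by linarith
        exact pow_le_pow_left₀ (by linarith) h1 2
      · have h' : 2 * w ≤ 2 * w * t := le_mul_of_one_le_right (by linarith) (by omega)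
        have h1 : 2 * w - 1 ≤ -k := by linarith
        rw [← neg_sq k]
        exact pow_le_pow_left₀ (by linarith) h1 2
    nlinarith
  have hk1 : k = 1 := by subst ht0; linarith
  have ha5 : a ^ 2 < 5 := by subst hk1; nlinarith
  have : -2 ≤ a ∧ a ≤ 2 := by constructor <;> nlinarith
  omega

end Cfsg.Agent.H71.AlmostCyclic
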