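import Cfsg.Agent.H71.AlmostCyclic.Exceptional

/-!
No core-free group without subgroups of index two has semidihedral Sylow 2-subgroups and cyclic odd
Sylow subgroups.
-/

set_option autoImplicit false

namespace Cfsg.Agent.H71.AlmostCyclic

open Subgroup
open scoped Classical

universe u

theorem eq_one_of_cube_seventeen : ∀ x : ZMod 17, x * x * x = 1 → x = 1 := by decide

theorem no_semidihedral {G : Type u} [Group G] [Finite G] (S : Sylow 2 G)
    (hS : Cfsg.IsQuasiDihedral (S : Subgroup G)) (hno : ∀ H : Subgroup G, H.index ≠ 2)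
    (hcyc : OddCyclic G) (hcore : Cfsg.oddCore G = ⊥) : False := by
  obtain ⟨F, iF, iT, iD, ⟨K⟩⟩ := exists_frame S hS hno hcyc
  obtain ⟨hG, -, hC, -, -⟩ := K.order_formula hno
  rw [K.o_eq_one hno hcore, mul_one] at hC
  rw [hC] at hG
  haveI : Fact (Nat.Prime 7) := ⟨by norm_num⟩
  haveI : Fact (Nat.Prime 17) := ⟨by norm_num⟩
  haveI : Fact (Nat.Prime 3) := ⟨Nat.prime_three⟩
  haveI : Fact (Nat.Prime 2) := ⟨Nat.prime_two⟩
  obtain ⟨w, hw⟩ := exists_prime_orderOf_dvd_card' (G := G) 7 (by rw [hG]; norm_num)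
  set c := Nat.card (centralizer ({w} : Set G)) with hc
  have h7c : 7 ∣ c := hw ▸ Subgroup.orderOf_dvd_natCard _ (mem_centralizer_singleton_iff.2 rfl)
  have h2c : ¬ 2 ∣ c := fun h => by
    obtain ⟨u, hu⟩ := exists_prime_orderOf_dvd_card' (G := centralizer ({w} : Set G)) 2 h
    obtain ⟨g, hg⟩ := isConj_iff.1 (K.conjz (u : G) (by rw [orderOf_coe]; exact hu))
    have hm : g * w * g⁻¹ ∈ K.C := K.mem_C.2 (by
      rw [← hg]
      have h := (mem_centralizer_singleton_iff.1 u.2).symm
      calc g * w * g⁻¹ * (g * (u : G) * g⁻¹) = g * (w * (u : G)) * g⁻¹ := by group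
        _ = _ := by rw [h]; group)
    have h7 := Subgroup.orderOf_dvd_natCard K.C hm
    rw [show orderOf (g * w * g⁻¹) = orderOf w from (MulAut.conj g).orderOf_eq w, hw, hC] at h7
    norm_num at h7
  have h3c : ¬ 3 ∣ c := fun h => by
    obtain ⟨u, hu⟩ := exists_prime_orderOf_dvd_card' (G := centralizer ({w} : Set G)) 3 h
    have h36 := K.card_cent_three_G hno hcore (x := (u : G)) (by rw [orderOf_coe]; exact hu)
    have h7 : 7 ∣ Nat.card (centralizer ({(u : G)} : Set G)) := hw ▸ Subgroup.orderOf_dvd_natCard _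
      (mem_centralizer_singleton_iff.2 (mem_centralizer_singleton_iff.1 u.2).symm)
    have := h7.trans h36
    norm_num at this
  have hc595 : c ∣ 5 * 7 * 17 := by
    have h : c ∣ 2 ^ 4 * (3 ^ 2 * (5 * 7 * 17)) := by
      rw [hc, show 2 ^ 4 * (3 ^ 2 * (5 * 7 * 17)) = Nat.card G by rw [hG]; norm_num]
      exact Subgroup.card_subgroup_dvd_card _
    refine Nat.Coprime.dvd_of_dvd_mul_left ?_ (Nat.Coprime.dvd_of_dvd_mul_left ?_ h)
    · exact (((Nat.Prime.coprime_iff_not_dvd Nat.prime_three).2 h3c).symm).pow_right 2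
    · exact (((Nat.Prime.coprime_iff_not_dvd Nat.prime_two).2 h2c).symm).pow_right 4
  -- the normaliser of the Sylow 7-subgroup
  let P : Sylow 7 G := Sylow.ofCard (zpowers w) (by
    rw [Nat.card_zpowers, hw, hG, Nat.factorization_def _ (by norm_num : Nat.Prime 7),
      show 357 * 240 = 7 * 12240 from rfl, padicValNat.mul (by norm_num) (by norm_num),
      padicValNat_self, padicValNat.eq_zero_of_not_dvd (by norm_num : ¬ 7 ∣ 12240)]
    norm_num)
  set N : Subgroup G := normalizer (zpowers w : Set G) with hN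
  have hCN : centralizer ({w} : Set G) ≤ N := by
    rw [← centralizer_closure, ← zpowers_eq_closure]
    exact centralizer_le_normalizer _
  let X : Subgroup N := (centralizer ({w} : Set G)).subgroupOf N
  have hXc : Nat.card X = c := Nat.card_congr (subgroupOfEquivOfLe hCN).toEquiv
  obtain ⟨d, hd, hNd⟩ : ∃ d, d ∣ 6 ∧ Nat.card N = c * d := by
    have hker : (normalizerMonoidHom (zpowers w)).ker = X := by
      rw [normalizerMonoidHom_ker]
      ext v
      show (v : G) ∈ centralizer (zpowers w : Set G) ↔ (v : G) ∈ centralizer ({w} : Set G)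
      rw [← centralizer_closure ({w} : Set G), ← zpowers_eq_closure]
    refine ⟨Nat.card (normalizerMonoidHom (zpowers w)).range, ?_, ?_⟩
    · refine (Subgroup.card_subgroup_dvd_card _).trans (dvd_of_eq ?_)
      rw [Nat.card_congr (IsCyclic.mulAutMulEquiv (zpowers w)).toEquiv, Nat.card_zpowers, hw,
        Nat.card_eq_fintype_card, ZMod.card_units_eq_totient, Nat.totient_prime (by norm_num)]
    · have h := (normalizerMonoidHom (zpowers w)).ker.card_mul_index
      rw [index_ker, hker, hXc] at h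
      exact h.symm
  have hn7 : Nat.card (Sylow 7 G) = N.index := P.card_eq_index_normalizer
  have hmod : N.index % 7 = 1 := by
    have := card_sylow_modEq_one 7 G
    rw [hn7] at this
    exact this
  have hidx : c * d * N.index = 357 * 240 := by rw [← hNd, N.card_mul_index, hG]
  have hcd : c = 119 ∧ d = 6 := by
    revert h7c hc595 hidx
    generalize c = c'
    intro h7c hc595 hidx
    obtain ⟨k, rfl⟩ := h7c
    have hk : k ∣ 5 * 17 := by
      refine Nat.dvd_of_mul_dvd_mul_left (by norm_num : 0 < 7) ?_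
      rwa [show 7 * (5 * 17) = 5 * 7 * 17 from rfl]
    obtain ⟨a, b, ha, hb, rfl⟩ := (Nat.dvd_mul).1 hk
    rcases (Nat.dvd_prime (by norm_num : Nat.Prime 5)).1 ha with rfl | rfl <;>
      rcases (Nat.dvd_prime (by norm_num : Nat.Prime 17)).1 hb with rfl | rfl <;>
      · have := Nat.le_of_dvd (by norm_num) hd
        interval_cases d <;> omega
  obtain ⟨n, hn⟩ := exists_prime_orderOf_dvd_card' (G := N) 3 (by rw [hNd, hcd.2]; exact ⟨c * 2, by ring⟩)
  obtain ⟨v, hv⟩ := exists_prime_orderOf_dvd_card' (G := centralizer ({w} : Set G)) 17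
    (by rw [← hc, hcd.1]; norm_num)
  have hconj : ∀ u ∈ centralizer ({w} : Set G), (n : G) * u * (n : G)⁻¹ ∈ centralizer ({w} : Set G) := by
    intro u hu
    have h1 : (n : G)⁻¹ * w * (n : G) ∈ zpowers w :=
      (mem_normalizer_iff''.1 n.2 w).1 (mem_zpowers w)
    obtain ⟨i, hi⟩ := h1
    have hcu : Commute u ((n : G)⁻¹ * w * (n : G)) := by
      rw [← show w ^ i = _ from hi]
      exact Commute.zpow_right (mem_centralizer_singleton_iff.1 hu) i
    refine mem_centralizer_singleton_iff.2 ?_
    calc (n : G) * u * (n : G)⁻¹ * w = (n : G) * (u * ((n : G)⁻¹ * w * (n : G))) * (n : G)⁻¹ := by group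
      _ = _ := by rw [hcu.eq]; group
  -- the element of order 17 is normalised
  let v' : centralizer ({w} : Set G) := ⟨(n : G) * (v : G) * (n : G)⁻¹, hconj _ v.2⟩
  have hv' : orderOf v' = 17 := by
    rw [← orderOf_coe]
    show orderOf ((n : G) * (v : G) * (n : G)⁻¹) = 17
    rw [show orderOf ((n : G) * (v : G) * (n : G)⁻¹) = orderOf (v : G) from
      (MulAut.conj (n : G)).orderOf_eq _, orderOf_coe, hv]
  have hmem : v' ∈ zpowers v := by
    by_contra hne
    have hdis : Disjoint (zpowers v) (zpowers v') := by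
      rw [disjoint_iff]
      by_contra hbot
      have hd : Nat.card ↥(zpowers v ⊓ zpowers v') ∣ Nat.card ↥(zpowers v') :=
        Subgroup.card_dvd_of_le inf_le_right
      rw [Nat.card_zpowers, hv'] at hd
      rcases (Nat.dvd_prime (by norm_num : Nat.Prime 17)).1 hd with h | h
      · exact hbot (Subgroup.eq_bot_of_card_eq _ h)
      · have he := eq_of_le_of_card_ge (inf_le_right : zpowers v ⊓ zpowers v' ≤ zpowers v')
          (by rw [h, Nat.card_zpowers, hv'])
        exact hne ((inf_eq_right.1 he) (mem_zpowers v'))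
    have hle := Nat.card_le_card_of_injective _ (Subgroup.mul_injective_of_disjoint hdis)
    rw [Nat.card_prod, Nat.card_zpowers, Nat.card_zpowers, hv, hv', ← hc, hcd.1] at hle
    norm_num at hle
  obtain ⟨e, he⟩ := hmem
  have hen : (n : G) * (v : G) * (n : G)⁻¹ = (v : G) ^ e := (congrArg Subtype.val he).symm.trans (by simp)
  have hn3 : (n : G) ^ 3 = 1 := by
    rw [← hn, ← orderOf_coe]; exact pow_orderOf_eq_one _
  have he3 : (v : G) ^ (e * e * e) = (v : G) := by
    calc (v : G) ^ (e * e * e) = ((n : G) * ((n : G) * ((n : G) * (v : G) * (n : G)⁻¹) * (n : G)⁻¹) * (n : G)⁻¹) := by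
          rw [hen, ← conj_zpow, hen, ← zpow_mul, ← conj_zpow, hen, ← zpow_mul, mul_assoc]
      _ = (n : G) ^ 3 * (v : G) * ((n : G) ^ 3)⁻¹ := by simp [pow_succ, mul_assoc]
      _ = _ := by rw [hn3]; simp
  have he1 : ((e : ℤ) : ZMod 17) = 1 := by
    have h : ((e * e * e : ℤ) : ZMod 17) = ((1 : ℤ) : ZMod 17) := by
      rw [ZMod.intCast_eq_intCast_iff, Int.modEq_comm, Int.modEq_iff_dvd]
      have h1 : (v : G) ^ (e * e * e - 1) = 1 := by rw [zpow_sub, zpow_one, he3, mul_inv_cancel]
      rw [← orderOf_dvd_iff_zpow_eq_one, orderOf_coe, hv] at h1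
      exact h1
    push_cast at h
    exact eq_one_of_cube_seventeen _ h
  have hcomm : (n : G) * (v : G) = (v : G) * (n : G) := by
    have h1 : (17 : ℤ) ∣ e - 1 := by
      have : ((e : ℤ) : ZMod 17) = ((1 : ℤ) : ZMod 17) := by rw [he1]; simp
      rw [ZMod.intCast_eq_intCast_iff, Int.modEq_comm, Int.modEq_iff_dvd] at this
      exact this
    have h2 : (v : G) ^ (e - 1) = 1 := by
      rw [← orderOf_dvd_iff_zpow_eq_one, orderOf_coe, hv]; exact h1
    rw [zpow_sub, zpow_one, mul_inv_eq_one] at h2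
    rw [h2] at hen
    exact mul_inv_eq_iff_eq_mul.1 hen
  have h17 : 17 ∣ Nat.card (centralizer ({(n : G)} : Set G)) := by
    rw [← hv, ← orderOf_coe v]
    exact Subgroup.orderOf_dvd_natCard _ (mem_centralizer_singleton_iff.2 hcomm.symm)
  have := h17.trans (K.card_cent_three_G hno hcore (x := (n : G)) (by rw [orderOf_coe]; exact hn))
  norm_num at this

end Cfsg.Agent.H71.AlmostCyclic
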