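import Cfsg.Agent.H27.ProjLine

/-!
`PGL(2,F)` on the projective line: commutants of non-scalar elements, tori, involutions.
-/

set_option autoImplicit false

namespace Cfsg.Agent.H71.AlmostCyclic

open Matrix Cfsg.Agent.H27.GLTwo Cfsg.Agent.H27.ProjLine
open scoped LinearAlgebra.Projectivization

variable {F : Type} [Field F]

local notation "M2" => Matrix (Fin 2) (Fin 2) F

/-- `PGL(2,F)`. -/
abbrev PG (F : Type) [Field F] := Matrix.ProjGenLinGroup (Fin 2) F

/-- The projective line. -/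
abbrev Pt (F : Type) [Field F] := ℙ F (Fin 2 → F)

instance instFinitePG [Finite F] : Finite (PG F) :=
  Finite.of_surjective _ ProjGenLinGroup.mk_surjective

/-- Scalar two by two matrices. -/
def IsScalarMat (z : Matrix (Fin 2) (Fin 2) F) : Prop :=
  z 0 1 = 0 ∧ z 1 0 = 0 ∧ z 0 0 = z 1 1

/-- Discriminant of the characteristic polynomial. -/
def disc (z : Matrix (Fin 2) (Fin 2) F) : F := z.trace ^ 2 - 4 * z.det

theorem mat_sq (z : Matrix (Fin 2) (Fin 2) F) :
    z * z = z.trace • z - z.det • (1 : M2) := by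
  ext i j
  fin_cases i <;> fin_cases j <;>
    simp [Matrix.mul_apply, Fin.sum_univ_two, Matrix.trace_fin_two, Matrix.det_fin_two] <;> ring

theorem scalar_coe (u : Fˣ) :
    ((GeneralLinearGroup.scalar (Fin 2) u : GL (Fin 2) F) : M2) = (u : F) • (1 : M2) := by
  rw [GeneralLinearGroup.coe_scalar, Matrix.scalar_apply, ← Matrix.smul_one_eq_diagonal]

theorem mk_eq_one_iff (g : GL (Fin 2) F) :
    (ProjGenLinGroup.mk g : PG F) = 1 ↔ IsScalarMat (g : M2) := by
  constructor
  · intro h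
    rw [← ProjGenLinGroup.mk_one, ProjGenLinGroup.mk_eq_mk_iff] at h
    obtain ⟨u, hu⟩ := h
    have : (g : M2) * ((u : F) • (1 : M2)) = 1 := by
      rw [← scalar_coe, ← Units.val_mul, hu, Units.val_one]
    rw [Matrix.mul_smul, mul_one] at this
    have hu0 : (u : F) ≠ 0 := u.ne_zero
    refine ⟨?_, ?_, ?_⟩
    · simpa [hu0] using congrFun (congrFun this 0) 1
    · simpa [hu0] using congrFun (congrFun this 1) 0
    · have a := congrFun (congrFun this 0) 0
      have b := congrFun (congrFun this 1) 1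
      simp at a b
      exact mul_left_cancel₀ hu0 (a.trans b.symm)
  · rintro ⟨h1, h2, h3⟩
    have h0 : (g : M2) 0 0 ≠ 0 := fun h => by
      have := g.det_ne_zero
      rw [Matrix.det_fin_two, h1, h2, h] at this
      simp at this
    rw [show g = GeneralLinearGroup.scalar (Fin 2) (Units.mk0 _ h0) from ?_, ProjGenLinGroup.mk_scalar]
    refine Units.ext ?_
    rw [scalar_coe]
    ext i j
    fin_cases i <;> fin_cases j <;> simp [h1, h2, h3]

theorem mk_eq_mk_smul {g h : GL (Fin 2) F}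
    (e : (ProjGenLinGroup.mk g : PG F) = ProjGenLinGroup.mk h) :
    ∃ c : F, c ≠ 0 ∧ (h : M2) = c • (g : M2) := by
  obtain ⟨u, hu⟩ := ProjGenLinGroup.mk_eq_mk_iff.1 e
  exact ⟨u, u.ne_zero, by rw [← hu, Units.val_mul, scalar_coe, Matrix.mul_smul, mul_one]⟩

theorem mk_eq_mk_of_smul {g h : GL (Fin 2) F} {c : F} (e : (h : M2) = c • (g : M2)) :
    (ProjGenLinGroup.mk g : PG F) = ProjGenLinGroup.mk h := by
  have hc : c ≠ 0 := fun h0 => by
    have := h.det_ne_zero
    rw [e, h0, zero_smul, Matrix.det_zero] at this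
    exact this rfl
  refine ProjGenLinGroup.mk_eq_mk_iff.2 ⟨Units.mk0 c hc, Units.ext ?_⟩
  rw [Units.val_mul, scalar_coe, Matrix.mul_smul, mul_one, e]; rfl

theorem lin_coeff_unique {g : GL (Fin 2) F} (hg : ¬IsScalarMat (g : M2)) {a b a' b' : F}
    (h : a • (1 : M2) + b • (g : M2) = a' • (1 : M2) + b' • (g : M2)) : a = a' ∧ b = b' := by
  have hb : b = b' := by
    by_contra hne
    have hd : b - b' ≠ 0 := sub_ne_zero.2 hne
    have e01 := congrFun (congrFun h 0) 1
    have e10 := congrFun (congrFun h 1) 0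
    have e00 := congrFun (congrFun h 0) 0
    have e11 := congrFun (congrFun h 1) 1
    simp at e01 e10 e00 e11
    exact hg ⟨e01.resolve_left hne, e10.resolve_left hne,
      mul_left_cancel₀ hd (by linear_combination e00 - e11)⟩
  subst hb
  have := congrFun (congrFun h 0) 0
  simp at this
  exact ⟨this, rfl⟩

theorem exists_lin_of_commute {g k : GL (Fin 2) F} (hg : ¬IsScalarMat (g : M2))
    (h : k * g = g * k) : ∃ a b : F, (k : M2) = a • (1 : M2) + b • (g : M2) :=
  exists_lin_comb_of_commute (by rw [← Units.val_mul, h, Units.val_mul]) hg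

theorem commute_of_lin {g k l : GL (Fin 2) F} {a b c d : F}
    (hk : (k : M2) = a • (1 : M2) + b • (g : M2)) (hl : (l : M2) = c • (1 : M2) + d • (g : M2)) :
    k * l = l * k := by
  refine Units.ext ?_
  rw [Units.val_mul, Units.val_mul, hk, hl]
  simp [mul_add, add_mul, smul_smul, mul_comm]
  abel

/-- The image of the centraliser of `g` in `GL(2,F)`. -/
def aff (g : GL (Fin 2) F) : Subgroup (PG F) :=
  (Subgroup.centralizer ({g} : Set (GL (Fin 2) F))).map ProjGenLinGroup.mk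

theorem mem_aff {g : GL (Fin 2) F} {y : PG F} :
    y ∈ aff g ↔ ∃ k : GL (Fin 2) F, k * g = g * k ∧ ProjGenLinGroup.mk k = y := by
  simp only [aff, Subgroup.mem_map, Subgroup.mem_centralizer_singleton_iff]

theorem mk_mem_aff (g : GL (Fin 2) F) : (ProjGenLinGroup.mk g : PG F) ∈ aff g :=
  mem_aff.2 ⟨g, rfl, rfl⟩

theorem aff_comm {g : GL (Fin 2) F} (hg : ¬IsScalarMat (g : M2)) {x y : PG F} (hx : x ∈ aff g)
    (hy : y ∈ aff g) : x * y = y * x := by
  obtain ⟨k, hk, rfl⟩ := mem_aff.1 hx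
  obtain ⟨l, hl, rfl⟩ := mem_aff.1 hy
  obtain ⟨a, b, hab⟩ := exists_lin_of_commute hg hk
  obtain ⟨c, d, hcd⟩ := exists_lin_of_commute hg hl
  rw [← map_mul, ← map_mul, commute_of_lin hab hcd]

theorem smul_eq_iff (k : GL (Fin 2) F) (P : Pt F) :
    (ProjGenLinGroup.mk k : PG F) • P = P ↔ ∃ c : F, k • P.rep = c • P.rep := by
  refine ⟨exists_scalar_of_fix, fun ⟨c, hc⟩ => ?_⟩
  conv_lhs => rw [← P.mk_rep]
  conv_rhs => rw [← P.mk_rep]
  exact (Projectivization.mk_eq_mk_iff' F _ _ _ _).2 ⟨c, hc.symm⟩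

theorem lin_smul {g k : GL (Fin 2) F} {a b : F} (hk : (k : M2) = a • (1 : M2) + b • (g : M2))
    (v : Fin 2 → F) : k • v = a • v + b • (g • v) := by
  rw [gl_smul_eq, gl_smul_eq, hk, Matrix.add_mulVec, Matrix.smul_mulVec, Matrix.smul_mulVec,
    Matrix.one_mulVec]

/-- All non-trivial elements commuting with a non-scalar element have the same fixed points. -/
theorem fix_iff {g : GL (Fin 2) F} (hg : ¬IsScalarMat (g : M2)) {y : PG F} (hy : y ∈ aff g)
    (hy1 : y ≠ 1) (P : Pt F) : y • P = P ↔ (ProjGenLinGroup.mk g : PG F) • P = P := by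
  obtain ⟨k, hk, rfl⟩ := mem_aff.1 hy
  obtain ⟨a, b, hab⟩ := exists_lin_of_commute hg hk
  have hb : b ≠ 0 := fun h => hy1 ((mk_eq_one_iff k).2 (by rw [hab, h]; simp [IsScalarMat]))
  rw [smul_eq_iff, smul_eq_iff]
  constructor
  · rintro ⟨c, hc⟩
    rw [lin_smul hab] at hc
    refine ⟨b⁻¹ * (c - a), ?_⟩
    have : b • (g • P.rep) = (c - a) • P.rep := by rw [sub_smul, ← hc]; abel
    rw [← inv_smul_smul₀ hb (g • P.rep), this, smul_smul]
  · rintro ⟨c, hc⟩
    exact ⟨a + b * c, by rw [lin_smul hab, hc, smul_smul, add_smul]⟩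

/-- The commutant is transitive on the points it moves. -/
theorem exists_mem_aff_smul {g : GL (Fin 2) F} {P Q : Pt F}
    (hP : (ProjGenLinGroup.mk g : PG F) • P ≠ P) (hQ : (ProjGenLinGroup.mk g : PG F) • Q ≠ Q) :
    ∃ y ∈ aff g, y • P = Q := by
  have hw : wedge P.rep (g • P.rep) ≠ 0 := fun h0 => hP ((smul_eq_iff g P).2 (by
    obtain ⟨c, hc⟩ := exists_smul_eq_of_wedge P.rep_nonzero h0
    exact ⟨c, hc.symm⟩))
  obtain ⟨m, hm0, hm1⟩ := exists_gl hw
  set v := m⁻¹ • Q.rep with hv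
  have hQv : Q.rep = v 0 • P.rep + v 1 • (g • P.rep) := by
    rw [← hm1, ← hm0, ← gl_smul_lin, ← pair_ext, hv, smul_inv_smul]
  set K : M2 := v 0 • (1 : M2) + v 1 • (g : M2) with hK
  have hKc : K * (g : M2) = (g : M2) * K := by simp [hK, mul_add, add_mul]
  have hKP : K *ᵥ P.rep = Q.rep := by
    rw [hQv, hK, gl_smul_eq, Matrix.add_mulVec, Matrix.smul_mulVec, Matrix.smul_mulVec, Matrix.one_mulVec]
  have hKdet : IsUnit K.det := by
    rw [isUnit_iff_ne_zero]
    intro h0
    have hd : v 0 ^ 2 + v 0 * v 1 * (g : M2).trace + v 1 ^ 2 * (g : M2).det = 0 := by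
      rw [hK, Matrix.det_fin_two] at h0
      simp at h0
      rw [Matrix.trace_fin_two, Matrix.det_fin_two]
      linear_combination h0
    by_cases hb : v 1 = 0
    · rw [hb] at hd hQv
      have ha : v 0 = 0 := pow_eq_zero_iff two_ne_zero |>.1 (by linear_combination hd)
      exact Q.rep_nonzero (by rw [hQv, ha, zero_smul, zero_smul, add_zero])
    refine hQ ((smul_eq_iff g Q).2 ⟨(v 0 + v 1 * (g : M2).trace) / v 1, ?_⟩)
    have hgg : g • (g • P.rep) = (g : M2).trace • (g • P.rep) - (g : M2).det • P.rep := by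
      rw [gl_smul_eq, gl_smul_eq, Matrix.mulVec_mulVec, mat_sq, Matrix.sub_mulVec,
        Matrix.smul_mulVec, Matrix.smul_mulVec, Matrix.one_mulVec]
    rw [hQv, gl_smul_lin, hgg]
    funext i
    simp only [Pi.add_apply, Pi.sub_apply, Pi.smul_apply, smul_eq_mul]
    field_simp
    linear_combination (-P.rep i) * hd
  let k : GL (Fin 2) F := Cfsg.Agent.Linear.glOfDet K hKdet
  refine ⟨ProjGenLinGroup.mk k, mem_aff.2 ⟨k, Units.ext hKc, rfl⟩, ?_⟩
  conv_lhs => rw [← P.mk_rep]
  conv_rhs => rw [← Q.mk_rep]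
  exact (Projectivization.mk_eq_mk_iff' F _ _ _ _).2 ⟨1, (one_smul F _).trans hKP.symm⟩

theorem aff_smul_mem {g : GL (Fin 2) F} (hg : ¬IsScalarMat (g : M2)) {y : PG F} (hy : y ∈ aff g)
    {P : Pt F} (hP : (ProjGenLinGroup.mk g : PG F) • P ≠ P) :
    (ProjGenLinGroup.mk g : PG F) • (y • P) ≠ y • P := by
  intro h
  apply hP
  rw [← mul_smul, aff_comm hg (mk_mem_aff g) hy, mul_smul] at h
  exact MulAction.injective y h

/-- The order of a commutant is the number of moved points. -/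
theorem card_aff {g : GL (Fin 2) F} (hg : ¬IsScalarMat (g : M2)) :
    Nat.card (aff g) = Nat.card {P : Pt F // (ProjGenLinGroup.mk g : PG F) • P ≠ P} := by
  obtain ⟨P₀, hP₀⟩ : ∃ P : Pt F, (ProjGenLinGroup.mk g : PG F) • P ≠ P := by
    by_contra h
    push Not at h
    refine hg ((mk_eq_one_iff g).1 ?_)
    have hne : ∀ {v w : Fin 2 → F} (hv : v ≠ 0) (hw : w ≠ 0), wedge v w ≠ 0 →
        Projectivization.mk F v hv ≠ Projectivization.mk F w hw := by
      intro v w hv hw hvw he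
      obtain ⟨c, hc⟩ := (Projectivization.mk_eq_mk_iff' F _ _ _ _).1 he
      exact hvw (by rw [← hc]; simp [wedge]; ring)
    exact eq_one_of_fix_three _ (hne e0_ne e1_ne (by simp [wedge, e0, e1]))
      (hne e0_ne std_ne (by simp [wedge, e0, e1])) (hne e1_ne std_ne (by simp [wedge, e0, e1]))
      (h _) (h _) (h _)
  refine Nat.card_eq_of_bijective (fun y => ⟨(y : PG F) • P₀, aff_smul_mem hg y.2 hP₀⟩) ⟨?_, ?_⟩
  · intro x y hxy
    have h1 : (y⁻¹ * x : aff g).1 • P₀ = P₀ := by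
      simp only [Subgroup.coe_mul, Subgroup.coe_inv, mul_smul]
      rw [Subtype.mk.injEq] at hxy
      rw [hxy, inv_smul_smul]
    by_contra hne
    refine hP₀ ((fix_iff hg (y⁻¹ * x).2 (fun h => hne ?_) P₀).1 h1)
    exact (inv_mul_eq_one.1 (Subtype.ext (a2 := (1 : aff g)) h)).symm
  · rintro ⟨Q, hQ⟩
    obtain ⟨y, hy, hyQ⟩ := exists_mem_aff_smul hP₀ hQ
    exact ⟨⟨y, hy⟩, Subtype.ext hyQ⟩

theorem exists_fix_of_root {g : GL (Fin 2) F} {l : F}
    (h : l ^ 2 - (g : M2).trace * l + (g : M2).det = 0) :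
    ∃ P : Pt F, ∃ _ : (ProjGenLinGroup.mk g : PG F) • P = P, g • P.rep = l • P.rep := by
  have hd : ((g : M2) - l • (1 : M2)).det = 0 := by
    rw [Matrix.det_fin_two] at h ⊢
    rw [Matrix.trace_fin_two] at h
    simp
    linear_combination h
  obtain ⟨v, hv0, hv⟩ := Matrix.exists_mulVec_eq_zero_iff.2 hd
  rw [Matrix.sub_mulVec, Matrix.smul_mulVec, Matrix.one_mulVec, sub_eq_zero] at hv
  refine ⟨Projectivization.mk F v hv0, ?_⟩
  obtain ⟨a, ha⟩ := (Projectivization.mk_eq_mk_iff' F _ _ (Projectivization.rep_nonzero _) hv0).1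
    (Projectivization.mk F v hv0).mk_rep
  have : g • (Projectivization.mk F v hv0).rep = l • (Projectivization.mk F v hv0).rep := by
    rw [← ha, gl_smul_eq, Matrix.mulVec_smul, hv, smul_comm]
  exact ⟨(smul_eq_iff _ _).2 ⟨l, this⟩, this⟩

theorem root_of_fix {g : GL (Fin 2) F} {P : Pt F} {l : F} (h : g • P.rep = l • P.rep) :
    l ^ 2 - (g : M2).trace * l + (g : M2).det = 0 := by
  have h2 : (g : M2) *ᵥ ((g : M2) *ᵥ P.rep) = (l * l) • P.rep := by
    rw [← gl_smul_eq g P.rep, h, Matrix.mulVec_smul, ← gl_smul_eq, h, smul_smul]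
  rw [Matrix.mulVec_mulVec, mat_sq, Matrix.sub_mulVec, Matrix.smul_mulVec, Matrix.smul_mulVec,
    Matrix.one_mulVec, ← gl_smul_eq, h, smul_smul, ← sub_smul] at h2
  have h3 : ((g : M2).trace * l - (g : M2).det - l * l) • P.rep = 0 := by rw [sub_smul, h2, sub_self]
  linear_combination -((smul_eq_zero.1 h3).resolve_right P.rep_nonzero)

/-- The number of fixed points from the discriminant. -/
theorem card_fix (h2 : (2 : F) ≠ 0) [Finite F] {g : GL (Fin 2) F} (hg : ¬IsScalarMat (g : M2)) :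
    (¬IsSquare (disc (g : M2)) →
      Nat.card {P : Pt F // (ProjGenLinGroup.mk g : PG F) • P = P} = 0) ∧
    (IsSquare (disc (g : M2)) → disc (g : M2) ≠ 0 →
      Nat.card {P : Pt F // (ProjGenLinGroup.mk g : PG F) • P = P} = 2) := by
  classical
  constructor
  · intro hns
    have : IsEmpty {P : Pt F // (ProjGenLinGroup.mk g : PG F) • P = P} := ⟨fun ⟨P, hP⟩ => hns (by
      obtain ⟨l, hl⟩ := (smul_eq_iff g P).1 hP
      exact ⟨2 * l - (g : M2).trace, by rw [disc]; linear_combination -4 * root_of_fix hl⟩)⟩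
    exact Nat.card_of_isEmpty
  · rintro ⟨s, hs⟩ hne
    have hs0 : s ≠ 0 := fun h => hne (by rw [hs, h, mul_zero])
    rw [disc] at hs
    have hroot : ∀ s', s' * s' = s * s → ((g : M2).trace + s') / 2 *
        ((g : M2).trace + s') / 2 - (g : M2).trace * (((g : M2).trace + s') / 2) + (g : M2).det = 0 := by
      intro s' hs'
      field_simp
      linear_combination hs' - hs
    obtain ⟨P, hP, hlP⟩ := exists_fix_of_root (g := g) (l := ((g : M2).trace + s) / 2)
      (by linear_combination hroot s rfl)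
    obtain ⟨Q, hQ, hlQ⟩ := exists_fix_of_root (g := g) (l := ((g : M2).trace + -s) / 2)
      (by linear_combination hroot (-s) (by ring))
    have hPQ : P ≠ Q := by
      rintro rfl
      rw [hlP] at hlQ
      have h0 := smul_left_injective F P.rep_nonzero hlQ
      field_simp at h0
      have : 2 * s = 0 := by linear_combination h0
      exact hs0 ((mul_eq_zero.1 this).resolve_left h2)
    have heq : {R : Pt F | (ProjGenLinGroup.mk g : PG F) • R = R} = {P, Q} := by
      ext R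
      simp only [Set.mem_ofPred_eq, Set.mem_insert_iff, Set.mem_singleton_iff]
      refine ⟨fun hR => ?_, ?_⟩
      · by_contra hc
        push Not at hc
        exact hg ((mk_eq_one_iff g).1 (eq_one_of_fix_three _ hPQ (Ne.symm hc.1) (Ne.symm hc.2) hP hQ hR))
      · rintro (rfl | rfl) <;> assumption
    change Nat.card ↥{R : Pt F | (ProjGenLinGroup.mk g : PG F) • R = R} = 2
    rw [heq, Nat.card_coe_set_eq, Set.ncard_pair hPQ]

theorem card_aff_add [Finite F] {g : GL (Fin 2) F} (hg : ¬IsScalarMat (g : M2)) :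
    Nat.card (aff g) + Nat.card {P : Pt F // (ProjGenLinGroup.mk g : PG F) • P = P} =
      Nat.card F + 1 := by
  classical
  cases nonempty_fintype F
  haveI : Fintype (Pt F) := Fintype.ofFinite _
  rw [card_aff hg, Nat.card_eq_fintype_card, Nat.card_eq_fintype_card,
    Fintype.card_subtype_compl, Nat.sub_add_cancel (Fintype.card_subtype_le _),
    ← Nat.card_eq_fintype_card, card_projLine, Nat.card_eq_fintype_card]

/-- The image of `y` conjugating the element: a relation inside the span. -/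
theorem conj_lin {g : GL (Fin 2) F} (hg : ¬IsScalarMat (g : M2)) {x : PG F} (hx : x ∈ aff g)
    (hx1 : x ≠ 1) (k : GL (Fin 2) F)
    (h : ProjGenLinGroup.mk k * x * (ProjGenLinGroup.mk k)⁻¹ ∈ aff g) :
    ∃ a b : F, ((k * g * k⁻¹ : GL (Fin 2) F) : M2) = a • (1 : M2) + b • (g : M2) := by
  obtain ⟨m, hm, rfl⟩ := mem_aff.1 hx
  rw [← map_inv, ← map_mul, ← map_mul] at h
  obtain ⟨m', hm', hmm⟩ := mem_aff.1 h
  obtain ⟨c, hc, hcc⟩ := mk_eq_mk_smul hmm
  obtain ⟨a, b, hab⟩ := exists_lin_of_commute hg hm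
  obtain ⟨a', b', hab'⟩ := exists_lin_of_commute hg hm'
  have hb : b ≠ 0 := fun h => hx1 ((mk_eq_one_iff m).2 (by rw [hab, h]; simp [IsScalarMat]))
  refine ⟨b⁻¹ * (c * a' - a), b⁻¹ * (c * b'), ?_⟩
  have h1 : a • (1 : M2) + b • ((k * g * k⁻¹ : GL (Fin 2) F) : M2) =
      (c * a') • (1 : M2) + (c * b') • (g : M2) := by
    have hkk : (k : M2) * ((k⁻¹ : GL (Fin 2) F) : M2) = 1 := by
      rw [← Units.val_mul, mul_inv_cancel, Units.val_one]
    rw [← smul_smul, ← smul_smul, ← smul_add, ← hab', ← hcc]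
    simp only [Units.val_mul]
    rw [hab]
    simp only [mul_add, add_mul, Matrix.mul_smul, Matrix.smul_mul, mul_one, hkk]
  rw [← inv_smul_smul₀ hb ((k * g * k⁻¹ : GL (Fin 2) F) : M2), eq_sub_of_add_eq' h1, smul_sub,
    smul_add, smul_smul, smul_smul, smul_smul, mul_sub, sub_smul]
  abel

theorem det_conj (k g : GL (Fin 2) F) :
    ((k * g * k⁻¹ : GL (Fin 2) F) : M2).det = (g : M2).det := by
  rw [Units.val_mul, Units.val_mul, Matrix.det_mul_right_comm, ← Units.val_mul, mul_inv_cancel,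
    Units.val_one, one_mul]

theorem trace_conj' (k g : GL (Fin 2) F) :
    ((k * g * k⁻¹ : GL (Fin 2) F) : M2).trace = (g : M2).trace := by
  rw [Units.val_mul, Units.val_mul, Matrix.trace_mul_cycle, ← Units.val_mul, inv_mul_cancel,
    Units.val_one, one_mul]

/-- A commutant is a trivial intersection set: its normaliser fixes or inverts `g`. -/
theorem ti_aff (h2 : (2 : F) ≠ 0) {g : GL (Fin 2) F} (hg : ¬IsScalarMat (g : M2))
    (hd : disc (g : M2) ≠ 0) {x : PG F} (hx : x ∈ aff g) (hx1 : x ≠ 1) (k : GL (Fin 2) F)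
    (h : ProjGenLinGroup.mk k * x * (ProjGenLinGroup.mk k)⁻¹ ∈ aff g) :
    ((k * g * k⁻¹ : GL (Fin 2) F) : M2) = g ∨
      ((k * g * k⁻¹ : GL (Fin 2) F) : M2) = (g : M2).trace • (1 : M2) - (g : M2) := by
  obtain ⟨a, b, hab⟩ := conj_lin hg hx hx1 k h
  have ht := trace_conj' k g
  have hdet := det_conj k g
  rw [hab, Matrix.trace_fin_two, Matrix.trace_fin_two] at ht
  rw [hab, Matrix.det_fin_two, Matrix.det_fin_two] at hdet
  simp at ht hdet
  rw [disc, Matrix.trace_fin_two, Matrix.det_fin_two] at hd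
  have hb : (b - 1) * (b + 1) = 0 := by
    refine (mul_eq_zero.1 (show ((b - 1) * (b + 1)) *
      (((g : M2) 0 0 + (g : M2) 1 1) ^ 2 - 4 * ((g : M2) 0 0 * (g : M2) 1 1 - (g : M2) 0 1 * (g : M2) 1 0)) = 0 from ?_)).resolve_right hd
    linear_combination (-4 : F) * hdet + (2 * a + (b + 1) * ((g : M2) 0 0 + (g : M2) 1 1)) * ht
  rcases mul_eq_zero.1 hb with hb | hb
  · left
    have hb1 : b = 1 := by linear_combination hb
    have ha : a = 0 := by
      refine (mul_eq_zero.1 (show (2 : F) * a = 0 from ?_)).resolve_left h2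
      rw [hb1] at ht; linear_combination ht
    rw [hab, hb1, ha, zero_smul, one_smul, zero_add]
  · right
    have hb1 : b = -1 := by linear_combination hb
    have ha : a = (g : M2).trace := by
      rw [Matrix.trace_fin_two]
      refine mul_left_cancel₀ h2 ?_
      rw [hb1] at ht; linear_combination ht
    rw [hab, hb1, ha, neg_smul, one_smul, sub_eq_add_neg]

theorem commute_lift {g k : GL (Fin 2) F} (ht : (g : M2).trace ≠ 0)
    (h : (ProjGenLinGroup.mk k : PG F) * ProjGenLinGroup.mk g =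
      ProjGenLinGroup.mk g * ProjGenLinGroup.mk k) : k * g = g * k := by
  rw [← map_mul, ← map_mul] at h
  obtain ⟨c, hc, hcc⟩ := mk_eq_mk_smul h
  have hM : ((k * g * k⁻¹ : GL (Fin 2) F) : M2) = c⁻¹ • (g : M2) := by
    have h1 : ((k * g : GL (Fin 2) F) : M2) = c⁻¹ • ((g * k : GL (Fin 2) F) : M2) := by
      rw [hcc, inv_smul_smul₀ hc]
    rw [Units.val_mul (k * g), h1, Matrix.smul_mul, ← Units.val_mul, mul_inv_cancel_right]
  have htr := trace_conj' k g
  rw [hM, Matrix.trace_smul, smul_eq_mul] at htr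
  have h1 : c⁻¹ = 1 := mul_right_cancel₀ ht (by rw [one_mul]; exact htr)
  rw [inv_eq_one] at h1
  exact Units.ext (by rw [hcc, h1, one_smul])

theorem isConj_of_trace_zero {g g' : GL (Fin 2) F} (hg : ¬IsScalarMat (g : M2))
    (hg' : ¬IsScalarMat (g' : M2)) (ht : (g : M2).trace = 0) (ht' : (g' : M2).trace = 0)
    (hd : (g : M2).det = (g' : M2).det) : ∃ k : GL (Fin 2) F, k * g * k⁻¹ = g' := by
  have hbasis : ∀ z : GL (Fin 2) F, ¬IsScalarMat (z : M2) → (z : M2).trace = 0 →
      ∃ m : GL (Fin 2) F, z • (m • (e0 : Fin 2 → F)) = m • e1 ∧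
        z • (m • e1) = (-(z : M2).det) • (m • (e0 : Fin 2 → F)) := by
    intro z hz hzt
    obtain ⟨v, hv⟩ : ∃ v : Fin 2 → F, wedge v (z • v) ≠ 0 := by
      by_contra hc
      push Not at hc
      have h0 := hc e0
      have h1 := hc e1
      have h01 := hc (e0 + e1)
      simp [wedge, gl_smul_eq, e0, e1, Matrix.mulVec, dotProduct, Fin.sum_univ_two] at h0 h1 h01
      exact hz ⟨h1, h0, by linear_combination -(h01 - h0 + h1)⟩
    obtain ⟨m, hm0, hm1⟩ := exists_gl hv
    refine ⟨m, by rw [hm0, hm1], ?_⟩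
    rw [hm0, hm1, ← mul_smul, gl_smul_eq, Units.val_mul, mat_sq, hzt, zero_smul, zero_sub,
      Matrix.neg_mulVec, Matrix.smul_mulVec, Matrix.one_mulVec, neg_smul]
  obtain ⟨m, hm1, hm2⟩ := hbasis g hg ht
  obtain ⟨m', hm1', hm2'⟩ := hbasis g' hg' ht'
  refine ⟨m' * m⁻¹, ?_⟩
  have key : ∀ v : Fin 2 → F, (m' * m⁻¹) • (m • v) = m' • v := fun v => by
    rw [mul_smul, inv_smul_smul]
  have hlin : ∀ (z : GL (Fin 2) F) (a : F) (u : Fin 2 → F), z • (a • u) = a • (z • u) := fun z a u => by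
    rw [gl_smul_eq, gl_smul_eq, Matrix.mulVec_smul]
  rw [mul_inv_eq_iff_eq_mul]
  have hfin : (m' * m⁻¹ * g) * m = (g' * (m' * m⁻¹)) * m := by
    refine smul_ext ?_ ?_
    · rw [mul_smul (m' * m⁻¹ * g) m, mul_smul (m' * m⁻¹) g, mul_smul (g' * (m' * m⁻¹)) m,
        mul_smul g' (m' * m⁻¹), hm1, key, key, hm1']
    · rw [mul_smul (m' * m⁻¹ * g) m, mul_smul (m' * m⁻¹) g, mul_smul (g' * (m' * m⁻¹)) m,
        mul_smul g' (m' * m⁻¹), hm2, hlin, key, key, hm2', hd]
  exact mul_right_cancel hfin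

end Cfsg.Agent.H71.AlmostCyclic
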