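import Cfsg.Agent.H71.AlmostCyclic.Torus
import Cfsg.Agent.CharInduce.Ops

/-!
Class functions and counts in `PGL(2,F)` attached to a torus.
-/

set_option autoImplicit false

namespace Cfsg.Agent.H71.AlmostCyclic

open Matrix Finset CharBasic CharInduce Cfsg.Agent.H27.GLTwo Cfsg.Agent.H27.ProjLine
open scoped LinearAlgebra.Projectivization ComplexConjugate Classical

variable {F : Type} [Field F] [Fintype F]

local notation "M2" => Matrix (Fin 2) (Fin 2) F

noncomputable instance instFintypePG : Fintype (PG F) := Fintype.ofFinite _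

noncomputable instance instFintypePt : Fintype (Pt F) := Fintype.ofFinite _

theorem card_pt : Fintype.card (Pt F) = Fintype.card F + 1 := by
  rw [← Nat.card_eq_fintype_card, card_projLine]

theorem pretransitive : MulAction.IsPretransitive (PG F) (Pt F) := by
  haveI := isThreePretransitive (F := F)
  haveI : MulAction.IsMultiplyPretransitive (PG F) (Pt F) 2 :=
    MulAction.isMultiplyPretransitive_of_le (n := 3) (by norm_num)
      (by rw [card_projLine]; have := Fintype.one_lt_card (α := F); omega)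
  exact MulAction.isPretransitive_of_is_two_pretransitive

/-- Number of fixed points. -/
noncomputable def fixCount (x : PG F) : ℕ := Nat.card {P : Pt F // x • P = P}

theorem fixCount_conj (x y : PG F) : fixCount (y * x * y⁻¹) = fixCount x := by
  refine Nat.card_congr ((MulAction.toPerm y⁻¹).subtypeEquiv fun P => ?_)
  simp only [MulAction.toPerm_apply, mul_smul]
  rw [eq_inv_smul_iff.symm]

theorem fixCount_one : fixCount (1 : PG F) = Fintype.card F + 1 := by
  rw [fixCount, ← card_projLine (F := F)]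
  exact Nat.card_congr (Equiv.subtypeUnivEquiv fun P => one_smul _ P)

variable [DecidableEq F]

namespace TorusData

variable (D : TorusData F)

/-- The sign `ε` with `p - ε = |T|`. -/
noncomputable def eps : ℤ := (D.nfix : ℤ) - 1

theorem eps_cases : D.eps = 1 ∨ D.eps = -1 := by
  rcases D.nfix_cases with h | h <;> rw [eps, h] <;> norm_num

theorem eps_card : (Fintype.card F : ℤ) - D.eps = D.M * D.h := by
  have := D.card_T_add
  rw [D.card_T] at this
  rw [eps]; push_cast [← this]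
  omega

theorem half_odd : ∃ g : ℕ, Odd g ∧ (Fintype.card F : ℤ) + D.eps = 2 * g := by
  obtain ⟨k, hk⟩ := D.four
  obtain ⟨j, hj⟩ := D.hh
  obtain ⟨i, hi⟩ := D.hodd
  have h := D.eps_card
  have hmh : (D.M : ℤ) * D.h = 4 * ((k : ℤ) * D.h) := by rw [hk]; push_cast; ring
  rw [hmh] at h
  generalize (k : ℤ) * D.h = a at h
  rcases D.eps_cases with e | e <;> rw [e] at h ⊢
  · exact ⟨i + 1, by rw [Nat.odd_iff]; omega, by omega⟩
  · exact ⟨i, by rw [Nat.odd_iff]; omega, by omega⟩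

theorem fixCount_T {x : PG F} (hx : x ∈ D.T) (hx1 : x ≠ 1) : (fixCount x : ℤ) = 1 + D.eps := by
  rw [fixCount, D.fix_eq hx hx1, eps]; ring

theorem w_ne_one : D.w ≠ 1 := fun h => D.w_sq_ne (by rw [h, one_mul])

/-- `x ↦ x ^ h` lands in the cyclic part. -/
theorem pow_h_mem {x : PG F} (hx : x ∈ D.T) : x ^ D.h ∈ Subgroup.zpowers D.w := by
  have hle : Subgroup.zpowers D.w ≤ D.T := Subgroup.zpowers_le.2 D.w_mem
  haveI : IsMulCommutative D.T := ⟨⟨fun a b => Subtype.ext (D.comm a.2 b.2)⟩⟩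
  let Z := (Subgroup.zpowers D.w).subgroupOf D.T
  have hZ : Z.index = D.h := by
    have h1 : Nat.card Z = D.M := by
      rw [Nat.card_congr (Subgroup.subgroupOfEquivOfLe hle).toEquiv, Nat.card_zpowers, D.hM]
    have h2 := Z.card_mul_index
    rw [h1, D.card_T] at h2
    exact Nat.eq_of_mul_eq_mul_left D.M_pos h2
  have := Subgroup.pow_index_mem Z ⟨x, hx⟩
  rw [hZ, Subgroup.mem_subgroupOf] at this
  exact this

/-- The character of order four of the cyclic part. -/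
noncomputable def chiW : Subgroup.zpowers D.w →* ℂˣ :=
  monoidHomOfForallMemZpowers (g := ⟨D.w, Subgroup.mem_zpowers _⟩)
    (g' := Units.mk0 Complex.I Complex.I_ne_zero)
    (fun ⟨x, hx⟩ => by
      obtain ⟨k, rfl⟩ := hx
      exact ⟨k, rfl⟩)
    (by
      have h4 : orderOf (Units.mk0 Complex.I Complex.I_ne_zero : ℂˣ) ∣ 4 := by
        refine orderOf_dvd_of_pow_eq_one (Units.ext ?_)
        simp
      rw [← Subgroup.orderOf_coe]
      show orderOf (Units.mk0 Complex.I Complex.I_ne_zero : ℂˣ) ∣ orderOf D.w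
      rw [D.hM]
      exact h4.trans D.four)

theorem chiW_w : D.chiW ⟨D.w, Subgroup.mem_zpowers _⟩ = Units.mk0 Complex.I Complex.I_ne_zero :=
  monoidHomOfForallMemZpowers_apply_gen _ _

/-- The character of order four of the torus. -/
noncomputable def chi : D.T →* ℂˣ where
  toFun x := D.chiW ⟨(x : PG F) ^ D.h, D.pow_h_mem x.2⟩
  map_one' := by
    rw [← map_one D.chiW]; congr 1; exact Subtype.ext (by simp)
  map_mul' x y := by
    rw [← map_mul]; congr 1
    exact Subtype.ext ((show Commute (x : PG F) y from D.comm x.2 y.2).mul_pow _)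

theorem chi_w_pow (i : ℕ) : (D.chi ⟨D.w ^ i, D.T.pow_mem D.w_mem _⟩ : ℂ) = Complex.I ^ (i * D.h) := by
  have h : D.chi ⟨D.w ^ i, D.T.pow_mem D.w_mem _⟩ =
      D.chiW (⟨D.w, Subgroup.mem_zpowers _⟩ ^ (i * D.h)) :=
    congrArg D.chiW (Subtype.ext (by simp [← pow_mul]))
  rw [h, map_pow, chiW_w]
  simp

theorem chi_pow_four (x : D.T) : (D.chi x : ℂ) ^ 4 = 1 := by
  obtain ⟨k, hk⟩ := D.pow_h_mem x.2
  have hx : D.chi x = Units.mk0 Complex.I Complex.I_ne_zero ^ k := by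
    rw [← D.chiW_w, ← map_zpow]
    exact congrArg D.chiW (Subtype.ext (by rw [SubgroupClass.coe_zpow]; exact hk.symm))
  rw [← Units.val_pow_eq_pow_val, hx, ← zpow_natCast, ← _root_.zpow_mul, mul_comm, _root_.zpow_mul]
  simp

theorem chi_sq (x : D.T) : (D.chi x : ℂ) ^ 2 = ((sgn (x : PG F) : ℤ) : ℂ) := by
  obtain ⟨k, hk⟩ := D.pow_h_mem x.2
  have hx : D.chi x = Units.mk0 Complex.I Complex.I_ne_zero ^ k := by
    rw [← D.chiW_w, ← map_zpow]
    exact congrArg D.chiW (Subtype.ext (by rw [SubgroupClass.coe_zpow]; exact hk.symm))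
  have hs : sgn (x : PG F) = (-1 : ℤˣ) ^ k := by
    obtain ⟨j, hj⟩ := D.hh
    have : sgn (D.w ^ k) = sgn ((x : PG F) ^ D.h) := congrArg _ hk
    rw [map_zpow, D.hw, map_pow, hj, pow_succ, pow_mul, Int.units_sq, one_pow, one_mul] at this
    exact this.symm
  rw [hs, ← Units.val_pow_eq_pow_val, hx, ← zpow_natCast, ← _root_.zpow_mul, mul_comm, _root_.zpow_mul]
  rcases Int.even_or_odd k with e | e
  · rw [show ((Units.mk0 Complex.I Complex.I_ne_zero : ℂˣ) ^ ((2 : ℕ) : ℤ)) = -1 from Units.ext (by simp),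
      e.neg_one_zpow, e.neg_one_zpow]
    simp
  · rw [show ((Units.mk0 Complex.I Complex.I_ne_zero : ℂˣ) ^ ((2 : ℕ) : ℤ)) = -1 from Units.ext (by simp),
      e.neg_one_zpow, e.neg_one_zpow]
    simp

theorem chi_conj (x : D.T) : conj (D.chi x : ℂ) = (D.chi x⁻¹ : ℂ) := by
  have h1 : ‖(D.chi x : ℂ)‖ = 1 := CharInduce.norm_hom D.chi x
  rw [map_inv, Units.val_inv_eq_inv_val, Complex.inv_eq_conj h1]

/-- The first function on `PGL(2,F)`. -/
noncomputable def theta : PG F → ℂ := Cfsg.indFun D.T fun x => 1 - (D.chi x : ℂ)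

/-- The second function. -/
noncomputable def theta' : PG F → ℂ :=
  Cfsg.indFun D.T fun x => ((sgn (x : PG F) : ℤ) : ℂ) - (D.chi x : ℂ)

theorem theta_gen : Cfsg.IsGeneralizedCharacter (PG F) D.theta :=
  CharInduce.IsGen.ind _ (CharInduce.IsGen.sub (IsGen.of_char CharInduce.IsChar.one)
    (IsGen.of_char (CharInduce.isCharacter_hom D.chi)))

theorem theta'_gen : Cfsg.IsGeneralizedCharacter (PG F) D.theta' := by
  refine CharInduce.IsGen.ind _ (CharInduce.IsGen.sub ?_ (IsGen.of_char (CharInduce.isCharacter_hom D.chi)))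
  convert IsGen.of_char (CharInduce.isCharacter_hom ((D.chi) * (D.chi))) using 1
  funext x
  rw [← D.chi_sq x]
  simp [pow_two]

theorem theta_T {x : D.T} (hx : x ≠ 1) : D.theta x = 2 - D.chi x - D.chi x⁻¹ := by
  rw [theta, D.isTorus.indFun_apply _ hx]; ring

theorem theta'_T {x : D.T} (hx : x ≠ 1) :
    D.theta' x = 2 * ((sgn (x : PG F) : ℤ) : ℂ) - D.chi x - D.chi x⁻¹ := by
  rw [theta', D.isTorus.indFun_apply _ hx]
  have : sgn ((x⁻¹ : D.T) : PG F) = sgn (x : PG F) := by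
    rw [Subgroup.coe_inv, map_inv, Int.units_inv_eq_self]
  rw [this]; ring

/-- Where the two functions do not vanish. -/
theorem theta_support {g : PG F} (h : D.theta g ≠ 0 ∨ D.theta' g ≠ 0) :
    ∃ y : PG F, ∃ x : D.T, y⁻¹ * g * y = x ∧ (x : PG F) ^ D.h ≠ 1 := by
  by_contra hc
  push Not at hc
  have h0 : ∀ f : D.T → ℂ, (∀ x : D.T, (x : PG F) ^ D.h = 1 → f x = 0) → Cfsg.indFun D.T f g = 0 := by
    intro f hf
    rw [CharInduce.indFun_apply, sum_eq_zero fun y _ => ?_, mul_zero]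
    by_cases hy : y⁻¹ * g * y ∈ D.T
    · rw [extendByZero_of_mem _ hy]; exact hf _ (hc y ⟨_, hy⟩ rfl)
    · rw [extendByZero_of_not_mem _ hy]
  have hchi : ∀ x : D.T, (x : PG F) ^ D.h = 1 → D.chi x = 1 := fun x hx => by
    rw [← map_one D.chiW]; exact congrArg D.chiW (Subtype.ext hx)
  rcases h with h | h <;> refine h (h0 _ fun x hx => ?_)
  · rw [hchi x hx]; simp
  · rw [← D.chi_sq x, hchi x hx]; simp

theorem theta_one : D.theta 1 = 0 ∧ D.theta' 1 = 0 := by
  constructor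
  · rw [theta, indFun_one]; simp
  · rw [theta', indFun_one]; simp

theorem theta_class : Cfsg.IsClassFunction (PG F) D.theta ∧ Cfsg.IsClassFunction (PG F) D.theta' :=
  ⟨isClassFunction_indFun _ _, isClassFunction_indFun _ _⟩

theorem sum_chi_pow (k : ℕ) (hk : ¬ 4 ∣ k) : ∑ x : D.T, (D.chi x : ℂ) ^ k = 0 := by
  have hne : (D.chi ⟨D.w, D.w_mem⟩ : ℂ) ^ k ≠ 1 := by
    have := D.chi_w_pow 1
    simp only [pow_one, one_mul] at this
    rw [this, ← pow_mul, Complex.I_pow_eq_pow_mod]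
    obtain ⟨j, hj⟩ := D.hh
    have h4 : ¬ 4 ∣ D.h * k := fun hd => hk ((Nat.Coprime.dvd_of_dvd_mul_left (by
      rw [show (4 : ℕ) = 2 ^ 2 from rfl]
      exact (Nat.coprime_two_left.2 D.hh).pow_left 2) hd))
    have hm : (D.h * k) % 4 = 1 ∨ (D.h * k) % 4 = 2 ∨ (D.h * k) % 4 = 3 := by omega
    rcases hm with e | e | e <;> rw [e] <;> simp [Complex.ext_iff, pow_succ] <;> norm_num
  have key : (D.chi ⟨D.w, D.w_mem⟩ : ℂ) ^ k * ∑ x : D.T, (D.chi x : ℂ) ^ k =
      ∑ x : D.T, (D.chi x : ℂ) ^ k := by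
    rw [mul_sum]
    exact Fintype.sum_equiv (Equiv.mulLeft ⟨D.w, D.w_mem⟩) _ _ fun x => by
      simp [mul_pow]
  exact (mul_left_eq_self₀.1 key).resolve_left hne

theorem chi_inv (x : D.T) : (D.chi x⁻¹ : ℂ) = (D.chi x : ℂ) ^ 3 := by
  rw [map_inv, Units.val_inv_eq_inv_val]
  refine inv_eq_of_mul_eq_one_right ?_
  rw [← pow_succ', D.chi_pow_four]

theorem sum_T (c₀ c₁ c₂ c₃ : ℂ) :
    ∑ x : D.T, (c₀ + c₁ * (D.chi x : ℂ) + c₂ * (D.chi x : ℂ) ^ 2 + c₃ * (D.chi x : ℂ) ^ 3) =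
      c₀ * Nat.card D.T := by
  simp only [sum_add_distrib, ← mul_sum, D.sum_chi_pow 2 (by norm_num), D.sum_chi_pow 3 (by norm_num)]
  have h1 := D.sum_chi_pow 1 (by norm_num)
  simp only [pow_one] at h1
  rw [h1, sum_const, card_univ, ← Nat.card_eq_fintype_card, nsmul_eq_mul]
  ring

theorem inner_eq {f f' : D.T → ℂ} (hf : f 1 = 0) (k : D.T → ℂ)
    (h : ∀ x : D.T, x ≠ 1 → f x * conj (f' x + f' x⁻¹) = k x) (h1 : k 1 = 0) :
    Cfsg.classInner (Cfsg.indFun D.T f) (Cfsg.indFun D.T f') = (Nat.card D.T : ℂ)⁻¹ * ∑ x : D.T, k x := by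
  rw [classInner_indFun_left _ f _ (isClassFunction_indFun _ f'), Cfsg.classInner]
  congr 1
  refine sum_congr rfl fun x _ => ?_
  by_cases hx : x = 1
  · rw [hx, hf, h1, zero_mul]
  · rw [D.isTorus.indFun_apply _ hx, h x hx]

theorem theta_inner : Cfsg.classInner D.theta D.theta = 3 ∧
    Cfsg.classInner D.theta D.theta' = 1 ∧ Cfsg.classInner D.theta' D.theta' = 3 ∧
    Cfsg.classInner D.theta (fun _ => 1) = 1 ∧ Cfsg.classInner D.theta' (fun _ => 1) = 0 := by
  have hT : (Nat.card D.T : ℂ) ≠ 0 := card_ne_zero_complex _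
  have hc : ∀ x : D.T, conj (D.chi x : ℂ) = (D.chi x : ℂ) ^ 3 ∧ conj (D.chi x⁻¹ : ℂ) = D.chi x := by
    intro x
    rw [D.chi_conj, D.chi_conj, inv_inv]
    exact ⟨D.chi_inv x, rfl⟩
  have h4 := D.chi_pow_four
  have hs : ∀ x : D.T, sgn ((x⁻¹ : D.T) : PG F) = sgn (x : PG F) := fun x => by
    rw [Subgroup.coe_inv, map_inv, Int.units_inv_eq_self]
  refine ⟨?_, ?_, ?_, ?_, ?_⟩
  · rw [theta, D.inner_eq (by simp)
      (fun x => 3 + (-3) * (D.chi x : ℂ) + 1 * (D.chi x : ℂ) ^ 2 + (-1) * (D.chi x : ℂ) ^ 3),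
      D.sum_T]
    · field_simp
    · intro x _
      simp only [map_add, map_sub, map_one, (hc x).1, (hc x).2]
      linear_combination (h4 x)
    · norm_num
  · rw [theta, theta', D.inner_eq (by simp)
      (fun x => 1 + (-1) * (D.chi x : ℂ) + 3 * (D.chi x : ℂ) ^ 2 + (-3) * (D.chi x : ℂ) ^ 3),
      D.sum_T]
    · field_simp
    · intro x _
      rw [hs x]
      simp only [map_add, map_sub, ← D.chi_sq, map_pow, (hc x).1, (hc x).2]
      linear_combination (2 * (D.chi x : ℂ) ^ 2 - 2 * (D.chi x : ℂ) ^ 3 + 1) * (h4 x)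
    · norm_num
  · rw [theta', D.inner_eq (by simp)
      (fun x => 3 + (-1) * (D.chi x : ℂ) + 1 * (D.chi x : ℂ) ^ 2 + (-3) * (D.chi x : ℂ) ^ 3),
      D.sum_T]
    · field_simp
    · intro x _
      rw [hs x]
      simp only [map_add, map_sub, ← D.chi_sq, map_pow, (hc x).1, (hc x).2]
      linear_combination (2 * (D.chi x : ℂ) ^ 4 - 2 * (D.chi x : ℂ) ^ 3 - (D.chi x : ℂ) + 3) * (h4 x)
    · norm_num
  · rw [theta, classInner_indFun_left _ _ _ (fun _ _ => rfl), Cfsg.classInner]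
    have h := D.sum_T 1 (-1) 0 0
    rw [sum_congr rfl (g := fun x : D.T => (1 : ℂ) + (-1) * (D.chi x : ℂ) + 0 * (D.chi x : ℂ) ^ 2 +
      0 * (D.chi x : ℂ) ^ 3) (fun x _ => by simp; ring), h]
    field_simp
  · rw [theta', classInner_indFun_left _ _ _ (fun _ _ => rfl), Cfsg.classInner]
    have h := D.sum_T 0 (-1) 1 0
    rw [sum_congr rfl (g := fun x : D.T => (0 : ℂ) + (-1) * (D.chi x : ℂ) + 1 * (D.chi x : ℂ) ^ 2 +
      0 * (D.chi x : ℂ) ^ 3) (fun x _ => by rw [← D.chi_sq]; simp; ring), h]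
    ring

/-- Values on the cyclic part. -/
theorem theta_w_pow (i : ℕ) (hi : D.w ^ i ≠ 1) :
    (i % 2 = 1 → D.theta (D.w ^ i) = 2 ∧ D.theta' (D.w ^ i) = -2) ∧
    (i % 4 = 2 → D.theta (D.w ^ i) = 4 ∧ D.theta' (D.w ^ i) = 4) ∧
    (i % 4 = 0 → D.theta (D.w ^ i) = 0 ∧ D.theta' (D.w ^ i) = 0) := by
  have hx : (⟨D.w ^ i, D.T.pow_mem D.w_mem _⟩ : D.T) ≠ 1 := fun h => hi (congrArg Subtype.val h)
  have h1 := D.theta_T hx
  have h2 := D.theta'_T hx
  have hs := D.chi_sq ⟨D.w ^ i, D.T.pow_mem D.w_mem _⟩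
  rw [D.chi_inv, D.chi_w_pow] at h1 h2
  rw [D.chi_w_pow] at hs
  simp only at h1 h2 hs
  rw [← hs] at h2
  rw [h1, h2]
  obtain ⟨j, hj⟩ := D.hh
  have hI : ∀ n : ℕ, Complex.I ^ (4 * n) = 1 := fun n => by rw [pow_mul]; simp
  refine ⟨fun he => ?_, fun he => ?_, fun he => ?_⟩
  · obtain ⟨a, rfl⟩ : ∃ a, i = 2 * a + 1 := ⟨i / 2, by omega⟩
    have : ((2 * a + 1) * D.h) % 4 = 1 ∨ ((2 * a + 1) * D.h) % 4 = 3 := by
      have : Odd ((2 * a + 1) * D.h) := (odd_two_mul_add_one a).mul D.hh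
      rw [Nat.odd_iff] at this
      omega
    rcases this with e | e <;>
      rw [Complex.I_pow_eq_pow_mod, e] <;> constructor <;> simp [pow_succ, Complex.ext_iff]
  · obtain ⟨a, rfl⟩ : ∃ a, i = 4 * a + 2 := ⟨i / 4, by omega⟩
    have : ((4 * a + 2) * D.h) % 4 = 2 := by
      rw [hj, show (4 * a + 2) * (2 * j + 1) = 4 * (2 * a * j + a + j) + 2 by ring]; omega
    rw [Complex.I_pow_eq_pow_mod, this]
    constructor <;> simp [pow_succ] <;> norm_num
  · obtain ⟨a, rfl⟩ : ∃ a, i = 4 * a := ⟨i / 4, by omega⟩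
    rw [mul_assoc, hI]
    constructor <;> norm_num

end TorusData

end Cfsg.Agent.H71.AlmostCyclic
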